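import Groth.Agent.Deform.Luna.MaxTorusFactor
import Groth.Agent.Deform.LocalConj
import Groth.Agent.Deform.Chev.Components

/-!
# Conjugacy of maximal tori locally for the etale topology
-/

universe u

open CategoryTheory CategoryTheory.Limits MonoidalCategory CartesianMonoidalCategory MonObj GrpObj AlgebraicGeometry

attribute [local instance] CategoryTheory.Hom.monoid CategoryTheory.Hom.group
set_option linter.style.haveILetI false

namespace Groth.Agent.Deform.Luna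

open DiagMaps
open Chev (Pt pimg)

noncomputable section

section Field

variable {k : Type u} [Field k] [IsAlgClosed k] {G T₁ T₂ : Over (Spec (CommRingCat.of k))} [GrpObj G] [GrpObj T₁]
  [GrpObj T₂] [Smooth G.hom] [QuasiCompact G.hom]

/-- Maximal subtori of a smooth group, connected or not, are conjugate. -/
theorem conj_maxTorus (i₁ : T₁ ⟶ G) (i₂ : T₂ ⟶ G) (h₁ : AGF.IsMaxTorus i₁) (h₂ : AGF.IsMaxTorus i₂) :
    ∃ (g : Pt G) (f : T₁ ≅ T₂), IsMonHom f.hom ∧ f.hom ≫ i₂ = AGF.conjBy g i₁ := by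
  obtain ⟨G₀, iG₀, i₀, hm, hcl, hop, hsm, hqc, hconn, hr⟩ := Chev.exists_neutral G
  haveI := hm; haveI := hcl; haveI := hsm; haveI := hqc; haveI := hconn
  haveI : Mono i₀ := (Over.forget _).mono_of_mono_map (inferInstanceAs (Mono i₀.left))
  have key : ∀ {T : Over (Spec (CommRingCat.of k))} [GrpObj T] (i : T ⟶ G), AGF.IsMaxTorus i →
      ∃ l : T ⟶ G₀, l ≫ i₀ = i ∧ AGF.IsMaxTorus l := by
    intro T _ i hi
    obtain ⟨him, himo, hT, hmax⟩ := hi
    haveI := him; haveI := himo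
    obtain ⟨hTa, hTl, hTs, hTc⟩ := Deform.TorusBasic.props hT
    haveI := hTs; haveI := hTc
    haveI : IsReduced T.left := GrpSchLib.isReduced_of_smooth_field T.hom
    obtain ⟨l, hl⟩ := Chev.exists_lift_neutral i₀ hr i (1 : Pt T) (MonObj.one_comp i)
    haveI : IsMonHom l := Deform.isMonHom_of_comp l i₀ (i := i) hl
    haveI : Mono (l ≫ i₀) := by rw [hl]; exact himo
    haveI : Mono l := mono_of_mono l i₀
    exact ⟨l, hl, inferInstance, inferInstance, hT, fun T' _ j _ _ f hT' hf =>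
      hmax T' (j ≫ i₀) f hT' (by rw [reassoc_of% hf, hl])⟩
  obtain ⟨l₁, e₁, m₁⟩ := key i₁ h₁
  obtain ⟨l₂, e₂, m₂⟩ := key i₂ h₂
  obtain ⟨g, f, hf, hfe⟩ := Borel.conj_of_max l₁ l₂ m₁ m₂
  refine ⟨g ≫ i₀, f, hf, ?_⟩
  rw [← e₂, reassoc_of% hfe, ← e₁]
  simp only [AGF.conjBy, MonObj.mul_comp, GrpObj.inv_comp, Category.assoc]

end Field

variable {S : Scheme.{u}}

/-- The comparison of two successive base changes. -/
def pcIso {U V : Scheme.{u}} (t : V ⟶ U) (g : U ⟶ S) (H : Over S) : Red.bc (t ≫ g) H ≅ Red.bc t (Red.bc g H) :=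
  (Over.pullbackComp t g).app H

theorem pcIso_naturality {U V : Scheme.{u}} (t : V ⟶ U) (g : U ⟶ S) {H G : Over S} (i : H ⟶ G) :
    (Over.pullback (t ≫ g)).map i ≫ (pcIso t g G).hom =
      (pcIso t g H).hom ≫ (Over.pullback t).map ((Over.pullback g).map i) :=
  (Over.pullbackComp t g).hom.naturality i

set_option backward.isDefEq.respectTransparency false in
instance isMonHom_pcIso {U V : Scheme.{u}} (t : V ⟶ U) (g : U ⟶ S) (H : Over S) [GrpObj H] :
    IsMonHom (pcIso t g H).hom := by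
  exact ((Functor.mapGrpNatIso (Over.pullbackComp t g) ≪≫ Functor.mapGrpCompIso).hom.app (Grp.mk H)).hom.isMonHom_hom

/-- A smooth scheme has a point over an etale neighbourhood of each point of its image. -/
theorem exists_etale_point' {T G P : Over S} (j : T ⟶ G) [Smooth T.hom] (t : P ⟶ T) (p : P.left) :
    ∃ (S' : Scheme.{u}) (f : S' ⟶ S), Etale f ∧ P.hom p ∈ Set.range f ∧
      ∃ g : 𝟙_ (Over S') ⟶ Red.bc f G, ∃ z : (Over.map f).obj (𝟙_ (Over S')) ⟶ T,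
        z ≫ j = Agent.DSPtsLib.theta f g := by
  obtain ⟨S', f, s', -, hf, hs', h, hh⟩ := SmoothSecLib.exists_etale_section_scheme T.hom (t.left p)
  let z : (Over.map f).obj (𝟙_ (Over S')) ⟶ T := Over.homMk h (hh.trans (Category.id_comp f).symm)
  obtain ⟨g, hg⟩ := (Agent.DSPtsLib.theta_bijective f).surjective (z ≫ j)
  refine ⟨S', f, hf, ⟨s', ?_⟩, g, z, hg.symm⟩
  rw [hs', ← Scheme.Hom.comp_apply, Over.w t]

variable {G T₁ T₂ : Over S} [GrpObj G]

/-- The points `z` of `G` over `Y` conjugating one subgroup into the other and back. -/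
def ConjPt (i₁ : T₁ ⟶ G) (i₂ : T₂ ⟶ G) {Y : Over S} (z : Y ⟶ G) : Prop :=
  ∀ (X : Over S) (p : X ⟶ Y),
    (∀ a : X ⟶ T₁, ∃ b : X ⟶ T₂, (p ≫ z) * (a ≫ i₁) * (p ≫ z)⁻¹ = b ≫ i₂) ∧
    (∀ b : X ⟶ T₂, ∃ a : X ⟶ T₁, (p ≫ z)⁻¹ * (b ≫ i₂) * (p ≫ z) = a ≫ i₁)

/-- A morphism factors through a monomorphism if it does so locally on the source. -/
theorem exists_factor_of_cover {X T : Over S} (i : T ⟶ G) [Mono i] (c : X ⟶ G) (V : X.left.OpenCover)
    (h : ∀ s, ∃ b : Over.mk (V.f s ≫ X.hom) ⟶ T, b ≫ i = (Over.homMk (V.f s) : Over.mk (V.f s ≫ X.hom) ⟶ X) ≫ c) :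
    ∃ b : X ⟶ T, b ≫ i = c := by
  choose b hb using h
  haveI : Mono i.left := (inferInstance : Mono ((Over.forget S).map i))
  have hl : ∀ s, (b s).left ≫ i.left = V.f s ≫ c.left := fun s => congrArg CommaMorphism.left (hb s)
  let m := V.glueMorphisms (fun s => (b s).left) fun x y => by
    rw [← cancel_mono i.left, Category.assoc, Category.assoc, hl, hl, pullback.condition_assoc]
  have hm : m ≫ i.left = c.left := V.hom_ext _ _ fun s => by
    rw [← Category.assoc, V.ι_glueMorphisms, hl]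
  exact ⟨Over.homMk m (by rw [← Over.w i, ← Category.assoc, hm]; exact Over.w c), Over.OverMorphism.ext hm⟩

/-- The map on a disjoint union given by a map on each piece. -/
def sigmaPt {J : Type u} (Y : J → Over S) (z : ∀ s, Y s ⟶ G) : Over.mk (Sigma.desc fun s => (Y s).hom) ⟶ G :=
  Over.homMk (Sigma.desc fun s => (z s).left) (Sigma.hom_ext _ _ fun s => by
    show _ = Sigma.ι (fun s => (Y s).left) s ≫ Sigma.desc fun s => (Y s).hom
    rw [Sigma.ι_desc_assoc, Sigma.ι_desc]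
    exact Over.w (z s))

/-- Conjugating points glue over a disjoint union. -/
theorem conjPt_sigma (i₁ : T₁ ⟶ G) [Mono i₁] (i₂ : T₂ ⟶ G) [Mono i₂] {J : Type u} (Y : J → Over S)
    (z : ∀ s, Y s ⟶ G) (hz : ∀ s, ConjPt i₁ i₂ (z s)) :
    ConjPt i₁ i₂ (sigmaPt Y z) := by
  intro X p
  let C := (sigmaOpenCover fun s => (Y s).left).pullback₁ p.left
  let q : ∀ s, Over.mk (C.f s ≫ X.hom) ⟶ Y s := fun s => Over.homMk
    (pullback.snd p.left (Sigma.ι (fun s => (Y s).left) s)) (by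
      show pullback.snd p.left (Sigma.ι (fun s => (Y s).left) s) ≫ (Y s).hom =
        pullback.fst p.left (Sigma.ι (fun s => (Y s).left) s) ≫ X.hom
      rw [← Over.w p, ← Category.assoc (pullback.fst _ _), pullback.condition, Category.assoc]
      congr 1
      exact (Sigma.ι_desc (fun s => (Y s).hom) s).symm)
  let ρ : ∀ s, Over.mk (C.f s ≫ X.hom) ⟶ X := fun s => Over.homMk (C.f s)
  let W : Over.mk (Sigma.desc fun s => (Y s).hom) ⟶ G := sigmaPt Y z
  have hq : ∀ s, ρ s ≫ p ≫ W = q s ≫ z s := fun s => by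
    apply Over.OverMorphism.ext
    show pullback.fst p.left (Sigma.ι (fun s => (Y s).left) s) ≫ p.left ≫ Sigma.desc (fun s => (z s).left) = _
    rw [pullback.condition_assoc, Sigma.ι_desc]
    rfl
  constructor
  · intro a
    obtain ⟨b, hb⟩ := exists_factor_of_cover i₂ ((p ≫ W) * (a ≫ i₁) * (p ≫ W)⁻¹) C fun s => by
      obtain ⟨b, hb⟩ := (hz s _ (q s)).1 (ρ s ≫ a)
      refine ⟨b, ?_⟩
      show b ≫ i₂ = ρ s ≫ _
      rw [MonObj.comp_mul, MonObj.comp_mul, GrpObj.comp_inv, hq, ← hb, Category.assoc]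
    exact ⟨b, hb.symm⟩
  · intro a
    obtain ⟨b, hb⟩ := exists_factor_of_cover i₁ ((p ≫ W)⁻¹ * (a ≫ i₂) * (p ≫ W)) C fun s => by
      obtain ⟨b, hb⟩ := (hz s _ (q s)).2 (ρ s ≫ a)
      refine ⟨b, ?_⟩
      show b ≫ i₁ = ρ s ≫ _
      rw [MonObj.comp_mul, MonObj.comp_mul, GrpObj.comp_inv, hq, ← hb, Category.assoc]
    exact ⟨b, hb.symm⟩

variable [GrpObj T₁] [GrpObj T₂] [Smooth G.hom] [IsSeparated G.hom] [QuasiCompact G.hom]

set_option maxHeartbeats 1000000 in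
/-- Maximal tori are conjugate on an etale neighbourhood of each point. -/
theorem exists_conj_near {i₁ : T₁ ⟶ G} {i₂ : T₂ ⟶ G} (h₁ : Red.IsMaximalTorus i₁) (h₂ : Red.IsMaximalTorus i₂)
    (s : S) : ∃ Y : Over S, Etale Y.hom ∧ s ∈ Set.range Y.hom ∧ ∃ z : Y ⟶ G, ConjPt i₁ i₂ z := by
  haveI := h₁.1; haveI := h₁.2.1; haveI := h₂.1; haveI := h₂.2.1
  have hm₁ := Deform.isMultTypeFT_of_isTorus h₁.2.2.1
  have hm₂ := Deform.isMultTypeFT_of_isTorus h₂.2.2.1
  obtain ⟨S₁, f₁, M₁, iM₁, hf₁, ⟨s₁, hs₁⟩, hM₁, ⟨e₁⟩⟩ := QuasiIsotrivial.exists_etale_split hm₁ s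
  obtain ⟨S₂, f₂, M₂, iM₂, hf₂, hs₂, hM₂, ⟨eT'⟩⟩ :=
    QuasiIsotrivial.exists_etale_split (GrpSchLib.MultTypeBC.isMultTypeFT_bc f₁ hm₂) s₁
  haveI := hf₁; haveI := hf₂; haveI := hM₁; haveI := hM₂
  let g : S₂ ⟶ S := f₂ ≫ f₁
  have hsg : s ∈ Set.range g := by
    obtain ⟨u, hu⟩ := hs₂
    exact ⟨u, by rw [Scheme.Hom.comp_apply, hu, hs₁]⟩
  obtain ⟨a₁⟩ := GrpSchLib.MultTypeBC.bc_bc f₂ f₁ T₁
  obtain ⟨a₂⟩ := GrpSchLib.MultTypeBC.bc_bc f₂ f₁ T₂
  obtain ⟨a₃⟩ := GrpSchLib.MultTypeBC.bc_iso f₂ e₁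
  obtain ⟨a₄⟩ := GrpSchLib.MultTypeBC.bc_DS f₂ M₁
  let eR : Grp.mk (Red.bc g T₁) ≅ Grp.mk (Red.DS S₂ M₁) := a₁.symm ≪≫ a₃ ≪≫ a₄
  let eT : Grp.mk (Red.bc g T₂) ≅ Grp.mk (Red.DS S₂ M₂) := a₂.symm ≪≫ eT'
  let bR : Red.bc g T₁ ≅ Red.DS S₂ M₁ := (Grp.forget _).mapIso eR
  let bT : Red.bc g T₂ ≅ Red.DS S₂ M₂ := (Grp.forget _).mapIso eT
  haveI : IsMonHom bR.hom := eR.hom.hom.isMonHom_hom
  haveI : IsMonHom bR.inv := eR.inv.hom.isMonHom_hom
  haveI : IsMonHom bT.hom := eT.hom.hom.isMonHom_hom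
  haveI : IsMonHom bT.inv := eT.inv.hom.isMonHom_hom
  haveI : Etale g := inferInstance
  obtain ⟨β, hβ⟩ := exists_lift_geomPt g s hsg
  -- conjugacy at the geometric point
  have hmax₁ : AGF.IsMaxTorus ((Over.pullback (β ≫ g)).map i₁) := by rw [hβ]; exact Borel.isMaxTorus_geom h₁ s
  have hmax₂ : AGF.IsMaxTorus ((Over.pullback (β ≫ g)).map i₂) := by rw [hβ]; exact Borel.isMaxTorus_geom h₂ s
  haveI : Smooth (Red.bc (β ≫ g) G).hom := Deform.smooth_bc (β ≫ g)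
  haveI : QuasiCompact (Red.bc (β ≫ g) G).hom := inferInstanceAs (QuasiCompact (pullback.snd G.hom (β ≫ g)))
  obtain ⟨gK, fK, hfm, hfK⟩ := conj_maxTorus _ _ hmax₁ hmax₂
  haveI := hfm
  let fI : Red.bc β (Red.bc g T₁) ≅ Red.bc β (Red.bc g T₂) := (pcIso β g T₁).symm ≪≫ fK ≪≫ pcIso β g T₂
  haveI : IsMonHom fI.hom := inferInstanceAs (IsMonHom ((pcIso β g T₁).inv ≫ fK.hom ≫ (pcIso β g T₂).hom))
  let gK' : 𝟙_ _ ⟶ Red.bc β (Red.bc g G) := gK ≫ (pcIso β g G).hom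
  have hE : AGF.conjBy gK' ((Over.pullback β).map ((Over.pullback g).map i₁)) =
      fI.hom ≫ (Over.pullback β).map ((Over.pullback g).map i₂) := by
    have e₁ := (Iso.inv_comp_eq _).mpr (pcIso_naturality β g i₁)
    rw [← e₁]
    simp only [fI, Iso.trans_hom, Iso.symm_hom, Category.assoc]
    rw [← pcIso_naturality β g i₂, reassoc_of% hfK]
    simp only [AGF.conjBy, gK', MonObj.mul_comp, GrpObj.inv_comp, MonObj.comp_mul, GrpObj.comp_inv, Category.assoc,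
      comp_toUnit_assoc]
  let F := Over.pullback β
  let B₁ : F.obj (Red.DS S₂ M₁) ≅ Red.DS _ M₁ := bcDS β M₁
  let B₂ : F.obj (Red.DS S₂ M₂) ≅ Red.DS _ M₂ := bcDS β M₂
  let aI : Red.DS (Spec (CommRingCat.of (AlgebraicClosure (S.residueField s)))) M₁ ≅
      Red.DS (Spec (CommRingCat.of (AlgebraicClosure (S.residueField s)))) M₂ :=
    (bcDS β M₁).symm ≪≫ (F.mapIso bR).symm ≪≫ fI ≪≫ F.mapIso bT ≪≫ bcDS β M₂
  haveI : IsMonHom aI.hom := inferInstanceAs (IsMonHom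
    ((bcDS β M₁).inv ≫ F.map bR.inv ≫ fI.hom ≫ F.map bT.hom ≫ (bcDS β M₂).hom))
  obtain ⟨φ, hφ⟩ := exists_rep (chartDS (𝟙 _) M₁) (chartDS (𝟙 _) M₂) aI.hom
  obtain ⟨ψ, hψ⟩ := exists_rep (chartDS (𝟙 _) M₂) (chartDS (𝟙 _) M₁) aI.inv
  have haφ := eq_DSmap_of_rep hφ
  have h12 : φ.comp ψ = AddMonoidHom.id M₁ := by
    have h3 := hφ.comp hψ
    rw [Iso.hom_inv_id, ← DSmap_id] at h3
    exact h3.unique (rep_DSmap _)
  have h21 : ψ.comp φ = AddMonoidHom.id M₂ := by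
    have h3 := hψ.comp hφ
    rw [Iso.inv_hom_id, ← DSmap_id] at h3
    exact h3.unique (rep_DSmap _)
  let D : Red.DS S₂ M₁ ≅ Red.DS S₂ M₂ := ⟨Red.DSmap S₂ φ, Red.DSmap S₂ ψ,
    by rw [DSmap_comp, h12, DSmap_id], by rw [DSmap_comp, h21, DSmap_id]⟩
  let w : Red.bc g T₁ ≅ Red.bc g T₂ := bR ≪≫ D ≪≫ bT.symm
  haveI : IsMonHom w.hom := inferInstanceAs (IsMonHom (bR.hom ≫ Red.DSmap S₂ φ ≫ bT.inv))
  have hw : F.map w.hom = fI.hom := by
    have h1 := bcDS_naturality β φ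
    rw [← haφ] at h1
    simp only [aI, Iso.trans_hom, Iso.symm_hom, Functor.mapIso_hom, Functor.mapIso_inv, Iso.hom_inv_id_assoc] at h1
    have h2 : F.map (Red.DSmap S₂ φ) = F.map bR.inv ≫ fI.hom ≫ F.map bT.hom :=
      (cancel_mono (bcDS β M₂).hom).mp (by simpa only [F, Category.assoc] using h1)
    simp only [w, D, Iso.trans_hom, Iso.symm_hom]
    rw [Functor.map_comp, Functor.map_comp, h2]
    simp only [Category.assoc, ← Functor.map_comp, Iso.hom_inv_id, CategoryTheory.Functor.map_id, Category.comp_id]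
    rw [← Category.assoc, ← Functor.map_comp, Iso.hom_inv_id, CategoryTheory.Functor.map_id, Category.id_comp]
    exact Category.comp_id _
  -- the transporter and a point of it
  let u₁ := (Over.pullback g).map i₁
  let u₂ := w.hom ≫ (Over.pullback g).map i₂
  haveI : IsMonHom u₂ := inferInstanceAs (IsMonHom (w.hom ≫ (Over.pullback g).map i₂))
  haveI : Smooth (Red.bc g G).hom := Deform.smooth_bc g
  haveI : IsSeparated (Red.bc g G).hom := inferInstanceAs (IsSeparated (pullback.snd G.hom g))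
  obtain ⟨T, j, -, hTs, key⟩ := Deform.exists_transporter
    (Deform.isMultType_of_ft (GrpSchLib.MultTypeBC.isMultTypeFT_bc g hm₁)) u₁ u₂
  haveI := hTs
  have hpt : ∀ (Y : Over (Spec (CommRingCat.of (AlgebraicClosure (S.residueField s))))) (h : Y ⟶ Red.bc β (Red.bc g T₁)),
      (toUnit Y ≫ gK') * (h ≫ F.map u₁) * (toUnit Y ≫ gK')⁻¹ = h ≫ F.map u₂ := fun Y h => by
    have h1 := congrArg (fun m => h ≫ m) hE
    simp only [AGF.conjBy, MonObj.comp_mul, GrpObj.comp_inv, comp_toUnit_assoc] at h1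
    rw [Functor.map_comp, hw]
    exact h1
  obtain ⟨t, -⟩ := (key _ (Agent.DSPtsLib.theta β gK')).mpr fun X' x h => by
    obtain ⟨Y, y, e, rfl⟩ := Deform.exists_pullPoint β X' x
    obtain ⟨h', hh'⟩ := (Agent.DSPtsLib.theta_bijective β).surjective (e.inv ≫ h)
    have hh : h = e.hom ≫ Agent.DSPtsLib.theta β h' := by rw [hh', Iso.hom_inv_id_assoc]
    have h1 := congrArg (fun m => e.hom ≫ Agent.DSPtsLib.theta β m) (hpt Y h')
    simp only [F, Agent.DSPtsLib.theta_mul, Deform.theta_inv, Deform.theta_map', MonObj.comp_mul,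
      GrpObj.comp_inv] at h1
    rw [hh, Category.assoc, Category.assoc, Category.assoc, ← h1, ← Agent.DSPtsLib.theta_comp,
      Subsingleton.elim y (toUnit Y)]
  obtain ⟨S', f, hf, hs', g', z, hz⟩ := exists_etale_point' j t (IsLocalRing.closedPoint _)
  haveI := hf
  let Y₀ : Over S₂ := (Over.map f).obj (𝟙_ (Over S'))
  refine ⟨(Over.map g).obj Y₀, ?_, ?_, ?_⟩
  · show Etale ((𝟙 S' ≫ f) ≫ g)
    infer_instance
  · obtain ⟨u, hu⟩ := hs'
    refine ⟨u, ?_⟩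
    show ((𝟙 S' ≫ f) ≫ g) u = s
    rw [Category.id_comp, Scheme.Hom.comp_apply, hu]
    show g ((𝟙 _ ≫ β) (IsLocalRing.closedPoint _)) = s
    rw [Category.id_comp, ← Scheme.Hom.comp_apply, hβ]
    show (Spec.map _ ≫ S.fromSpecResidueField s) _ = s
    rw [Scheme.Hom.comp_apply, Scheme.fromSpecResidueField_apply]
  obtain ⟨z₂, hz₂⟩ := (Agent.DSPtsLib.theta_bijective g).surjective ((Over.map g).map (𝟙 Y₀))
  obtain ⟨zg, hzg⟩ : ∃ zg : Y₀ ⟶ Red.bc g G, zg = z ≫ j := ⟨_, rfl⟩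
  refine ⟨Agent.DSPtsLib.theta g zg, fun X p => ?_⟩
  obtain ⟨Y, y, e, rfl⟩ := Deform.exists_pullPoint g X p
  have hk : ∀ h : Y ⟶ Red.bc g T₁, (y ≫ zg) * (h ≫ u₁) * (y ≫ zg)⁻¹ = h ≫ u₂ := fun h =>
    (key _ zg).mp ⟨z, hzg.symm⟩ Y y h
  have hk' : ∀ h : Y ⟶ Red.bc g T₁,
      ((Over.map g).map y ≫ Agent.DSPtsLib.theta g zg) * (Agent.DSPtsLib.theta g h ≫ i₁) *
        ((Over.map g).map y ≫ Agent.DSPtsLib.theta g zg)⁻¹ = Agent.DSPtsLib.theta g (h ≫ w.hom) ≫ i₂ := fun h => by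
    have h1 := congrArg (Agent.DSPtsLib.theta g) (hk h)
    simp only [u₁, u₂, ← Category.assoc h w.hom] at h1
    rw [Agent.DSPtsLib.theta_mul, Agent.DSPtsLib.theta_mul, Deform.theta_inv, theta_comp_map, theta_comp_map,
      Agent.DSPtsLib.theta_comp] at h1
    exact h1
  constructor
  · intro a
    obtain ⟨h, hh⟩ := (Agent.DSPtsLib.theta_bijective g).surjective (e.inv ≫ a)
    refine ⟨e.hom ≫ Agent.DSPtsLib.theta g (h ≫ w.hom), ?_⟩
    rw [show a = e.hom ≫ Agent.DSPtsLib.theta g h by rw [hh, Iso.hom_inv_id_assoc], Category.assoc, Category.assoc,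
      Category.assoc, ← hk' h, MonObj.comp_mul, MonObj.comp_mul, GrpObj.comp_inv]
  · intro b
    obtain ⟨h, hh⟩ := (Agent.DSPtsLib.theta_bijective g).surjective (e.inv ≫ b)
    refine ⟨e.hom ≫ Agent.DSPtsLib.theta g (h ≫ w.inv), ?_⟩
    have h2 := hk' (h ≫ w.inv)
    rw [Category.assoc h, Iso.inv_hom_id, Category.comp_id] at h2
    rw [show b = e.hom ≫ Agent.DSPtsLib.theta g h by rw [hh, Iso.hom_inv_id_assoc], Category.assoc, Category.assoc,
      Category.assoc, ← h2]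
    simp only [MonObj.comp_mul, GrpObj.comp_inv]
    group

/-- **Maximal tori are conjugate locally for the etale topology.** -/
theorem exists_etale_conj {i₁ : T₁ ⟶ G} {i₂ : T₂ ⟶ G} (h₁ : Red.IsMaximalTorus i₁) (h₂ : Red.IsMaximalTorus i₂) :
    ∃ (S' : Scheme.{u}) (f : S' ⟶ S), Etale f ∧ Surjective f ∧
      ∃ g : 𝟙_ (Over S') ⟶ Red.bc f G,
        SGA3x.ConjBy ((Over.pullback f).map i₁) ((Over.pullback f).map i₂) g := by
  haveI := h₁.1; haveI := h₁.2.1; haveI := h₂.1; haveI := h₂.2.1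
  choose Y hY hs z hz using exists_conj_near h₁ h₂
  haveI := hY
  let f : (∐ fun s => (Y s).left) ⟶ S := Sigma.desc fun s => (Y s).hom
  haveI : Etale f := IsZariskiLocalAtSource.sigmaDesc (P := @Etale) fun s => hY s
  haveI : Surjective f := ⟨fun x => by
    obtain ⟨v, hv⟩ := hs x
    exact ⟨Sigma.ι (fun s => (Y s).left) x v, by rw [← Scheme.Hom.comp_apply, Sigma.ι_desc]; exact hv⟩⟩
  let W : Over.mk f ⟶ G := sigmaPt Y z
  have hW : ConjPt i₁ i₂ W := conjPt_sigma i₁ i₂ Y z hz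
  let o : (Over.map f).obj (𝟙_ (Over (∐ fun s => (Y s).left))) ⟶ Over.mk f :=
    Over.homMk (𝟙 _) (Category.id_comp _ |>.trans (Category.id_comp f).symm)
  obtain ⟨g, hg⟩ := (Agent.DSPtsLib.theta_bijective f).surjective (o ≫ W)
  refine ⟨_, f, inferInstance, inferInstance, g, Deform.conjBy_of_points _ _ g fun X => ?_⟩
  have hp := hW _ ((Over.map f).map (toUnit X) ≫ o)
  rw [Category.assoc, ← hg, ← Agent.DSPtsLib.theta_comp] at hp
  constructor
  · intro h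
    obtain ⟨h', hh'⟩ := hp.1 (Agent.DSPtsLib.theta f h)
    obtain ⟨k, rfl⟩ := (Agent.DSPtsLib.theta_bijective f).surjective h'
    exact ⟨k, (Agent.DSPtsLib.theta_bijective f).injective (by
      rw [Agent.DSPtsLib.theta_mul, Agent.DSPtsLib.theta_mul, Deform.theta_inv, theta_comp_map, theta_comp_map, hh'])⟩
  · intro h
    obtain ⟨h', hh'⟩ := hp.2 (Agent.DSPtsLib.theta f h)
    obtain ⟨k, rfl⟩ := (Agent.DSPtsLib.theta_bijective f).surjective h'
    exact ⟨k, (Agent.DSPtsLib.theta_bijective f).injective (by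
      rw [Agent.DSPtsLib.theta_mul, Agent.DSPtsLib.theta_mul, Deform.theta_inv, theta_comp_map, theta_comp_map, hh'])⟩

end

end Groth.Agent.Deform.Luna
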