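import Groth.Agent.Deform.Luna.Quot
import Groth.Agent.Deform.MultSubScheme
import Groth.Agent.Deform.GreatestTorus
import Groth.Agent.GrpSchLib.AdjointCentre
import Groth.Agent.GrpSchLib.MultTypeBC
import Groth.Agent.Deform.Borel.CentBase

/-!
# The centre of a reductive group over a field
-/

universe u

open CategoryTheory CategoryTheory.Limits MonoidalCategory CartesianMonoidalCategory MonObj GrpObj AlgebraicGeometry

attribute [local instance] CategoryTheory.Hom.monoid CategoryTheory.Hom.group
set_option linter.style.haveILetI false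

namespace Groth.Agent.Deform.Luna

open Chev (Pt pimg)

noncomputable section

/-- A morphism to the spectrum of a field is flat. -/
theorem flat_to_field {k : Type u} [Field k] {X : Scheme.{u}} (f : X ⟶ Spec (CommRingCat.of k)) : Flat f := by
  rw [HasRingHomProperty.iff_of_source_openCover (P := @Flat) X.affineCover]
  intro i
  algebraize [((X.affineCover.f i ≫ f).appTop).hom]
  haveI : Nonempty (Spec (CommRingCat.of k)) := inferInstance
  let K := Γ(Spec (CommRingCat.of k), ⊤)
  have hf : IsField K := by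
    have e := (Scheme.ΓSpecIso (CommRingCat.of k)).commRingCatIsoToRingEquiv
    exact e.toMulEquiv.isField (Field.toIsField k)
  letI := hf.toField
  unfold RingHom.Flat
  infer_instance

/-- Multiplicative type descends along an extension of fields. -/
theorem isMultTypeFT_of_bc {k K : Type u} [Field k] [Field K] (y : Spec (CommRingCat.of K) ⟶ Spec (CommRingCat.of k))
    (H : Over (Spec (CommRingCat.of k))) [GrpObj H] (h : SGA3x.IsMultTypeFT (Red.bc y H)) : SGA3x.IsMultTypeFT H := by
  obtain ⟨S', f, hf, hs, hcov, hloc⟩ := h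
  haveI := flat_to_field y
  haveI := hf; haveI := hs
  haveI : Surjective y := ⟨fun x => ⟨IsLocalRing.closedPoint K, Subsingleton.elim (α := PrimeSpectrum k) _ _⟩⟩
  refine ⟨S', f ≫ y, inferInstance, inferInstance, fun V hV => ?_, fun s' => ?_⟩
  · obtain ⟨W, hW, hWe⟩ := hcov (y ⁻¹ᵁ V) (hV.preimage y)
    refine ⟨W, hW, ?_⟩
    show (f ≫ y).base '' _ = _
    rw [show ((f ≫ y).base : S' → Spec (CommRingCat.of k)) = y.base ∘ f.base from rfl, Set.image_comp, hWe]
    exact Set.image_preimage_eq _ y.surjective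
  · obtain ⟨U, hU, M, iM, hM, ⟨e⟩⟩ := hloc s'
    obtain ⟨a⟩ := GrpSchLib.MultTypeBC.bc_bc (U.ι ≫ f) y H
    obtain ⟨b⟩ := GrpSchLib.MultTypeBC.bc_congr (Category.assoc U.ι f y).symm H
    exact ⟨U, hU, M, iM, hM, ⟨b.symm ≪≫ a.symm ≪≫ e⟩⟩

variable {k : Type u} [Field k]

set_option maxHeartbeats 1000000 in
/-- **The centre of a reductive group is of multiplicative type.** -/
theorem centre_multType {G Z : Over (Spec (CommRingCat.of k))} [GrpObj G] [GrpObj Z] (hG : Red.IsReductive G)
    (z : Z ⟶ G) (hz : Red.IsCentre z) [IsClosedImmersion z.left] : SGA3x.IsMultTypeFT Z := by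
  obtain ⟨hGa, hGs, hfib⟩ := hG
  haveI := hGa; haveI := hGs; haveI := hz.1
  let s₀ : ↥(Spec (CommRingCat.of k)) := IsLocalRing.closedPoint k
  let y := Red.geomPt s₀
  have hGK := hfib s₀
  haveI : IsAffine (Red.bc y G).left := hGK.1
  haveI : Smooth (Red.bc y G).hom := hGK.2.1
  haveI : ConnectedSpace (Red.bc y G).left := hGK.2.2.1
  haveI : IsAffineHom (Red.bc y G).hom := isAffineHom_of_isAffine _
  haveI := Agent.GrpSchLib.AntiAffine.isSeparated_grp (Red.bc y G)
  obtain ⟨T, gT, i, hu⟩ := Borel.exists_univTorus (Red.bc y G)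
  obtain ⟨him, hic, hT, -⟩ := id hu
  haveI := him; haveI := hic
  haveI : Mono i := (Over.forget _).mono_of_mono_map (inferInstanceAs (Mono i.left))
  have hi : AGF.IsMaxTorus i := ⟨him, inferInstance, hT, fun T' _ j _ _ f h1 h2 => hu.maximal T' j f h1 h2⟩
  let zK := (Over.pullback y).map z
  haveI : IsClosedImmersion zK.left := MorphismProperty.baseChange_map (P := @IsClosedImmersion) y z inferInstance
  obtain ⟨hzm, hzo, hzu⟩ := Borel.isCentralizerOf_bc y hz
  haveI := hzm
  rw [CategoryTheory.Functor.map_id] at hzu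
  obtain ⟨f, hf⟩ := ((isCentralizerOf_self hGK hi).2.2 (Red.bc y Z) zK).mpr fun X x t => by
    exact (hzu X (x ≫ zK)).mp ⟨x, rfl⟩ X (𝟙 X) (t ≫ i) |> fun h => by
      simpa only [Category.id_comp, Category.comp_id] using h
  haveI : IsMonHom f := Deform.isMonHom_of_comp f i (i := zK) hf
  haveI : IsClosedImmersion f.left := by
    haveI : IsClosedImmersion (f.left ≫ i.left) := by rw [← Over.comp_left, hf]; infer_instance
    exact IsClosedImmersion.of_comp f.left i.left
  haveI := flat_to_field (Red.bc y Z).hom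
  haveI : LocallyOfFiniteType (Red.bc y Z).hom := by rw [← Over.w zK]; infer_instance
  exact isMultTypeFT_of_bc y Z (MultSubScheme.isMultTypeFT_of_closed (Deform.isMultTypeFT_of_isTorus hT) f)

open Agent.GrpSchLib.AffineHopf (sp spMap spMap_injective) in
/-- A group of multiplicative type without tori is finite. -/
theorem finite_of_no_torus [IsAlgClosed k] {H : Over (Spec (CommRingCat.of k))} [GrpObj H]
    (hH : SGA3x.IsMultTypeFT H)
    (h : ∀ (T : Over (Spec (CommRingCat.of k))) [GrpObj T] (v : T ⟶ H) [IsMonHom v], Red.IsTorus T → v = 1) :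
    Finite ↥H.left := by
  obtain ⟨M, iM, hfg, ⟨e⟩⟩ := Deform.exists_diag H hH
  haveI := hfg
  let b : sp k (MonoidAlgebra k M) ≅ H := (Grp.forget _).mapIso e
  haveI : IsMonHom b.hom := e.hom.hom.isMonHom_hom
  haveI : Module.Finite ℤ (Additive M) := Module.Finite.iff_addGroup_fg.mpr inferInstance
  have hM : Finite M := by
    let A := Submodule.torsion ℤ (Additive M)
    haveI : Module.Free ℤ (Additive M ⧸ A) := Module.free_of_finite_type_torsion_free'
    rcases subsingleton_or_nontrivial (Additive M ⧸ A) with hQ | hQ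
    · have htor : Module.IsTorsion ℤ (Additive M) := fun {x} => by
        have hx : x ∈ A := (Submodule.Quotient.mk_eq_zero A).mp (Subsingleton.elim _ _)
        exact hx
      haveI : Finite (Additive M) := Module.finite_of_fg_torsion (Additive M) htor
      exact Finite.of_equiv _ Additive.toMul
    exfalso
    let B := Module.Free.chooseBasis ℤ (Additive M ⧸ A)
    haveI : Nonempty (Module.Free.ChooseBasisIndex ℤ (Additive M ⧸ A)) := B.index_nonempty
    let i := Classical.arbitrary (Module.Free.ChooseBasisIndex ℤ (Additive M ⧸ A))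
    let f : M →* Multiplicative (Fin 1 → ℤ) :=
      { toFun := fun m => Multiplicative.ofAdd fun _ => B.repr (Submodule.Quotient.mk (Additive.ofMul m)) i
        map_one' := by simp; rfl
        map_mul' := fun m m' => by simp; rfl }
    let T := sp k (MonoidAlgebra k (Multiplicative (Fin 1 → ℤ)))
    have hT : Red.IsTorus T :=
      Deform.isTorus_of_split 1 (Agent.GrpSchLib.AffineHopf.nonempty_DS_iso k (Fin 1 → ℤ))
    let F := MonoidAlgebra.mapDomainBialgHom k f
    haveI : IsMonHom (spMap (F : MonoidAlgebra k M →ₐ[k] MonoidAlgebra k (Multiplicative (Fin 1 → ℤ)))) :=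
      Agent.GrpSchLib.AffineHopf.isMonHom_spMap F
    have h1 := h T (spMap (F : MonoidAlgebra k M →ₐ[k] MonoidAlgebra k (Multiplicative (Fin 1 → ℤ))) ≫ b.hom) hT
    rw [← MonObj.one_comp (f := b.hom), cancel_mono] at h1
    rw [show (1 : T ⟶ sp k (MonoidAlgebra k M)) =
      spMap (1 : WithConv (MonoidAlgebra k M →ₐ[k] MonoidAlgebra k (Multiplicative (Fin 1 → ℤ)))).ofConv from
        (map_one Spec.mapMulEquiv).symm] at h1
    obtain ⟨x, hx⟩ := Submodule.Quotient.mk_surjective A (B i)
    have h2 : (MonoidAlgebra.single (f x.toMul) (1 : k) : MonoidAlgebra k (Multiplicative (Fin 1 → ℤ))) =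
        MonoidAlgebra.single 1 1 := by
      have h3 := congrArg (fun g : MonoidAlgebra k M →ₐ[k] MonoidAlgebra k (Multiplicative (Fin 1 → ℤ)) =>
        g (MonoidAlgebra.single x.toMul 1)) (spMap_injective h1)
      simpa [F, AlgHom.convOne_def, MonoidAlgebra.one_def] using h3
    have h4 := congrFun (congrArg Multiplicative.toAdd (MonoidAlgebra.single_left_injective one_ne_zero h2)) 0
    simp [f, hx] at h4
  haveI : Module.Finite k (MonoidAlgebra k M) := inferInstance
  haveI : IsArtinianRing (MonoidAlgebra k M) := IsArtinianRing.of_finite k _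
  haveI : Finite ↥(sp k (MonoidAlgebra k M)).left := inferInstanceAs (Finite (PrimeSpectrum (MonoidAlgebra k M)))
  haveI : IsIso b.hom.left := ((Over.forget _).mapIso b).isIso_hom
  exact Finite.of_surjective _ b.hom.left.surjective

/-- A torus with finitely many points is trivial. -/
theorem torus_eq_one [IsAlgClosed k] {T : Over (Spec (CommRingCat.of k))} [GrpObj T] (hT : Red.IsTorus T)
    [Finite ↥T.left] : Red.IsTrivialGrp T := by
  obtain ⟨hTa, hTl, hTs, hTc⟩ := Deform.TorusBasic.props hT
  haveI := hTl; haveI := hTs; haveI := hTa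
  haveI : IsSeparated T.hom := Agent.GrpSchLib.AntiAffine.isSeparated_grp T
  haveI : Finite (Pt T) := Finite.of_injective _ Chev.pimg_injective
  haveI : IsReduced T.left := GrpSchLib.isReduced_of_smooth_field T.hom
  refine Borel.isTrivialGrp_of_pts fun y => ?_
  obtain ⟨s, rfl⟩ := exists_pow_eq hT (Nat.card_pos (α := Pt T)) y
  exact pow_card_eq_one'

/-- Finiteness of a group passes to a field extension. -/
theorem finite_bc {K : Type u} [Field K] (y : Spec (CommRingCat.of K) ⟶ Spec (CommRingCat.of k))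
    {Z : Over (Spec (CommRingCat.of k))} [LocallyOfFiniteType Z.hom] [QuasiCompact Z.hom] [Finite ↥Z.left] :
    Finite ↥(Red.bc y Z).left := by
  haveI : LocallyQuasiFinite Z.hom := LocallyQuasiFinite.of_finite_preimage_singleton _ fun _ => Set.toFinite _
  haveI : LocallyQuasiFinite (Red.bc y Z).hom := inferInstanceAs (LocallyQuasiFinite (pullback.snd Z.hom y))
  haveI : QuasiCompact (Red.bc y Z).hom := inferInstanceAs (QuasiCompact (pullback.snd Z.hom y))
  refine Set.finite_univ_iff.mp (((Red.bc y Z).hom.finite_preimage_singleton (IsLocalRing.closedPoint K)).subset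
    fun x _ => ?_)
  exact Subsingleton.elim (α := PrimeSpectrum K) _ _

/-- A monomorphism from a torus to an affine algebraic group is a closed immersion. -/
theorem closedImmersion_of_torus {R G : Over (Spec (CommRingCat.of k))} [GrpObj R] [GrpObj G] [IsAffine G.left]
    [LocallyOfFiniteType G.hom] (hR : Red.IsTorus R) (r : R ⟶ G) [IsMonHom r] [Mono r] :
    IsClosedImmersion r.left := by
  obtain ⟨hRa, hRl, -, -⟩ := Deform.TorusBasic.props hR
  haveI := hRa; haveI := hRl
  haveI : IsAffineHom r.left := inferInstance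
  haveI : LocallyOfFiniteType r.left := by
    haveI : LocallyOfFiniteType (r.left ≫ G.hom) := by rw [Over.w r]; infer_instance
    exact locallyOfFiniteType_of_comp r.left G.hom
  haveI : Mono r.left := (inferInstance : Mono ((Over.forget _).map r))
  exact (IsClosedImmersion.iff_isFinite_and_mono _).2
    ⟨Agent.GrpSchLib.HomFinite.isFinite r, inferInstance⟩

/-- **The greatest central torus of a reductive group**, with its property over every base. -/
theorem exists_centralTorus {G Z : Over (Spec (CommRingCat.of k))} [GrpObj G] [GrpObj Z] (hG : Red.IsReductive G)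
    (z : Z ⟶ G) [IsMonHom z] (hz : Red.IsCentre z) [IsClosedImmersion z.left] :
    ∃ (R : Over (Spec (CommRingCat.of k))) (_ : GrpObj R) (r : R ⟶ G), IsMonHom r ∧ Mono r ∧ Red.IsTorus R ∧
      (∃ a : R ⟶ Z, a ≫ z = r) ∧
      (∀ (X : Over (Spec (CommRingCat.of k))) (t : X ⟶ R) (g : X ⟶ G), (t ≫ r) * g = g * (t ≫ r)) ∧
      ∀ {U : Scheme.{u}} (y : U ⟶ Spec (CommRingCat.of k)) (R' : Over U) [GrpObj R'] (v : R' ⟶ Red.bc y G)
        [IsMonHom v], Red.IsTorus R' →
        (∀ (X : Over U) (x : X ⟶ R') (g : X ⟶ Red.bc y G), (x ≫ v) * g = g * (x ≫ v)) →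
        ∃ w : R' ⟶ Red.bc y R, w ≫ (Over.pullback y).map r = v := by
  haveI := hz.2.1
  obtain ⟨R, gR, a, ham, hao, hR, -, huniv⟩ := Deform.GreatestTorus.exists_greatest (centre_multType hG z hz)
  haveI := ham; haveI := hao
  refine ⟨R, gR, a ≫ z, inferInstance, mono_comp a z, hR, ⟨a, rfl⟩, fun X t g => ?_, fun y R' _ v _ hR' hv => ?_⟩
  · have h := (hz.2.2 X (t ≫ a ≫ z)).mp ⟨t ≫ a, Category.assoc _ _ _⟩ X (𝟙 X) g
    simpa only [Category.id_comp, Category.comp_id] using h
  obtain ⟨hzm, hzo, hzu⟩ := Borel.isCentralizerOf_bc y hz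
  rw [CategoryTheory.Functor.map_id] at hzu
  obtain ⟨v', hv'⟩ := (hzu R' v).mpr fun X x h => by
    rw [Category.comp_id]
    exact hv X x h
  haveI := hzm; haveI := hzo
  haveI : IsMonHom v' := Deform.isMonHom_of_comp v' ((Over.pullback y).map z) (i := v) hv'
  obtain ⟨w, hw⟩ := huniv y R' v' hR'
  exact ⟨w, by rw [Functor.map_comp, ← Category.assoc, hw, hv']⟩

end

end Groth.Agent.Deform.Luna
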