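import Groth.Agent.Deform.Luna.MultSolv
import Groth.Agent.Deform.Borel.Centre
import Groth.Agent.S3938

/-!
# Central groups of multiplicative type and maximal tori
-/

universe u

open CategoryTheory CategoryTheory.Limits MonoidalCategory CartesianMonoidalCategory MonObj GrpObj AlgebraicGeometry
open Groth.Agent.GrpSchLib.Kunneth (Fn ev evPt evPt_comp ev_ev exists_expand)

attribute [local instance] CategoryTheory.Hom.monoid CategoryTheory.Hom.group
set_option linter.style.haveILetI false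
set_option linter.unusedSectionVars false

namespace Groth.Agent.Deform.Luna

open Chev (Pt pimg)
open Borel (conj comp_conj pt_conj evPt_eq evPt_eq_zero_iff)

noncomputable section

variable {k : Type u} [Field k] [IsAlgClosed k]

/-- The quotient of two commuting homomorphisms is a homomorphism. -/
theorem isMonHom_mul_inv {H S : Over (Spec (CommRingCat.of k))} [GrpObj H] [GrpObj S] (a b : H ⟶ S) [IsMonHom a]
    [IsMonHom b] (hcomm : ∀ (X : Over (Spec (CommRingCat.of k))) (x : X ⟶ H) (z : X ⟶ S),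
      (x ≫ b) * z = z * (x ≫ b)) : IsMonHom (a * b⁻¹) := by
  have h : ∀ (T : Over (Spec (CommRingCat.of k))) (x y : T ⟶ H),
      (x * y) ≫ (a * b⁻¹) = x ≫ (a * b⁻¹) * y ≫ (a * b⁻¹) := fun T x y => by
    simp only [MonObj.comp_mul, GrpObj.comp_inv, MonObj.mul_comp, _root_.mul_inv_rev]
    have h1 : Commute (x ≫ b)⁻¹ ((y ≫ a) * (y ≫ b)⁻¹) :=
      Commute.inv_left (hcomm T x ((y ≫ a) * (y ≫ b)⁻¹))
    have h3 : Commute (y ≫ b)⁻¹ (x ≫ b)⁻¹ := Commute.inv_left (hcomm T y (x ≫ b)⁻¹)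
    rw [h3.eq, _root_.mul_assoc (x ≫ a) (x ≫ b)⁻¹, h1.eq]
    rw [← h3.eq]
    group
  exact { one_hom := by
            have h1 := h (𝟙_ (Over (Spec (CommRingCat.of k)))) 1 1
            rw [_root_.one_mul] at h1
            have h2 := left_eq_mul.mp h1
            simpa [MonObj.one_eq_one] using h2
          mul_hom := by
            rw [MonObj.mul_eq_mul, h, Hom.mul_def]
            congr 1 }

variable {G : Over (Spec (CommRingCat.of k))} [GrpObj G] [IsAffine G.left] [Smooth G.hom] [ConnectedSpace G.left]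

set_option maxHeartbeats 1000000 in
/-- **A central group of multiplicative type lies in every maximal torus.** -/
theorem central_multType_le_maxTorus {T H : Over (Spec (CommRingCat.of k))} [GrpObj T] [GrpObj H] {i : T ⟶ G}
    (hi : AGF.IsMaxTorus i) (hH : SGA3x.IsMultTypeFT H) (v : H ⟶ G) [IsMonHom v]
    (hv : ∀ (X : Over (Spec (CommRingCat.of k))) (x : X ⟶ H) (g : X ⟶ G), (x ≫ v) * g = g * (x ≫ v)) :
    ∃ f : H ⟶ T, f ≫ i = v := by
  haveI : IsAffineHom G.hom := isAffineHom_of_isAffine _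
  haveI := Agent.GrpSchLib.AntiAffine.isSeparated_grp G
  haveI := hi.1; haveI := hi.2.1
  obtain ⟨hTa, hTl, hTs, hTc⟩ := Deform.TorusBasic.props hi.2.2.1
  haveI := hTs
  obtain ⟨C, gC, c, hc, hcc, hCs⟩ :=
    Deform.exists_centralizer (Deform.isMultType_of_ft (Deform.isMultTypeFT_of_isTorus hi.2.2.1)) i
  haveI := hcc; haveI := hCs; haveI := hc.1; haveI := hc.2.1
  haveI := Borel.centralizer_connected G hi.2.2.1 hc
  haveI : IsAffine C.left := isAffine_of_isAffineHom c.left
  obtain ⟨t₀, ht₀⟩ := (hc.2.2 T i).mpr fun X x h => by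
    rw [← MonObj.mul_comp, ← MonObj.mul_comp,
      Agent.GrpSchLib.MultTypeComm.points_comm (Deform.isMultTypeFT_of_isTorus hi.2.2.1) x h]
  haveI : IsMonHom t₀ := Deform.isMonHom_of_comp t₀ c (i := i) ht₀
  haveI : Mono (t₀ ≫ c) := by rw [ht₀]; infer_instance
  haveI : Mono t₀ := mono_of_mono t₀ c
  have hmax₀ : AGF.IsMaxTorus t₀ := ⟨inferInstance, inferInstance, hi.2.2.1, fun T' _ j _ _ f hT' hf =>
    hi.2.2.2 T' (j ≫ c) f hT' (by rw [← Category.assoc, hf, ht₀])⟩
  haveI : Group.IsNilpotent (Pt C) := (Borel.nilpotent_of_central_maxTorus C t₀ hmax₀ fun x s => by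
    rw [← cancel_mono c, MonObj.mul_comp, MonObj.mul_comp, Category.assoc, ht₀]
    exact Borel.centralizer_comm hc x s).1
  haveI : Group.IsSolvable (Pt C) := inferInstance
  obtain ⟨T', gT', i', ρ, hT', hi', hρ, hiρ, hker⟩ := exists_torus_proj C
  haveI := hi'; haveI := hρ
  haveI : IsSplitMono i' := IsSplitMono.mk' ⟨ρ, hiρ⟩
  haveI : Mono (i' ≫ c) := mono_comp i' c
  have key : ∀ (A : Over (Spec (CommRingCat.of k))) [GrpObj A], SGA3x.IsMultTypeFT A → ∀ (a : A ⟶ C) [IsMonHom a],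
      (∀ (X : Over (Spec (CommRingCat.of k))) (x : X ⟶ A) (g : X ⟶ C), (x ≫ a) * g = g * (x ≫ a)) →
      a = (a ≫ ρ) ≫ i' := by
    intro A _ hA a _ hac
    haveI := isMonHom_mul_inv ((a ≫ ρ) ≫ i') a hac
    have h1 := hker A hA (((a ≫ ρ) ≫ i') * a⁻¹) (by
      rw [MonObj.mul_comp, GrpObj.inv_comp, Category.assoc (a ≫ ρ), hiρ, Category.comp_id, mul_inv_cancel])
    exact (mul_inv_eq_one.mp h1).symm
  have ht₁ := key T (Deform.isMultTypeFT_of_isTorus hi.2.2.1) t₀ fun X x g => by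
    rw [← cancel_mono c, MonObj.mul_comp, MonObj.mul_comp, Category.assoc, ht₀]
    exact (Borel.centralizer_comm hc g x).symm
  haveI : IsIso (t₀ ≫ ρ) := hi.2.2.2 T' (i' ≫ c) (t₀ ≫ ρ) hT' (by rw [← Category.assoc, ← ht₁, ht₀])
  obtain ⟨vc, hvc⟩ := (hc.2.2 H v).mpr fun X x h => hv X x _
  haveI : IsMonHom vc := Deform.isMonHom_of_comp vc c (i := v) hvc
  have hv₁ := key H hH vc fun X x g => by
    rw [← cancel_mono c, MonObj.mul_comp, MonObj.mul_comp, Category.assoc, hvc]
    exact hv X x _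
  refine ⟨(vc ≫ ρ) ≫ inv (t₀ ≫ ρ), ?_⟩
  conv_rhs => rw [← hvc, hv₁]
  rw [show i = (t₀ ≫ ρ) ≫ (i' ≫ c) by rw [← Category.assoc, ← ht₁, ht₀], Category.assoc (vc ≫ ρ),
    IsIso.inv_hom_id_assoc, Category.assoc (vc ≫ ρ)]

/-- Functions on an irreducible smooth scheme are determined on the points of a nonempty open subset. -/
theorem fn_eq_of_open {Y : Over (Spec (CommRingCat.of k))} [Smooth Y.hom] [IrreducibleSpace Y.left]
    {U : Y.left.Opens} (hU : (U : Set Y.left).Nonempty) {f f' : Fn Y}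
    (h : ∀ q : Pt Y, pimg q ∈ U → evPt q f = evPt q f') : f = f' := by
  haveI : IsReduced Y.left := GrpSchLib.isReduced_of_smooth_field Y.hom
  haveI : JacobsonSpace Y.left := LocallyOfFiniteType.jacobsonSpace Y.hom
  rw [← sub_eq_zero]
  refine (basicOpen_eq_bot_iff _).mp (TopologicalSpace.Opens.ext ?_)
  by_contra hne
  obtain ⟨z, ⟨hz, hzU⟩, hzc⟩ := nonempty_inter_closedPoints
    (nonempty_preirreducible_inter (Y.left.basicOpen (f - f')).2 U.2 (Set.nonempty_iff_ne_empty.mpr hne) hU)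
    ((Y.left.basicOpen (f - f')).2.inter U.2).isLocallyClosed
  obtain ⟨q, rfl⟩ := Chev.exists_pimg_eq hzc
  exact ((evPt_eq_zero_iff q _).mp (by rw [map_sub, h q hzU, sub_self])) hz

/-- Morphisms into an affine scheme are determined on the points of an open subset of a smooth factor. -/
theorem ext_of_open {A Y H : Over (Spec (CommRingCat.of k))} [QuasiCompact A.hom] [IsSeparated A.hom] [Smooth Y.hom]
    [QuasiCompact Y.hom] [IsSeparated Y.hom] [IrreducibleSpace Y.left] [IsAffine H.left] {U : Y.left.Opens}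
    (hU : (U : Set Y.left).Nonempty) (a b : Y ⊗ A ⟶ H)
    (h : ∀ q : Pt Y, pimg q ∈ U → lift (toUnit A ≫ q) (𝟙 A) ≫ a = lift (toUnit A ≫ q) (𝟙 A) ≫ b) : a = b := by
  classical
  refine Agent.GrpSchLib.LineGroups.ext_ev (AlgHom.ext fun φ => ?_)
  haveI : Smooth (𝟙_ (Over (Spec (CommRingCat.of k)))).hom :=
    inferInstanceAs (Smooth (𝟙 (Spec (CommRingCat.of k))))
  let c := Module.Basis.ofVectorSpace k (Fn A)
  obtain ⟨s, w, hw⟩ := exists_expand (X := Y) (Y := A) c (ev a φ - ev b φ)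
  have h0 : ∀ l ∈ s, w l = 0 := fun l hl => fn_eq_of_open hU fun q hq => by
    have hsl : ∑ l ∈ s, evPt q (w l) • c l = 0 := by
      have h1 : ev (lift (toUnit A ≫ q) (𝟙 A)) (ev a φ - ev b φ) = 0 := by
        rw [map_sub, ev_ev, ev_ev, h q hq, sub_self]
      rw [hw, map_sum] at h1
      rw [← h1]
      refine Finset.sum_congr rfl fun l _ => ?_
      rw [map_mul, ev_ev, ev_ev, lift_fst, lift_snd, ← ev_ev, Algebra.smul_def]
      congr 1
      rw [show evPt q (w l) = evPt (𝟙 (𝟙_ (Over (Spec (CommRingCat.of k))))) (ev q (w l)) by rw [evPt_comp, Category.id_comp]]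
      generalize ev q (w l) = e
      obtain ⟨r, rfl⟩ : ∃ r : k, algebraMap k (Fn (𝟙_ (Over (Spec (CommRingCat.of k))))) r = e := by
        refine ⟨evPt (𝟙 _) e, ?_⟩
        refine (Borel.fn_eq_of_pts fun p => ?_)
        rw [AlgHom.commutes, toUnit_unique p (𝟙 _)]
        try rfl
      rw [AlgHom.commutes, AlgHom.commutes]
      rfl
    rw [map_zero]
    exact linearIndependent_iff'.mp c.linearIndependent s _ hsl l hl
  refine sub_eq_zero.mp ?_
  rw [hw]
  exact Finset.sum_eq_zero fun l hl => by rw [h0 l hl, map_zero, MulZeroClass.zero_mul]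

set_option maxHeartbeats 1000000 in
/-- **A point in all maximal tori is central.** -/
theorem central_of_mem_maxTori {X : Over (Spec (CommRingCat.of k))} (g : X ⟶ G)
    (hg : ∀ (T : Over (Spec (CommRingCat.of k))) [GrpObj T] (i : T ⟶ G), AGF.IsMaxTorus i → ∃ t : X ⟶ T, t ≫ i = g)
    (X' : Over (Spec (CommRingCat.of k))) (x : X' ⟶ X) (h : X' ⟶ G) : (x ≫ g) * h = h * (x ≫ g) := by
  haveI : IsAffineHom G.hom := isAffineHom_of_isAffine _
  haveI : QuasiCompact G.hom := inferInstance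
  haveI := Agent.GrpSchLib.AntiAffine.isSeparated_grp G
  haveI : IsIntegral G.left := Agent.GrpSchLib.Kunneth.isIntegral_grp G
  obtain ⟨T, gT, i, hu⟩ := Borel.exists_univTorus G
  obtain ⟨him, hic, hT, -⟩ := id hu
  haveI := him; haveI := hic
  haveI : Mono i := (Over.forget _).mono_of_mono_map (inferInstanceAs (Mono i.left))
  have hi : AGF.IsMaxTorus i := ⟨him, inferInstance, hT, fun T' _ j _ _ f h1 h2 => hu.maximal T' j f h1 h2⟩
  obtain ⟨C, gC, c, hc, -, -⟩ :=
    Deform.exists_centralizer (Deform.isMultType_of_ft (Deform.isMultTypeFT_of_isTorus hT)) i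
  obtain ⟨U, hU, hconj⟩ := S3938.result k G T i hi C c hc
  haveI := hc.1
  refine Over.OverMorphism.ext (X'.left.affineCover.hom_ext _ _ fun j => ?_)
  let A : Over (Spec (CommRingCat.of k)) := Over.mk (X'.left.affineCover.f j ≫ X'.hom)
  let e : A ⟶ X' := Over.homMk (X'.left.affineCover.f j) rfl
  suffices he : e ≫ ((x ≫ g) * h) = e ≫ (h * (x ≫ g)) from congrArg (fun m => Over.Hom.left m) he
  haveI : IsAffine A.left := inferInstanceAs (IsAffine (X'.left.affineCover.X j))
  haveI : IsAffineHom A.hom := isAffineHom_of_isAffine _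
  have key : (snd G A ≫ e ≫ x ≫ g) * fst G A = fst G A * (snd G A ≫ e ≫ x ≫ g) :=
    ext_of_open hU _ _ fun q hq => by
      simp only [MonObj.comp_mul, lift_fst, lift_snd_assoc, Category.id_comp]
      obtain ⟨a, y, hay⟩ := hconj q hq
      have hi' : AGF.IsMaxTorus (i ≫ conj a) := ⟨inferInstance, mono_comp i _, hT, fun T' _ f _ _ φ h1 h2 =>
        hi.2.2.2 T' (f ≫ conj a⁻¹) φ h1 (by
          rw [← Category.assoc, h2, Category.assoc, Borel.conj_right_inv, Category.comp_id])⟩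
      obtain ⟨t, ht⟩ := hg T (i ≫ conj a) hi'
      have hcm := Borel.centralizer_comm hc (toUnit A ≫ y) (e ≫ x ≫ t)
      rw [← hay, MonObj.comp_mul, MonObj.comp_mul, GrpObj.comp_inv]
      have hn : e ≫ x ≫ g = (toUnit A ≫ a) * ((e ≫ x ≫ t) ≫ i) * (toUnit A ≫ a)⁻¹ := by
        rw [← ht, comp_conj]
        show e ≫ x ≫ t ≫ ((toUnit T ≫ a) * i * (toUnit T ≫ a)⁻¹) = _
        simp only [MonObj.comp_mul, GrpObj.comp_inv, ← Category.assoc]
        congr! 3 <;> exact toUnit_unique _ _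
      rw [hn, ← Category.assoc (toUnit A) y c]
      simp only [_root_.mul_assoc, inv_mul_cancel_left]
      rw [← _root_.mul_assoc ((e ≫ x ≫ t) ≫ i), ← hcm, _root_.mul_assoc]
  have h1 := congrArg (lift (e ≫ h) (𝟙 A) ≫ ·) key
  simpa only [MonObj.comp_mul, lift_fst, lift_snd_assoc, Category.id_comp, Category.assoc] using h1

end

end Groth.Agent.Deform.Luna
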