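import Groth.Agent.Deform.Luna.RuImage
import Groth.Agent.Deform.Borel.MaxUnip
import Groth.Agent.Deform.Borel.TorusCentral
import Groth.Agent.Deform.TorusIsogeny
import Groth.Agent.GrpSchLib.AntiAffineHom

/-!
# Solvable normal subgroups of reductive groups are central tori
-/

universe u

open CategoryTheory CategoryTheory.Limits MonoidalCategory CartesianMonoidalCategory MonObj GrpObj AlgebraicGeometry

attribute [local instance] CategoryTheory.Hom.monoid CategoryTheory.Hom.group
set_option linter.style.haveILetI false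
set_option linter.unusedSectionVars false

namespace Groth.Agent.Deform.Luna

open Chev (Pt pimg)
open Borel (conj comp_conj pt_conj)

noncomputable section

section BaseChange

variable {S U : Scheme.{u}} (f : U ⟶ S)

/-- Transposition commutes with postcomposition. -/
theorem theta_comp_map {H G : Over S} {Y : Over U} (a : Y ⟶ Red.bc f H) (i : H ⟶ G) :
    Agent.DSPtsLib.theta f (a ≫ (Over.pullback f).map i) = Agent.DSPtsLib.theta f a ≫ i :=
  (Over.mapPullbackAdj f).homEquiv_naturality_right_symm a i

/-- Transposition as a homomorphism. -/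
def thetaHom (Y : Over U) (H : Over S) [GrpObj H] : (Y ⟶ Red.bc f H) →* ((Over.map f).obj Y ⟶ H) :=
  MonoidHom.mk' (Agent.DSPtsLib.theta f) (Agent.DSPtsLib.theta_mul f)

/-- Solvable groups stay solvable after base change. -/
theorem isSolvableGrp_bc {H : Over S} [GrpObj H] (h : Red.IsSolvableGrp H) : Red.IsSolvableGrp (Red.bc f H) := by
  obtain ⟨n, hn⟩ := h
  refine ⟨n, fun X => ?_⟩
  have h1 := map_derivedSeries_le_derivedSeries (thetaHom f X H) n
  rw [hn, le_bot_iff, Subgroup.map_eq_bot_iff_of_injective _ (Agent.DSPtsLib.theta_bijective f).1] at h1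
  exact h1

/-- Normal subgroups stay normal after base change. -/
theorem isNormalHom_bc {H G : Over S} [GrpObj H] [GrpObj G] {i : H ⟶ G} (h : AlgGrp.IsNormalHom i) :
    AlgGrp.IsNormalHom ((Over.pullback f).map i) := by
  intro X g n
  obtain ⟨m, hm⟩ := h _ (thetaHom f X G g) (thetaHom f X H n)
  obtain ⟨n', hn'⟩ := (Agent.DSPtsLib.theta_bijective (H := H) f).2 m
  refine ⟨n', (Agent.DSPtsLib.theta_bijective (H := G) f).1 ?_⟩
  show thetaHom f X G _ = Agent.DSPtsLib.theta f _
  rw [map_mul, map_mul, map_inv, theta_comp_map f n' i, hn', ← hm]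
  congr 2
  exact theta_comp_map f n i

end BaseChange

variable {k : Type u} [Field k]

section AlgClosed

variable [IsAlgClosed k] {G : Over (Spec (CommRingCat.of k))} [GrpObj G]

set_option maxHeartbeats 1000000 in
/-- **A connected solvable normal subgroup of a reductive group is a central torus.** -/
theorem solvable_normal_torus (hG : Red.IsReductiveOver k G) {H : Over (Spec (CommRingCat.of k))} [GrpObj H]
    (i : H ⟶ G) [IsMonHom i] [IsClosedImmersion i.left] [Smooth H.hom] [ConnectedSpace H.left]
    [Group.IsSolvable (Pt H)] (hn : AlgGrp.IsNormalHom i) :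
    Red.IsTorus H ∧ ∀ (X : Over (Spec (CommRingCat.of k))) (x : X ⟶ H) (g : X ⟶ G),
      (x ≫ i) * g = g * (x ≫ i) := by
  haveI := hG.1; haveI := hG.2.1; haveI := hG.2.2.1
  haveI : IsAffineHom G.hom := isAffineHom_of_isAffine _
  haveI : QuasiCompact G.hom := inferInstance
  haveI := Agent.GrpSchLib.AntiAffine.isSeparated_grp G
  haveI : IsAffine H.left := isAffine_of_isAffineHom i.left
  haveI : IsAffineHom H.hom := isAffineHom_of_isAffine _
  haveI : IsReduced H.left := GrpSchLib.isReduced_of_smooth_field H.hom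
  haveI : Mono i := (Over.forget _).mono_of_mono_map (inferInstanceAs (Mono i.left))
  obtain ⟨T, gT, t, ρ, K, gK, κ, hT, hρ, htm, htρ, hκ, hκc, hKs, hKc, hker, hK⟩ := Borel.exists_rad H
  haveI := hρ; haveI := hκ; haveI := hκc; haveI := hKs; haveI := hKc
  haveI : IsAffine K.left := isAffine_of_isAffineHom κ.left
  haveI : IsClosedImmersion (κ ≫ i).left := inferInstanceAs (IsClosedImmersion (κ.left ≫ i.left))
  have hK1 : Red.IsTrivialGrp K := by
    refine hG.2.2.2 K (κ ≫ i) inferInstance hKs hKc (isNormalHom_of_pts _ fun g x => ?_) hK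
    obtain ⟨σ, hσ⟩ := Chev.exists_lift_range i (i ≫ conj g) (Chev.mem_of_pts _ i.left.isClosedEmbedding.isClosed_range
      fun y => by
        obtain ⟨y', hy'⟩ := hn _ g y
        exact ⟨pimg y', by rw [← Chev.pimg_comp, ← hy', ← Category.assoc, pt_conj]⟩)
    haveI : IsMonHom σ := Deform.isMonHom_of_comp σ i (i := i ≫ conj g) hσ
    obtain ⟨x', hx'⟩ := (hker ((x ≫ κ) ≫ σ)).mpr (by
      rw [Category.assoc, Category.assoc]
      exact Borel.hom_torus_trivial hK hT (κ ≫ σ ≫ ρ) x)
    exact ⟨x', by rw [reassoc_of% hx', hσ, ← pt_conj]; simp only [Category.assoc]⟩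
  have hHT : Red.IsTorus H := Borel.isTorus_of_noUnip fun U _ j _ hjc hUs hUc hU => by
    haveI := hjc; haveI := hUs; haveI := hUc
    haveI : IsAffine U.left := isAffine_of_isAffineHom j.left
    haveI : IsAffineHom U.hom := isAffineHom_of_isAffine _
    haveI : IsReduced U.left := GrpSchLib.isReduced_of_smooth_field U.hom
    haveI : Mono j := (Over.forget _).mono_of_mono_map (inferInstanceAs (Mono j.left))
    refine Borel.isTrivialGrp_of_pts fun x => ?_
    obtain ⟨y, hy⟩ := (hker (x ≫ j)).mpr (by rw [Category.assoc]; exact Borel.hom_torus_trivial hU hT (j ≫ ρ) x)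
    rw [Borel.pts_eq_one_of_isTrivialGrp hK1 y, MonObj.one_comp] at hy
    rw [← cancel_mono j, MonObj.one_comp, ← hy]
  refine ⟨hHT, fun X x g => ?_⟩
  have hc := torus_central_aux hHT i hn
  have h := congrArg (lift g x ≫ ·) hc
  simpa only [MonObj.comp_mul, lift_fst, lift_snd_assoc] using h
where
  torus_central_aux {H : Over (Spec (CommRingCat.of k))} [GrpObj H] [IsAffine G.left] [Smooth G.hom]
      [ConnectedSpace G.left] (hH : Red.IsTorus H) (i : H ⟶ G) [IsMonHom i] [Mono i] (hn : AlgGrp.IsNormalHom i) :
      (snd G H ≫ i) * fst G H = fst G H * (snd G H ≫ i) := by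
    haveI : IsAffineHom G.hom := isAffineHom_of_isAffine _
    haveI : QuasiCompact G.hom := inferInstance
    haveI := Agent.GrpSchLib.AntiAffine.isSeparated_grp G
    obtain ⟨hTa, hTl, hTs, hTc⟩ := Deform.TorusBasic.props hH
    haveI := hTs
    haveI : Smooth (G ⊗ H).hom := inferInstanceAs (Smooth (pullback.fst G.hom H.hom ≫ G.hom))
    refine Borel.comp_inj_pt _ _ fun w => ?_
    simp only [MonObj.comp_mul, ← Category.assoc]
    exact (Borel.torus_central_of_normal hH i (fun g t => (hn _ g t).imp fun _ h => h.symm) (w ≫ fst G H)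
      (w ≫ snd G H)).symm

end AlgClosed

set_option maxHeartbeats 1000000 in
/-- **A connected solvable normal subgroup of a reductive group over a field is a central torus.** -/
theorem solvable_normal_torus_field {G : Over (Spec (CommRingCat.of k))} [GrpObj G] (hG : Red.IsReductive G)
    {H : Over (Spec (CommRingCat.of k))} [GrpObj H] (i : H ⟶ G) [IsMonHom i] [IsClosedImmersion i.left]
    [Smooth H.hom] [ConnectedSpace H.left] (hsol : Red.IsSolvableGrp H) (hn : AlgGrp.IsNormalHom i) :
    Red.IsTorus H ∧ ∀ (X : Over (Spec (CommRingCat.of k))) (x : X ⟶ H) (g : X ⟶ G),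
      (x ≫ i) * g = g * (x ≫ i) := by
  obtain ⟨hGa, hGs, hfib⟩ := hG
  haveI := hGa; haveI := hGs
  let s₀ : ↥(Spec (CommRingCat.of k)) := IsLocalRing.closedPoint k
  let K : Type u := AlgebraicClosure ((Spec (CommRingCat.of k)).residueField s₀)
  let y : Spec (CommRingCat.of K) ⟶ Spec (CommRingCat.of k) := Red.geomPt s₀
  letI : Algebra k K := (Spec.preimage y).hom.toAlgebra
  have hy : y = Spec.map (CommRingCat.ofHom (algebraMap k K)) := (Spec.map_preimage y).symm
  haveI : IsClosedImmersion ((Over.pullback y).map i).left :=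
    MorphismProperty.baseChange_map (P := @IsClosedImmersion) y i inferInstance
  haveI : Smooth (Red.bc y H).hom := inferInstanceAs (Smooth (pullback.snd H.hom y))
  haveI : ConnectedSpace (Red.bc y H).left := by rw [hy]; exact GrpSchLib.AntiAffine.connectedSpace_bc H _
  haveI : Group.IsSolvable (Pt (Red.bc y H)) := Borel.isSolvable_pts_of_grp (isSolvableGrp_bc y hsol)
  obtain ⟨hT, hcen⟩ := solvable_normal_torus (G := Red.bc y G) (hfib s₀) ((Over.pullback y).map i)
    (isNormalHom_bc y hn)
  constructor
  · obtain ⟨r, hr⟩ := Deform.exists_split _ hT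
    rw [hy] at hr
    exact TorusIsogeny.isTorus_of_geometric K hr
  · intro X x g
    refine Borel.bc_map_injective y ?_
    rw [Functor.map_mul, Functor.map_mul, Functor.map_comp]
    exact hcen _ _ _

end

end Groth.Agent.Deform.Luna
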