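import Groth.Agent.Deform.Luna.TorusImage
import Groth.Agent.Deform.MultEq.Main
import Groth.Agent.Deform.GreatestTorus
import Groth.Agent.Deform.Borel.CartanFacts
import Groth.Agent.Deform.Luna.RadTorus
import Groth.Agent.Deform.Luna.CentralTori
import Groth.Agent.GrpSchLib.AntiAffineHom

/-!
# A torus commuting with a maximal torus factors through it, over any base
-/

universe u

open CategoryTheory CategoryTheory.Limits MonoidalCategory CartesianMonoidalCategory MonObj GrpObj AlgebraicGeometry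

attribute [local instance] CategoryTheory.Hom.monoid CategoryTheory.Hom.group
set_option linter.style.haveILetI false

namespace Groth.Agent.Deform.Luna

open DiagMaps
open GrpSchLib.HomUnitLocus (Triv)

noncomputable section

variable {S : Scheme.{u}}

/-- A morphism to a diagonalisable group over a field with the same chart map as `D(φ)` is `D(φ)`. -/
theorem eq_DSmap_of_rep {K : Type u} [Field K] {M N : Type} [AddCommGroup M] [AddCommGroup N]
    {a : Red.DS (Spec (CommRingCat.of K)) M ⟶ Red.DS (Spec (CommRingCat.of K)) N} {φ : N →+ M}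
    (h : Rep (chartDS (𝟙 (Spec (CommRingCat.of K))) M) (chartDS (𝟙 (Spec (CommRingCat.of K))) N) a φ) :
    a = Red.DSmap (Spec (CommRingCat.of K)) φ := by
  refine hom_ext_pt _ _ fun B _ j c => ?_
  letI : Algebra K B := (Spec.preimage j).hom.toAlgebra
  have hj : Spec.map (CommRingCat.ofHom (algebraMap K B)) ≫ 𝟙 (Spec (CommRingCat.of K)) = j := by
    rw [Category.comp_id]
    exact Spec.map_preimage j
  rw [← hj]
  exact (h B c).trans (rep_DSmap φ B c).symm

/-- A geometric point lifts along an etale morphism hitting it. -/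
theorem exists_lift_geomPt {U : Scheme.{u}} (g : U ⟶ S) [LocallyOfFiniteType g] (s : S) (hs : s ∈ Set.range g) :
    ∃ β : Spec (CommRingCat.of (AlgebraicClosure (S.residueField s))) ⟶ U, β ≫ g = Red.geomPt s := by
  obtain ⟨u, hu⟩ := hs
  let y := Red.geomPt s
  have hy : y (IsLocalRing.closedPoint _) = s := by
    show (Spec.map _ ≫ S.fromSpecResidueField s) _ = s
    rw [Scheme.Hom.comp_apply, Scheme.fromSpecResidueField_apply]
  obtain ⟨z, -, -⟩ := Scheme.Pullback.exists_preimage_pullback (f := g) (g := y) u (IsLocalRing.closedPoint _)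
    (hu.trans hy.symm)
  let X : Over (Spec (CommRingCat.of (AlgebraicClosure (S.residueField s)))) := Over.mk (pullback.snd g y)
  haveI : LocallyOfFiniteType X.hom := inferInstanceAs (LocallyOfFiniteType (pullback.snd g y))
  haveI : JacobsonSpace X.left := LocallyOfFiniteType.jacobsonSpace X.hom
  obtain ⟨x, -, hx⟩ := nonempty_inter_closedPoints (Z := (Set.univ : Set X.left)) ⟨z, trivial⟩
    (isOpen_univ.isLocallyClosed)
  obtain ⟨σ, -⟩ := Chev.exists_pimg_eq (G := X) hx
  refine ⟨σ.left ≫ pullback.fst g y, ?_⟩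
  rw [Category.assoc, pullback.condition, ← Category.assoc]
  have h := Over.w σ
  erw [h]
  exact Category.id_comp y

variable {G T R : Over S} [GrpObj G] [GrpObj T] [GrpObj R] [LocallyOfFinitePresentation G.hom] [QuasiCompact G.hom]

set_option maxHeartbeats 1000000 in
/-- The factorisation near a point, for the etale topology, from the factorisation on the geometric fibre. -/
theorem exists_factor_near {i : T ⟶ G} (hi : Red.IsMaximalTorus i) (hRm : SGA3x.IsMultTypeFT R) (j : R ⟶ G)
    [IsMonHom j] (hcomm : ∀ (X : Over S) (t : X ⟶ T) (r : X ⟶ R), (t ≫ i) * (r ≫ j) = (r ≫ j) * (t ≫ i)) (s : S)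
    (hK : ∃ fK : Red.bc (Red.geomPt s) R ⟶ Red.bc (Red.geomPt s) T,
      fK ≫ (Over.pullback (Red.geomPt s)).map i = (Over.pullback (Red.geomPt s)).map j) :
    ∃ (U : Scheme.{u}) (g : U ⟶ S), Etale g ∧ s ∈ Set.range g ∧
      ∃ w : Red.bc g R ⟶ Red.bc g T, w ≫ (Over.pullback g).map i = (Over.pullback g).map j := by
  haveI := hi.1; haveI := hi.2.1
  have hTm := Deform.isMultTypeFT_of_isTorus hi.2.2.1
  obtain ⟨S₁, f₁, MR, iMR, hf₁, ⟨s₁, hs₁⟩, hMR, ⟨e₁⟩⟩ := QuasiIsotrivial.exists_etale_split hRm s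
  obtain ⟨S₂, f₂, MT, iMT, hf₂, hs₂, hMT, ⟨eT'⟩⟩ :=
    QuasiIsotrivial.exists_etale_split (GrpSchLib.MultTypeBC.isMultTypeFT_bc f₁ hTm) s₁
  haveI := hf₁; haveI := hf₂; haveI := hMR; haveI := hMT
  let g : S₂ ⟶ S := f₂ ≫ f₁
  have hsg : s ∈ Set.range g := by
    obtain ⟨u, hu⟩ := hs₂
    exact ⟨u, by rw [Scheme.Hom.comp_apply, hu, hs₁]⟩
  obtain ⟨a₁⟩ := GrpSchLib.MultTypeBC.bc_bc f₂ f₁ R
  obtain ⟨a₂⟩ := GrpSchLib.MultTypeBC.bc_bc f₂ f₁ T
  obtain ⟨a₃⟩ := GrpSchLib.MultTypeBC.bc_iso f₂ e₁
  obtain ⟨a₄⟩ := GrpSchLib.MultTypeBC.bc_DS f₂ MR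
  let eR : Grp.mk (Red.bc g R) ≅ Grp.mk (Red.DS S₂ MR) := a₁.symm ≪≫ a₃ ≪≫ a₄
  let eT : Grp.mk (Red.bc g T) ≅ Grp.mk (Red.DS S₂ MT) := a₂.symm ≪≫ eT'
  let bR : Red.bc g R ≅ Red.DS S₂ MR := (Grp.forget _).mapIso eR
  let bT : Red.bc g T ≅ Red.DS S₂ MT := (Grp.forget _).mapIso eT
  haveI : IsMonHom bR.hom := eR.hom.hom.isMonHom_hom
  haveI : IsMonHom bR.inv := eR.inv.hom.isMonHom_hom
  haveI : IsMonHom bT.hom := eT.hom.hom.isMonHom_hom
  haveI : IsMonHom bT.inv := eT.inv.hom.isMonHom_hom
  haveI : LocallyOfFiniteType g := inferInstance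
  obtain ⟨β, hβ⟩ := exists_lift_geomPt g s hsg
  -- the factorisation at the geometric point
  obtain ⟨fK, hfK⟩ : ∃ fK : Red.bc (β ≫ g) R ⟶ Red.bc (β ≫ g) T,
      fK ≫ (Over.pullback (β ≫ g)).map i = (Over.pullback (β ≫ g)).map j := by rw [hβ]; exact hK
  let N := Over.pullbackComp β g
  let f' : Red.bc β (Red.bc g R) ⟶ Red.bc β (Red.bc g T) := N.inv.app R ≫ fK ≫ N.hom.app T
  have hf' : f' ≫ (Over.pullback β).map ((Over.pullback g).map i) =
      (Over.pullback β).map ((Over.pullback g).map j) := by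
    have h1 := N.hom.naturality i
    have h2 := N.hom.naturality j
    simp only [Functor.comp_map] at h1 h2
    simp only [f', Category.assoc]
    erw [← h1]
    rw [reassoc_of% hfK]
    erw [h2, ← Category.assoc, Iso.inv_hom_id_app]
    exact Category.id_comp _
  haveI : IsMonHom f' := Deform.isMonHom_of_comp f' ((Over.pullback β).map ((Over.pullback g).map i))
    (i := (Over.pullback β).map ((Over.pullback g).map j)) hf'
  let aK : Red.DS (Spec (CommRingCat.of (AlgebraicClosure (S.residueField s)))) MR ⟶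
      Red.DS (Spec (CommRingCat.of (AlgebraicClosure (S.residueField s)))) MT :=
    (bcDS β MR).inv ≫ (Over.pullback β).map bR.inv ≫ f' ≫ (Over.pullback β).map bT.hom ≫ (bcDS β MT).hom
  haveI : IsMonHom aK := inferInstanceAs (IsMonHom
    ((bcDS β MR).inv ≫ (Over.pullback β).map bR.inv ≫ f' ≫ (Over.pullback β).map bT.hom ≫ (bcDS β MT).hom))
  obtain ⟨φ, hφ⟩ := exists_rep (chartDS (𝟙 _) MR) (chartDS (𝟙 _) MT) aK
  have haK := eq_DSmap_of_rep hφ
  -- the difference is trivial near the point
  let w : Red.bc g R ⟶ Red.bc g T := bR.hom ≫ Red.DSmap S₂ φ ≫ bT.inv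
  haveI : IsMonHom w := inferInstanceAs (IsMonHom (bR.hom ≫ Red.DSmap S₂ φ ≫ bT.inv))
  have hw : (Over.pullback β).map w = f' := by
    have h1 := bcDS_naturality β φ
    simp only [w, Functor.map_comp]
    rw [← haK] at h1
    simp only [aK, Iso.hom_inv_id_assoc, Category.assoc] at h1
    rw [show (Over.pullback β).map (Red.DSmap S₂ φ) = (Over.pullback β).map bR.inv ≫ f' ≫ (Over.pullback β).map bT.hom
        from (cancel_mono (bcDS β MT).hom).mp (by simpa only [Category.assoc] using h1)]
    simp only [Category.assoc, ← Functor.map_comp, Iso.hom_inv_id, CategoryTheory.Functor.map_id, Category.comp_id]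
    rw [← Category.assoc, ← Functor.map_comp, Iso.hom_inv_id, CategoryTheory.Functor.map_id, Category.id_comp]
  let jg := (Over.pullback g).map j
  let ig := (Over.pullback g).map i
  let d : Red.bc g R ⟶ Red.bc g G := jg * (w ≫ ig)⁻¹
  have hc : ∀ (X : Over S₂) (a b : X ⟶ Red.bc g R), (a ≫ jg) * (b ≫ w ≫ ig) = (b ≫ w ≫ ig) * (a ≫ jg) := fun X a b => by
    refine (DSPtsLib.theta_bijective (g := g)).injective ?_
    rw [DSPtsLib.theta_mul, DSPtsLib.theta_mul, ← Category.assoc b w, theta_comp_map, theta_comp_map]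
    exact (hcomm _ _ _).symm
  have hRc : ∀ (X : Over S₂) (a b : X ⟶ Red.bc g R), a * b = b * a := fun X a b =>
    GrpSchLib.MultTypeComm.points_comm (GrpSchLib.MultTypeBC.isMultTypeFT_bc g hRm) a b
  haveI : IsMonHom d := LocSplitGlobal.isMonHom_of_mul d fun X a b => by
    simp only [d, MonObj.comp_mul, GrpObj.comp_inv]
    have hab : (a ≫ w ≫ ig) * (b ≫ w ≫ ig) = (b ≫ w ≫ ig) * (a ≫ w ≫ ig) := by
      rw [← MonObj.mul_comp, ← MonObj.mul_comp, hRc]
    have h1 : Commute (a ≫ w ≫ ig)⁻¹ (b ≫ jg) := (Commute.inv_right (hc X b a)).symm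
    rw [MonObj.mul_comp, MonObj.mul_comp, hab, _root_.mul_inv_rev, _root_.mul_assoc, ← _root_.mul_assoc (b ≫ jg),
      ← h1.eq]
    group
  haveI : LocallyOfFiniteType (Red.bc g G).hom := inferInstanceAs (LocallyOfFiniteType (pullback.snd G.hom g))
  have htriv : GrpSchLib.HomUnitLocus.Triv d (S₂.fromSpecResidueField (β (IsLocalRing.closedPoint _))) := by
    rw [← GrpSchLib.HomUnitLocus.triv_iff_of_field]
    refine GrpSchLib.HomUnitLocus.triv_of_map_eq_one ?_
    show (Over.pullback β).map (jg * (w ≫ ig)⁻¹) = 1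
    rw [Functor.map_mul]
    have h2 : (Over.pullback β).map jg = (Over.pullback β).map (w ≫ ig) := by
      rw [Functor.map_comp, hw, hf']
    rw [h2, ← Functor.map_mul, mul_inv_cancel, Functor.map_one]
  have hd1 := GrpSchLib.HomUnitLocus.map_eq_one_of_triv htriv
  haveI : IsMonHom (1 : Red.bc g R ⟶ Red.bc g G) := WittEndoLib.isMonHom_of_mul _ fun X a b => by
    rw [MonObj.comp_one, MonObj.comp_one, MonObj.comp_one, _root_.one_mul]
  obtain ⟨V, hβV, hVd⟩ := MultEq.exists_nhd_of_lft (u := d) (v := 1)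
    (GrpSchLib.MultTypeBC.isMultTypeFT_bc g hRm) (s := β (IsLocalRing.closedPoint _))
    ⟨by rw [hd1, Functor.map_one], fun X a b => by rw [hd1, MonObj.comp_one, _root_.one_mul, _root_.mul_one]⟩
  refine ⟨V, V.ι ≫ g, inferInstance, ⟨⟨_, hβV⟩, ?_⟩, ?_⟩
  · rw [Scheme.Hom.comp_apply]
    show g (β (IsLocalRing.closedPoint _)) = s
    rw [← Scheme.Hom.comp_apply, hβ]
    show (Spec.map _ ≫ S.fromSpecResidueField s) _ = s
    rw [Scheme.Hom.comp_apply, Scheme.fromSpecResidueField_apply]
  have hd : (Over.pullback V.ι).map jg = (Over.pullback V.ι).map (w ≫ ig) := by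
    have h1 : (Over.pullback V.ι).map d = 1 := hVd.trans (Functor.map_one _)
    have h2 : jg = d * (w ≫ ig) := by simp [d]
    rw [h2, Functor.map_mul, h1, _root_.one_mul]
  let P := Over.pullbackComp V.ι g
  refine ⟨P.hom.app R ≫ (Over.pullback V.ι).map w ≫ P.inv.app T, ?_⟩
  have h1 := P.inv.naturality i
  have h2 := P.hom.naturality j
  simp only [Functor.comp_map] at h1 h2
  simp only [Category.assoc]
  erw [← h1, ← Category.assoc ((Over.pullback V.ι).map w), ← Functor.map_comp, ← hd]
  calc P.hom.app R ≫ (Over.pullback V.ι).map jg ≫ P.inv.app G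
      = ((Over.pullback (V.ι ≫ g)).map j ≫ P.hom.app G) ≫ P.inv.app G := by
        rw [h2, Category.assoc]
    _ = (Over.pullback (V.ι ≫ g)).map j := by rw [Category.assoc, Iso.hom_inv_id_app, Category.comp_id]

set_option maxHeartbeats 1000000 in
/-- A group of multiplicative type commuting with a maximal torus and contained in it on the geometric fibres
factors through it. -/
theorem exists_factor_of_geom {i : T ⟶ G} (hi : Red.IsMaximalTorus i) (hRm : SGA3x.IsMultTypeFT R) (j : R ⟶ G)
    [IsMonHom j] (hcomm : ∀ (X : Over S) (t : X ⟶ T) (r : X ⟶ R), (t ≫ i) * (r ≫ j) = (r ≫ j) * (t ≫ i))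
    (hK : ∀ s : S, ∃ fK : Red.bc (Red.geomPt s) R ⟶ Red.bc (Red.geomPt s) T,
      fK ≫ (Over.pullback (Red.geomPt s)).map i = (Over.pullback (Red.geomPt s)).map j) :
    ∃ f : R ⟶ T, f ≫ i = j := by
  haveI := hi.1; haveI := hi.2.1
  haveI : Mono i.left := (inferInstance : Mono ((Over.forget S).map i))
  choose U g hg hs w hw using fun s => exists_factor_near hi hRm j hcomm s (hK s)
  haveI := hg
  let P : S → Scheme.{u} := fun s => pullback R.hom (g s)
  let π : (∐ P) ⟶ R.left := Sigma.desc fun s => pullback.fst R.hom (g s)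
  haveI : Etale π := IsZariskiLocalAtSource.sigmaDesc (P := @Etale) fun s => inferInstance
  haveI : Surjective π := ⟨fun x => by
    obtain ⟨v, hv⟩ := hs (R.hom x)
    obtain ⟨z, hz, -⟩ := Scheme.Pullback.exists_preimage_pullback (f := R.hom) (g := g (R.hom x)) x v hv.symm
    exact ⟨Sigma.ι P _ z, by rw [← Scheme.Hom.comp_apply, Sigma.ι_desc]; exact hz⟩⟩
  have hc := FpqcDescLib.covers_of_isCovering
    (FpqcDescLib.isCovering_of_flat π (GreatestTorus.hcov_of_etale π))
  let m : (∐ P) ⟶ T.left := Sigma.desc fun s => (w s).left ≫ pullback.fst T.hom (g s)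
  have hm : m ≫ i.left = π ≫ j.left := by
    refine Sigma.hom_ext _ _ fun s => ?_
    rw [Sigma.ι_desc_assoc, Sigma.ι_desc_assoc, Category.assoc]
    erw [← ActBC.pullback_map_left_fst (g s) i]
    rw [← Category.assoc, ← Over.comp_left, hw s]
    exact ActBC.pullback_map_left_fst (g s) j
  obtain ⟨y, hy, -⟩ := hc.desc m fun Y a b e => by
    rw [← cancel_mono i.left, Category.assoc, Category.assoc, hm, reassoc_of% e]
  haveI := hc.epi
  have hyi : y ≫ i.left = j.left := by rw [← cancel_epi π, reassoc_of% hy, hm]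
  exact ⟨Over.homMk y (by rw [← Over.w i, ← Category.assoc, hyi]; exact Over.w j), Over.OverMorphism.ext hyi⟩

/-- **A torus commuting with a maximal torus factors through it.** -/
theorem exists_factor_maxTorus {i : T ⟶ G} (hi : Red.IsMaximalTorus i) (hR : Red.IsTorus R) (j : R ⟶ G) [IsMonHom j]
    (hcomm : ∀ (X : Over S) (t : X ⟶ T) (r : X ⟶ R), (t ≫ i) * (r ≫ j) = (r ≫ j) * (t ≫ i)) :
    ∃ f : R ⟶ T, f ≫ i = j := by
  refine exists_factor_of_geom hi (Deform.isMultTypeFT_of_isTorus hR) j hcomm fun s => ?_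
  haveI : LocallyOfFiniteType (Red.bc (Red.geomPt s) G).hom :=
    inferInstanceAs (LocallyOfFiniteType (pullback.snd G.hom (Red.geomPt s)))
  haveI : QuasiCompact (Red.bc (Red.geomPt s) G).hom :=
    inferInstanceAs (QuasiCompact (pullback.snd G.hom (Red.geomPt s)))
  exact le_maxTorus_of_comm (Borel.isMaxTorus_geom hi s) (Deform.isTorus_bc _ hR)
    ((Over.pullback (Red.geomPt s)).map j) fun X t r => by
      refine (Agent.DSPtsLib.theta_bijective (g := Red.geomPt s)).injective ?_
      rw [Agent.DSPtsLib.theta_mul, Agent.DSPtsLib.theta_mul, theta_comp_map, theta_comp_map]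
      exact hcomm _ _ _

/-- The geometric fibres of a group with connected fibres are connected. -/
theorem connectedSpace_geom {G : Over S} [GrpObj G] [LocallyOfFiniteType G.hom]
    (hconn : ∀ s : S, _root_.IsConnected (G.hom.base ⁻¹' {s})) (s : S) :
    ConnectedSpace ↥(Red.bc (Red.geomPt s) G).left := by
  let y := S.fromSpecResidueField s
  haveI : ConnectedSpace ↥(Red.bc y G).left := by
    haveI : ConnectedSpace ↥(G.hom.base ⁻¹' {s}) := isConnected_iff_connectedSpace.mp (hconn s)
    exact (G.hom.fiberHomeo s).symm.surjective.connectedSpace (G.hom.fiberHomeo s).symm.continuous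
  haveI : LocallyOfFiniteType (Red.bc y G).hom := inferInstanceAs (LocallyOfFiniteType (pullback.snd G.hom y))
  have h := Agent.GrpSchLib.AntiAffine.connectedSpace_bc (k := S.residueField s) (Red.bc y G)
    (algebraMap (S.residueField s) (AlgebraicClosure (S.residueField s)))
  let i := pullbackLeftPullbackSndIso G.hom y
    (Spec.map (CommRingCat.ofHom (algebraMap (S.residueField s) (AlgebraicClosure (S.residueField s)))))
  haveI : ConnectedSpace ↥(pullback (pullback.snd G.hom y)
    (Spec.map (CommRingCat.ofHom (algebraMap (S.residueField s) (AlgebraicClosure (S.residueField s)))))) := h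
  exact i.hom.homeomorph.surjective.connectedSpace i.hom.continuous

/-- **A central group of multiplicative type factors through every maximal torus.** -/
theorem central_factor_maxTorus [Smooth G.hom] [IsAffineHom G.hom]
    (hconn : ∀ s : S, _root_.IsConnected (G.hom.base ⁻¹' {s})) {i : T ⟶ G} (hi : Red.IsMaximalTorus i)
    (hR : SGA3x.IsMultTypeFT R) (j : R ⟶ G) [IsMonHom j]
    (hc : ∀ (X : Over S) (x : X ⟶ R) (g : X ⟶ G), (x ≫ j) * g = g * (x ≫ j)) :
    ∃ f : R ⟶ T, f ≫ i = j := by
  refine exists_factor_of_geom hi hR j (fun X t r => (hc X r _).symm) fun s => ?_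
  haveI := connectedSpace_geom hconn s
  haveI : IsAffine (Red.bc (Red.geomPt s) G).left := by
    haveI : IsAffineHom (Red.bc (Red.geomPt s) G).hom :=
      inferInstanceAs (IsAffineHom (pullback.snd G.hom (Red.geomPt s)))
    exact isAffine_of_isAffineHom (Red.bc (Red.geomPt s) G).hom
  haveI : Smooth (Red.bc (Red.geomPt s) G).hom := inferInstanceAs (Smooth (pullback.snd G.hom (Red.geomPt s)))
  refine central_multType_le_maxTorus (Borel.isMaxTorus_geom hi s)
    (GrpSchLib.MultTypeBC.isMultTypeFT_bc _ hR) ((Over.pullback (Red.geomPt s)).map j) fun X x g => ?_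
  refine (Agent.DSPtsLib.theta_bijective (g := Red.geomPt s)).injective ?_
  rw [Agent.DSPtsLib.theta_mul, Agent.DSPtsLib.theta_mul, theta_comp_map]
  exact hc _ _ _

end

end Groth.Agent.Deform.Luna
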