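import Groth.Agent.Deform.Luna.Fixes
import Groth.Agent.Deform.Borel.CentBase
import Groth.Agent.Deform.Borel.CentField

/-!
# The unipotent radical as an intersection of Borel subgroups and centralisers of maximal tori
-/

universe u

open CategoryTheory CategoryTheory.Limits MonoidalCategory CartesianMonoidalCategory MonObj GrpObj AlgebraicGeometry

attribute [local instance] CategoryTheory.Hom.monoid CategoryTheory.Hom.group
set_option linter.style.haveILetI false
set_option linter.unusedSectionVars false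

namespace Groth.Agent.Deform.Luna

open Chev (Pt pimg)
open Borel (conj comp_conj pt_conj)

noncomputable section

variable {k : Type u} [Field k] [IsAlgClosed k] {G : Over (Spec (CommRingCat.of k))} [GrpObj G]

/-- A smooth closed subgroup with normal points is normal. -/
theorem isNormalHom_of_pts {H : Over (Spec (CommRingCat.of k))} [GrpObj H] [Smooth G.hom] [Smooth H.hom] (i : H ⟶ G)
    [IsClosedImmersion i.left] (h : ∀ (g : Pt G) (x : Pt H), ∃ x' : Pt H, x' ≫ i = g * (x ≫ i) * g⁻¹) :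
    AlgGrp.IsNormalHom i := by
  haveI : Smooth (G ⊗ H).hom := inferInstanceAs (Smooth (pullback.fst G.hom H.hom ≫ G.hom))
  haveI : IsReduced (G ⊗ H).left := GrpSchLib.isReduced_of_smooth_field (G ⊗ H).hom
  obtain ⟨c, hc⟩ := Chev.exists_lift_range i (fst G H * (snd G H ≫ i) * (fst G H)⁻¹)
    (Chev.mem_of_pts _ i.left.isClosedEmbedding.isClosed_range fun w => by
      obtain ⟨x', hx'⟩ := h (w ≫ fst G H) (w ≫ snd G H)
      exact ⟨pimg x', by
        rw [← Chev.pimg_comp, hx', MonObj.comp_mul, MonObj.comp_mul, GrpObj.comp_inv, Category.assoc]⟩)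
  intro X g n
  refine ⟨lift g n ≫ c, ?_⟩
  rw [Category.assoc, hc, MonObj.comp_mul, MonObj.comp_mul, GrpObj.comp_inv, lift_fst, lift_snd_assoc]

variable [IsAffine G.left] [Smooth G.hom] [ConnectedSpace G.left]

/-- The connected intersection of the conjugates of a Borel subgroup. -/
theorem exists_inter_borels {B : Over (Spec (CommRingCat.of k))} [GrpObj B] {iB : B ⟶ G}
    (hB : Red.IsBorelOver k iB) :
    ∃ (J : Over (Spec (CommRingCat.of k))) (_ : GrpObj J) (j : J ⟶ G), IsMonHom j ∧ IsClosedImmersion j.left ∧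
      Smooth J.hom ∧ ConnectedSpace J.left ∧ Group.IsSolvable (Pt J) ∧
      (∀ (g : Pt G) (x : Pt J), ∃ x' : Pt J, x' ≫ j = g * (x ≫ j) * g⁻¹) ∧
      ∀ (U : Over (Spec (CommRingCat.of k))) [GrpObj U] [Smooth U.hom] [ConnectedSpace U.left] (f : U ⟶ G)
        [IsMonHom f], (∀ (u : Pt U) (g : Pt G), ∃ b : Pt B, b ≫ iB = g⁻¹ * (u ≫ f) * g) →
        ∃ f' : U ⟶ J, IsMonHom f' ∧ f' ≫ j = f := by
  haveI : IsAffineHom G.hom := isAffineHom_of_isAffine _
  haveI : QuasiCompact G.hom := inferInstance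
  obtain ⟨hbm, hbc, hBs, hBcn, hBsol, -⟩ := id hB
  haveI := hbm; haveI := hbc; haveI := hBs; haveI := hBcn
  haveI : Mono iB := (Over.forget _).mono_of_mono_map (inferInstanceAs (Mono iB.left))
  let H : Subgroup (Pt G) :=
    { carrier := {x | ∀ g : Pt G, ∃ b : Pt B, b ≫ iB = g⁻¹ * x * g}
      one_mem' := fun g => ⟨1, by rw [MonObj.one_comp, _root_.mul_one, inv_mul_cancel]⟩
      mul_mem' := fun {x y} hx hy g => by
        obtain ⟨b, hb⟩ := hx g
        obtain ⟨c, hc⟩ := hy g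
        exact ⟨b * c, by rw [MonObj.mul_comp, hb, hc]; group⟩
      inv_mem' := fun {x} hx g => by
        obtain ⟨b, hb⟩ := hx g
        exact ⟨b⁻¹, by rw [GrpObj.inv_comp, hb]; group⟩ }
  let C : Set G.left := ⋂ g : Pt G, (conj g⁻¹).left ⁻¹' Set.range iB.left
  have hC : IsClosed C := isClosed_iInter fun g =>
    iB.left.isClosedEmbedding.isClosed_range.preimage (conj g⁻¹).left.continuous
  have hCH : ∀ x : Pt G, pimg x ∈ C ↔ x ∈ H := fun x => by
    simp only [C, Set.mem_iInter, Set.mem_preimage]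
    refine forall_congr' fun g => ?_
    rw [← Chev.pimg_comp, pt_conj, _root_.inv_inv]
    exact ⟨fun h => Borel.exists_lift_pt iB h, fun ⟨b, hb⟩ => hb ▸ ⟨pimg b, (Chev.pimg_comp b iB).symm⟩⟩
  obtain ⟨J, iJ, j, hj, hjc, hJs, hJq, hJc, hJH, hlift⟩ := Borel.exists_neutral H hC hCH
  haveI := hj; haveI := hjc; haveI := hJs; haveI := hJc
  haveI : Mono j := (Over.forget _).mono_of_mono_map (inferInstanceAs (Mono j.left))
  refine ⟨J, iJ, j, hj, hjc, hJs, hJc, ?_, fun g x => ?_, fun U _ _ _ f _ hf => hlift U f fun u => hf u⟩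
  · -- solvability: the intersection lies in the Borel subgroup
    haveI : Group.IsSolvable (Pt B) := Borel.isSolvable_pts_of_grp hBsol
    haveI : IsReduced J.left := GrpSchLib.isReduced_of_smooth_field J.hom
    obtain ⟨d, hd⟩ := Chev.exists_lift_range iB j (Chev.mem_of_pts _ iB.left.isClosedEmbedding.isClosed_range
      fun x => by
        obtain ⟨b, hb⟩ := hJH x 1
        rw [inv_one, _root_.one_mul, _root_.mul_one] at hb
        exact ⟨pimg b, by rw [← Chev.pimg_comp, hb]⟩)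
    haveI : IsMonHom d := Deform.isMonHom_of_comp d iB (i := j) hd
    exact Group.isSolvable_of_isSolvable_injective (f := Borel.ptsMap d) fun a b h =>
      (cancel_mono j).mp (by rw [← hd, ← Category.assoc, ← Category.assoc]; exact congrArg (· ≫ iB) h)
  · obtain ⟨f', -, hf'⟩ := hlift J (j ≫ conj g) fun y g' => by
      obtain ⟨b, hb⟩ := hJH y (g⁻¹ * g')
      exact ⟨b, by rw [hb, ← Category.assoc, pt_conj]; group⟩
    exact ⟨x ≫ f', by rw [Category.assoc, hf', ← Category.assoc, pt_conj]⟩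

/-- **The unipotent radical**, which contains every subgroup without subtori lying in all Borel subgroups. -/
theorem exists_Ru {B : Over (Spec (CommRingCat.of k))} [GrpObj B] {iB : B ⟶ G} (hB : Red.IsBorelOver k iB) :
    ∃ (W : Over (Spec (CommRingCat.of k))) (_ : GrpObj W) (w : W ⟶ G), IsMonHom w ∧ IsClosedImmersion w.left ∧
      Smooth W.hom ∧ ConnectedSpace W.left ∧ AlgGrp.IsNormalHom w ∧ Red.HasNoSubtorus k W ∧
      ∀ (U : Over (Spec (CommRingCat.of k))) [GrpObj U] [IsAffine U.left] [Smooth U.hom] [ConnectedSpace U.left]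
        (f : U ⟶ G) [IsMonHom f], Red.HasNoSubtorus k U →
        (∀ (u : Pt U) (g : Pt G), ∃ b : Pt B, b ≫ iB = g⁻¹ * (u ≫ f) * g) → ∃ f' : U ⟶ W, f' ≫ w = f := by
  obtain ⟨J, gJ, j, hj, hjc, hJs, hJc, hJsol, hnorm, hlift⟩ := exists_inter_borels hB
  haveI := hj; haveI := hjc; haveI := hJs; haveI := hJc; haveI := hJsol
  haveI : Mono j := (Over.forget _).mono_of_mono_map (inferInstanceAs (Mono j.left))
  haveI : IsAffine J.left := isAffine_of_isAffineHom j.left
  obtain ⟨T', gT', i', ρ, K, gK, κ, hT', hρ, hi', -, hκ, hκc, hKs, hKc, hker, hK⟩ := Borel.exists_rad J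
  haveI := hρ; haveI := hκ; haveI := hκc; haveI := hKs; haveI := hKc
  haveI : Mono κ := (Over.forget _).mono_of_mono_map (inferInstanceAs (Mono κ.left))
  haveI : IsClosedImmersion (κ ≫ j).left := inferInstanceAs (IsClosedImmersion (κ.left ≫ j.left))
  haveI : IsAffine K.left := isAffine_of_isAffineHom κ.left
  haveI : IsReduced J.left := GrpSchLib.isReduced_of_smooth_field J.hom
  refine ⟨K, gK, κ ≫ j, inferInstance, inferInstance, hKs, hKc, isNormalHom_of_pts _ fun g x => ?_, hK,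
    fun U _ _ _ _ f _ hU hf => ?_⟩
  · -- conjugation preserves the largest subgroup without subtori
    obtain ⟨σ, hσ⟩ := Chev.exists_lift_range j (j ≫ conj g) (Chev.mem_of_pts _ j.left.isClosedEmbedding.isClosed_range
      fun y => by
        obtain ⟨y', hy'⟩ := hnorm g y
        exact ⟨pimg y', by rw [← Chev.pimg_comp, hy', ← Category.assoc, pt_conj]⟩)
    haveI : IsMonHom σ := Deform.isMonHom_of_comp σ j (i := j ≫ conj g) hσ
    have h1 : ((x ≫ κ) ≫ σ) ≫ ρ = 1 := by
      rw [Category.assoc, Category.assoc]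
      exact Borel.hom_torus_trivial hK hT' (κ ≫ σ ≫ ρ) x
    obtain ⟨x', hx'⟩ := (hker _).mpr h1
    exact ⟨x', by rw [reassoc_of% hx', hσ, ← pt_conj]; simp only [Category.assoc]⟩
  · obtain ⟨f', hf'm, hf'⟩ := hlift U f hf
    haveI := hf'm
    haveI : IsReduced U.left := GrpSchLib.isReduced_of_smooth_field U.hom
    obtain ⟨f'', hf''⟩ := Chev.exists_lift_range κ f' (Chev.mem_of_pts _ κ.left.isClosedEmbedding.isClosed_range
      fun u => by
        obtain ⟨y, hy⟩ := (hker (u ≫ f')).mpr (by rw [Category.assoc]; exact Borel.hom_torus_trivial hU hT' (f' ≫ ρ) u)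
        exact ⟨pimg y, by rw [← Chev.pimg_comp, hy]⟩)
    exact ⟨f'', by rw [reassoc_of% hf'', hf']⟩

/-- A torus lies in a Borel subgroup. -/
theorem exists_borel_torus {T : Over (Spec (CommRingCat.of k))} [GrpObj T] (hT : Red.IsTorus T) (i : T ⟶ G)
    [IsMonHom i] :
    ∃ (B : Over (Spec (CommRingCat.of k))) (_ : GrpObj B) (iB : B ⟶ G) (t : T ⟶ B),
      Red.IsBorelOver k iB ∧ t ≫ iB = i := by
  obtain ⟨hTa, hTl, hTs, hTc⟩ := Deform.TorusBasic.props hT
  haveI := hTa; haveI := hTs; haveI := hTc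
  haveI : Group.IsSolvable (Pt T) := Borel.isSolvable_pts_of_torus hT
  obtain ⟨H, iH', iH, hH, -, huH⟩ := Borel.exists_borel G
  obtain ⟨g, f, -, hf⟩ := huH T i
  exact ⟨H, iH', iH ≫ conj g⁻¹, f, Borel.isBorelOver_conj iH hH g⁻¹, by
    rw [reassoc_of% hf, ← comp_conj, Category.assoc, Borel.conj_right_inv, Category.comp_id]⟩

/-- A normal subgroup without subtori lies in every Borel subgroup. -/
theorem normal_mem_borels {B U : Over (Spec (CommRingCat.of k))} [GrpObj B] [GrpObj U] {iB : B ⟶ G}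
    (hB : Red.IsBorelOver k iB) [IsAffine U.left] [Smooth U.hom] [ConnectedSpace U.left]
    [Group.IsSolvable (Pt U)] (iU : U ⟶ G) [IsMonHom iU]
    (hn : ∀ (g : Pt G) (x : Pt U), ∃ x' : Pt U, x' ≫ iU = g * (x ≫ iU) * g⁻¹) (u : Pt U) (g : Pt G) :
    ∃ b : Pt B, b ≫ iB = g⁻¹ * (u ≫ iU) * g := by
  obtain ⟨g₀, -, hg₀⟩ := exists_fixed_mem (G := G) hB iU isClosed_univ (fun _ _ _ => trivial) (fun _ _ _ => trivial)
    1 trivial
  obtain ⟨x, hx⟩ := hn (g₀ * g⁻¹) u
  obtain ⟨b, hb⟩ := hg₀ x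
  exact ⟨b, by rw [hb, hx]; group⟩

/-- **Chevalley's theorem**: connected subgroups without subtori centralising a maximal torus lie in every Borel
subgroup. -/
theorem centralizing_mem_borels {T B : Over (Spec (CommRingCat.of k))} [GrpObj T] [GrpObj B] {i : T ⟶ G}
    (hi : AGF.IsMaxTorus i) {iB : B ⟶ G} (hB : Red.IsBorelOver k iB) {U : Over (Spec (CommRingCat.of k))} [GrpObj U]
    [IsAffine U.left] [Smooth U.hom] [ConnectedSpace U.left] (hU : Red.HasNoSubtorus k U) (iU : U ⟶ G)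
    [IsMonHom iU] (hcomm : ∀ (u : Pt U) (w : Pt T), (u ≫ iU) * (w ≫ i) = (w ≫ i) * (u ≫ iU)) (u : Pt U)
    (g : Pt G) : ∃ b : Pt B, b ≫ iB = g⁻¹ * (u ≫ iU) * g := by
  haveI := hi.1
  obtain ⟨hTa, hTl, hTs, hTc⟩ := Deform.TorusBasic.props hi.2.2.1
  haveI := hTs
  haveI : IsReduced T.left := GrpSchLib.isReduced_of_smooth_field T.hom
  obtain ⟨B₀, gB₀, iB₀, t, hB₀, ht⟩ := exists_borel_torus hi.2.2.1 i
  obtain ⟨c, σ, hσm, hσ⟩ := Borel.borel_conj iB₀ iB hB₀ hB
  have key := mem_all_borels hi hB₀ t ht hU iU (fun g' hg' u' => by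
    haveI := hB₀.2.1
    obtain ⟨t', ht'⟩ := Chev.exists_lift_range iB₀ (i ≫ conj g'⁻¹)
      (Chev.mem_of_pts _ iB₀.left.isClosedEmbedding.isClosed_range fun w => by
        obtain ⟨b, hb⟩ := hg' w
        exact ⟨pimg b, by rw [← Chev.pimg_comp, hb, ← Category.assoc, pt_conj, _root_.inv_inv]⟩)
    obtain ⟨b, hb⟩ := Borel.centralizing_pt_mem hi (Borel.isBorelOver_conj iB₀ hB₀ g') t'
      (by rw [← Category.assoc, ht', Category.assoc, Borel.conj_left_inv, Category.comp_id]) (u' ≫ iU)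
      fun w => hcomm u' w
    rw [← Category.assoc, pt_conj] at hb
    exact ⟨b, by rw [← hb]; group⟩) (g * c) u
  obtain ⟨b, hb⟩ := key
  rw [← comp_conj] at hσ
  refine ⟨b ≫ σ.hom, ?_⟩
  rw [Category.assoc, hσ, ← Category.assoc, pt_conj, hb]
  group

set_option maxHeartbeats 1000000 in
/-- **In a reductive group a maximal torus is its own centraliser.** -/
theorem isCentralizerOf_self (hG : Red.IsReductiveOver k G) {T : Over (Spec (CommRingCat.of k))} [GrpObj T]
    {i : T ⟶ G} (hi : AGF.IsMaxTorus i) : Red.IsCentralizerOf i i := by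
  haveI : IsAffineHom G.hom := isAffineHom_of_isAffine _
  haveI := Agent.GrpSchLib.AntiAffine.isSeparated_grp G
  obtain ⟨him, himo, hT, hmax⟩ := id hi
  haveI := him; haveI := himo
  obtain ⟨hTa, hTl, hTs, hTc⟩ := Deform.TorusBasic.props hT
  haveI := hTs
  obtain ⟨C, gC, c, hc, hcc, hCs⟩ :=
    Deform.exists_centralizer (Deform.isMultType_of_ft (Deform.isMultTypeFT_of_isTorus hT)) i
  obtain ⟨-, -, hCc, hCn, -⟩ := Borel.cartan_props hi hc
  haveI := hc.1; haveI := hc.2.1; haveI := hcc; haveI := hCs; haveI := hCc; haveI := hCn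
  haveI : IsAffine C.left := isAffine_of_isAffineHom c.left
  haveI : Group.IsSolvable (Pt C) := inferInstance
  obtain ⟨t₀, ht₀⟩ := (hc.2.2 T i).mpr fun X x h => by
    rw [← MonObj.mul_comp, ← MonObj.mul_comp,
      Agent.GrpSchLib.MultTypeComm.points_comm (Deform.isMultTypeFT_of_isTorus hT) x h]
  obtain ⟨T', gT', i', ρ, K, gK, κ, hT', hρ, hi', hiρ, hκ, hκc, hKs, hKc, hker, hK⟩ := Borel.exists_rad C
  haveI := hρ; haveI := hi'; haveI := hκ; haveI := hκc; haveI := hKs; haveI := hKc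
  haveI : IsAffine K.left := isAffine_of_isAffineHom κ.left
  obtain ⟨B, gB, iB, t, hB, -⟩ := exists_borel_torus hT i
  obtain ⟨W, gW, w, hwm, hwc, hWs, hWc, hWn, hW, hWu⟩ := exists_Ru hB
  haveI := hwm; haveI := hwc; haveI := hWs; haveI := hWc
  have hWt : Red.IsTrivialGrp W := hG.2.2.2 W w hwc hWs hWc hWn hW
  obtain ⟨f, hf⟩ := hWu K (κ ≫ c) hK fun u g => centralizing_mem_borels hi hB hK (κ ≫ c) (fun u' v => by
    rw [← Category.assoc]; exact Borel.centralizer_comm hc (u' ≫ κ) v) u g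
  have hκ1 : ∀ y : Pt K, y ≫ κ = 1 := fun y => (cancel_mono c).mp (by
    rw [MonObj.one_comp, Category.assoc, ← hf, ← Category.assoc, Borel.pts_eq_one_of_isTrivialGrp hWt (y ≫ f),
      MonObj.one_comp])
  have hρi : ρ ≫ i' = 𝟙 C := Borel.comp_inj_pt _ _ fun x => by
    obtain ⟨y, hy⟩ := (hker (x * ((x ≫ ρ) ≫ i')⁻¹)).mpr (by
      rw [MonObj.mul_comp, GrpObj.inv_comp, Category.assoc (x ≫ ρ), hiρ, Category.comp_id, mul_inv_cancel])
    rw [hκ1] at hy
    rw [Category.comp_id, ← Category.assoc]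
    exact (mul_inv_eq_one.mp hy.symm).symm
  haveI : IsIso ρ := ⟨i', hρi, hiρ⟩
  haveI : Mono i' := ⟨fun {Z} a b h => by simpa [hiρ] using congrArg (· ≫ ρ) h⟩
  haveI : IsMonHom t₀ := Deform.isMonHom_of_comp t₀ c (i := i) ht₀
  haveI := hmax T' (i' ≫ c) (t₀ ≫ ρ) hT' (by rw [Category.assoc, reassoc_of% hρi, ht₀])
  haveI : IsIso t₀ := IsIso.of_isIso_comp_right t₀ ρ
  refine ⟨him, himo, fun X g => ?_⟩
  rw [← hc.2.2 X g]
  exact ⟨fun ⟨z, hz⟩ => ⟨z ≫ t₀, by rw [Category.assoc, ht₀, hz]⟩,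
    fun ⟨z, hz⟩ => ⟨z ≫ inv t₀, by rw [← hz, Category.assoc, ← ht₀, IsIso.inv_hom_id_assoc]⟩⟩

end

end Groth.Agent.Deform.Luna
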