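import Groth.Agent.Deform.Luna.RadTorus

/-!
# Characteristic radicals
-/

universe u

open CategoryTheory CategoryTheory.Limits MonoidalCategory CartesianMonoidalCategory MonObj GrpObj AlgebraicGeometry

attribute [local instance] CategoryTheory.Hom.monoid CategoryTheory.Hom.group
set_option linter.style.haveILetI false
set_option linter.unusedSectionVars false

namespace Groth.Agent.Deform.Luna

open Chev (Pt pimg)
open Borel (conj comp_conj pt_conj)

noncomputable section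

variable {k : Type u} [Field k] [IsAlgClosed k] {N : Over (Spec (CommRingCat.of k))} [GrpObj N] [IsAffine N.left]
  [Smooth N.hom] [ConnectedSpace N.left]

/-- Conjugation-stable maps stay so after an automorphism. -/
theorem normal_comp_aut {W : Over (Spec (CommRingCat.of k))} (w : W ⟶ N) (σ : N ⟶ N) [IsIso σ] [IsMonHom σ]
    (hn : ∀ (g : Pt N) (x : Pt W), ∃ x' : Pt W, x' ≫ w = g * (x ≫ w) * g⁻¹) (g : Pt N) (x : Pt W) :
    ∃ x' : Pt W, x' ≫ w ≫ σ = g * (x ≫ w ≫ σ) * g⁻¹ := by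
  obtain ⟨x', hx'⟩ := hn (g ≫ inv σ) x
  refine ⟨x', ?_⟩
  have h : (x' ≫ w) ≫ σ = ((g ≫ inv σ) * (x ≫ w) * (g ≫ inv σ)⁻¹) ≫ σ := congrArg (· ≫ σ) hx'
  simpa only [MonObj.mul_comp, GrpObj.inv_comp, Category.assoc, IsIso.inv_hom_id, Category.comp_id] using h

variable (N)

/-- **The unipotent radical is characteristic.** -/
theorem exists_Ru_char :
    ∃ (W : Over (Spec (CommRingCat.of k))) (_ : GrpObj W) (w : W ⟶ N), IsMonHom w ∧ IsClosedImmersion w.left ∧
      Smooth W.hom ∧ ConnectedSpace W.left ∧ AlgGrp.IsNormalHom w ∧ Red.HasNoSubtorus k W ∧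
      (∀ (σ : N ⟶ N) [IsIso σ] [IsMonHom σ] (x : Pt W), ∃ x' : Pt W, x' ≫ w = x ≫ w ≫ σ) ∧
      ∀ (U : Over (Spec (CommRingCat.of k))) [GrpObj U] [IsAffine U.left] [Smooth U.hom] [ConnectedSpace U.left]
        (f : U ⟶ N) [IsMonHom f], Red.HasNoSubtorus k U →
        (∀ (g : Pt N) (x : Pt U), ∃ x' : Pt U, x' ≫ f = g * (x ≫ f) * g⁻¹) → ∃ f' : U ⟶ W, f' ≫ w = f := by
  obtain ⟨B, gB, iB, hB, -, -⟩ := Borel.exists_borel N
  obtain ⟨W, gW, w, hwm, hwc, hWs, hWc, hWn, hW, huniv⟩ := exists_Ru hB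
  haveI := hwm; haveI := hwc; haveI := hWs; haveI := hWc
  haveI : IsAffine W.left := isAffine_of_isAffineHom w.left
  have habs : ∀ (U : Over (Spec (CommRingCat.of k))) [GrpObj U] [IsAffine U.left] [Smooth U.hom] [ConnectedSpace U.left]
      (f : U ⟶ N) [IsMonHom f], Red.HasNoSubtorus k U →
      (∀ (g : Pt N) (x : Pt U), ∃ x' : Pt U, x' ≫ f = g * (x ≫ f) * g⁻¹) → ∃ f' : U ⟶ W, f' ≫ w = f :=
    fun U _ _ _ _ f _ hU hn => by
      haveI := Borel.isNilpotent_pts_of_noSubtorus U hU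
      haveI : Group.IsSolvable (Pt U) := inferInstance
      exact huniv U f hU (normal_mem_borels hB f hn)
  refine ⟨W, gW, w, hwm, hwc, hWs, hWc, hWn, hW, fun σ _ _ x => ?_, habs⟩
  obtain ⟨f, hf⟩ := habs W (w ≫ σ) hW (normal_comp_aut w σ fun g z => (hWn _ g z).imp fun _ h => h.symm)
  exact ⟨x ≫ f, by rw [Category.assoc, hf]⟩

/-- **The radical is characteristic.** -/
theorem exists_radical :
    ∃ (J : Over (Spec (CommRingCat.of k))) (_ : GrpObj J) (j : J ⟶ N), IsMonHom j ∧ IsClosedImmersion j.left ∧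
      Smooth J.hom ∧ ConnectedSpace J.left ∧ Group.IsSolvable (Pt J) ∧ AlgGrp.IsNormalHom j ∧
      (∀ (σ : N ⟶ N) [IsIso σ] [IsMonHom σ] (x : Pt J), ∃ x' : Pt J, x' ≫ j = x ≫ j ≫ σ) ∧
      ∀ (U : Over (Spec (CommRingCat.of k))) [GrpObj U] [IsAffine U.left] [Smooth U.hom] [ConnectedSpace U.left]
        [Group.IsSolvable (Pt U)] (f : U ⟶ N) [IsMonHom f],
        (∀ (g : Pt N) (x : Pt U), ∃ x' : Pt U, x' ≫ f = g * (x ≫ f) * g⁻¹) → ∃ f' : U ⟶ J, f' ≫ j = f := by
  obtain ⟨B, gB, iB, hB, -, -⟩ := Borel.exists_borel N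
  obtain ⟨J, gJ, j, hj, hjc, hJs, hJc, hJsol, hnorm, hlift⟩ := exists_inter_borels hB
  haveI := hj; haveI := hjc; haveI := hJs; haveI := hJc; haveI := hJsol
  haveI : IsAffine J.left := isAffine_of_isAffineHom j.left
  have habs : ∀ (U : Over (Spec (CommRingCat.of k))) [GrpObj U] [IsAffine U.left] [Smooth U.hom] [ConnectedSpace U.left]
      [Group.IsSolvable (Pt U)] (f : U ⟶ N) [IsMonHom f],
      (∀ (g : Pt N) (x : Pt U), ∃ x' : Pt U, x' ≫ f = g * (x ≫ f) * g⁻¹) → ∃ f' : U ⟶ J, f' ≫ j = f :=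
    fun U _ _ _ _ _ f _ hn => by
      obtain ⟨f', -, hf'⟩ := hlift U f (normal_mem_borels hB f hn)
      exact ⟨f', hf'⟩
  refine ⟨J, gJ, j, hj, hjc, hJs, hJc, hJsol, isNormalHom_of_pts j hnorm, fun σ _ _ x => ?_, habs⟩
  obtain ⟨f, hf⟩ := habs J (j ≫ σ) (normal_comp_aut j σ hnorm)
  exact ⟨x ≫ f, by rw [Category.assoc, hf]⟩

variable {N}

/-- Points of a normal subgroup act by automorphisms. -/
theorem exists_aut_of_normal {G M : Over (Spec (CommRingCat.of k))} [GrpObj G] [GrpObj M] [Smooth M.hom]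
    [IsSeparated G.hom] (i : M ⟶ G) [IsMonHom i] [IsClosedImmersion i.left] (hn : AlgGrp.IsNormalHom i) (g : Pt G) :
    ∃ σ : M ⟶ M, IsMonHom σ ∧ IsIso σ ∧ σ ≫ i = i ≫ conj g := by
  haveI : IsReduced M.left := GrpSchLib.isReduced_of_smooth_field M.hom
  haveI : Mono i := (Over.forget _).mono_of_mono_map (inferInstanceAs (Mono i.left))
  have hc : ∀ g : Pt G, ∃ σ : M ⟶ M, IsMonHom σ ∧ σ ≫ i = i ≫ conj g := fun g => by
    obtain ⟨σ, hσ⟩ := Chev.exists_lift_range i (i ≫ conj g) (Chev.mem_of_pts _ i.left.isClosedEmbedding.isClosed_range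
      fun z => by
        obtain ⟨y', hy'⟩ := hn _ g z
        exact ⟨pimg y', by rw [← Chev.pimg_comp, ← hy', ← Category.assoc, pt_conj]⟩)
    exact ⟨σ, Deform.isMonHom_of_comp σ i (i := i ≫ conj g) hσ, hσ⟩
  obtain ⟨σ, hσm, hσ⟩ := hc g
  obtain ⟨τ, -, hτ⟩ := hc g⁻¹
  exact ⟨σ, hσm, ⟨τ, (cancel_mono i).mp (by
      rw [Category.assoc, hτ, reassoc_of% hσ, Borel.conj_right_inv, Category.comp_id, Category.id_comp]),
    (cancel_mono i).mp (by
      rw [Category.assoc, hσ, reassoc_of% hτ, Borel.conj_left_inv, Category.comp_id, Category.id_comp])⟩, hσ⟩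

/-- A subgroup of a normal subgroup stable under its automorphisms is normal. -/
theorem isNormalHom_of_char {G M W : Over (Spec (CommRingCat.of k))} [GrpObj G] [GrpObj M] [GrpObj W] [Smooth G.hom]
    [Smooth M.hom] [Smooth W.hom] [IsSeparated G.hom] (i : M ⟶ G) [IsMonHom i] [IsClosedImmersion i.left]
    (hn : AlgGrp.IsNormalHom i) (w : W ⟶ M) [IsMonHom w] [IsClosedImmersion w.left]
    (hchar : ∀ (σ : M ⟶ M) [IsIso σ] [IsMonHom σ] (x : Pt W), ∃ x' : Pt W, x' ≫ w = x ≫ w ≫ σ) :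
    AlgGrp.IsNormalHom (w ≫ i) := by
  haveI : IsClosedImmersion (w ≫ i).left := inferInstanceAs (IsClosedImmersion (w.left ≫ i.left))
  refine isNormalHom_of_pts _ fun g x => ?_
  obtain ⟨σ, hσm, hσi, hσ⟩ := exists_aut_of_normal i hn g
  haveI := hσm; haveI := hσi
  obtain ⟨x', hx'⟩ := hchar σ x
  exact ⟨x', by rw [reassoc_of% hx', hσ, ← pt_conj]; simp only [Category.assoc]⟩

/-- **Normal subgroups of groups without unipotent radical have none.** -/
theorem radical_trivial_of_normal {G M U : Over (Spec (CommRingCat.of k))} [GrpObj G] [GrpObj M] [GrpObj U]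
    [IsAffine G.left] [Smooth G.hom] [Smooth M.hom] [ConnectedSpace M.left] (i : M ⟶ G) [IsMonHom i]
    [IsClosedImmersion i.left] (hn : AlgGrp.IsNormalHom i)
    (hG : ∀ (U : Over (Spec (CommRingCat.of k))) [GrpObj U] (j : U ⟶ G) [IsMonHom j], IsClosedImmersion j.left →
      Smooth U.hom → ConnectedSpace U.left → AlgGrp.IsNormalHom j → Red.HasNoSubtorus k U → Red.IsTrivialGrp U)
    (j : U ⟶ M) [IsMonHom j] [IsClosedImmersion j.left] [Smooth U.hom] [ConnectedSpace U.left]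
    (hjn : ∀ (g : Pt M) (x : Pt U), ∃ x' : Pt U, x' ≫ j = g * (x ≫ j) * g⁻¹) (hU : Red.HasNoSubtorus k U) :
    Red.IsTrivialGrp U := by
  haveI : IsAffineHom G.hom := isAffineHom_of_isAffine _
  haveI : IsAffine M.left := isAffine_of_isAffineHom i.left
  haveI : IsAffine U.left := isAffine_of_isAffineHom j.left
  haveI : IsAffineHom U.hom := isAffineHom_of_isAffine _
  haveI : IsReduced U.left := GrpSchLib.isReduced_of_smooth_field U.hom
  haveI : Mono j := (Over.forget _).mono_of_mono_map (inferInstanceAs (Mono j.left))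
  obtain ⟨W, gW, w, hwm, hwc, hWs, hWc, -, hW, hchar, habs⟩ := exists_Ru_char M
  haveI := hwm; haveI := hwc; haveI := hWs
  have hWt := hG W (w ≫ i) (inferInstanceAs (IsClosedImmersion (w.left ≫ i.left))) hWs hWc
    (isNormalHom_of_char i hn w hchar) hW
  obtain ⟨f, hf⟩ := habs U j hU hjn
  refine Borel.isTrivialGrp_of_pts fun x => (cancel_mono j).mp ?_
  rw [MonObj.one_comp, ← hf, ← Category.assoc, Borel.pts_eq_one_of_isTrivialGrp hWt (x ≫ f), MonObj.one_comp]

/-- **Connected normal subgroups of reductive groups are reductive.** -/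
theorem isReductiveOver_of_normal {G M : Over (Spec (CommRingCat.of k))} [GrpObj G] [GrpObj M]
    (hG : Red.IsReductiveOver k G) (i : M ⟶ G) [IsMonHom i] [IsClosedImmersion i.left] [Smooth M.hom]
    [ConnectedSpace M.left] (hn : AlgGrp.IsNormalHom i) : Red.IsReductiveOver k M := by
  haveI := hG.1; haveI := hG.2.1
  refine ⟨isAffine_of_isAffineHom i.left, inferInstance, inferInstance, fun U _ j _ hjc hUs hUc hjn hU => ?_⟩
  haveI := hjc; haveI := hUs; haveI := hUc
  exact radical_trivial_of_normal i hn hG.2.2.2 j (fun g x => (hjn _ g x).imp fun _ h => h.symm) hU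

/-- **Connected normal subgroups of semisimple groups are semisimple.** -/
theorem isSemisimpleOver_of_normal {G M : Over (Spec (CommRingCat.of k))} [GrpObj G] [GrpObj M]
    (hG : Red.IsSemisimpleOver k G) (i : M ⟶ G) [IsMonHom i] [IsClosedImmersion i.left] [Smooth M.hom]
    [ConnectedSpace M.left] (hn : AlgGrp.IsNormalHom i) : Red.IsSemisimpleOver k M := by
  haveI := hG.1.1; haveI := hG.1.2.1
  haveI : IsAffineHom G.hom := isAffineHom_of_isAffine _
  haveI : IsAffine M.left := isAffine_of_isAffineHom i.left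
  refine ⟨isReductiveOver_of_normal hG.1 i hn, fun T _ t _ htc htn hT => ?_⟩
  haveI := htc
  obtain ⟨hTa, hTl, hTs, hTc⟩ := Deform.TorusBasic.props hT
  haveI := hTa; haveI := hTs; haveI := hTc
  haveI : IsReduced T.left := GrpSchLib.isReduced_of_smooth_field T.hom
  haveI : IsAffineHom T.hom := isAffineHom_of_isAffine _
  haveI : Mono t := (Over.forget _).mono_of_mono_map (inferInstanceAs (Mono t.left))
  haveI : Group.IsSolvable (Pt T) := Borel.isSolvable_pts_of_torus hT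
  obtain ⟨J, gJ, j, hj, hjc, hJs, hJc, hJsol, -, hchar, habs⟩ := exists_radical M
  haveI := hj; haveI := hjc; haveI := hJs; haveI := hJc; haveI := hJsol
  haveI : IsClosedImmersion (j ≫ i).left := inferInstanceAs (IsClosedImmersion (j.left ≫ i.left))
  have hJn : AlgGrp.IsNormalHom (j ≫ i) := isNormalHom_of_char i hn j hchar
  have hJ1 := hG.2 J (j ≫ i) inferInstance hJn (solvable_normal_torus hG.1 (j ≫ i) hJn).1
  obtain ⟨f, hf⟩ := habs T t fun g x => (htn _ g x).imp fun _ h => h.symm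
  refine Borel.isTrivialGrp_of_pts fun x => (cancel_mono t).mp ?_
  rw [MonObj.one_comp, ← hf, ← Category.assoc, Borel.pts_eq_one_of_isTrivialGrp hJ1 (x ≫ f), MonObj.one_comp]

end

end Groth.Agent.Deform.Luna
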