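import Groth.Agent.Deform.Luna.SolvBound
import Groth.Agent.GeomLoci.ConnCount
import Groth.Agent.GeomLoci.Constructible
import Groth.Agent.GeomLoci.GenericCounts
import Mathlib.RingTheory.KrullDimension.Polynomial
import Mathlib.RingTheory.KrullDimension.Field
import Mathlib.Topology.Spectral.ConstructibleTopology
import Mathlib.RingTheory.TensorProduct.MvPolynomial

/-!
# Uniform bounds for the dimension and the number of components of geometric fibres
-/

set_option autoImplicit false

universe u

open CategoryTheory CategoryTheory.Limits AlgebraicGeometry TopologicalSpace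

set_option linter.style.haveILetI false

namespace Groth.Agent.Deform.Luna.SolvDim

open SolvBound
open scoped TensorProduct Topology

/-- A space covered by opens which embed as closed subspaces of affine spaces of dimension at most `d`. -/
theorem chainBound_of_cover {k : Type u} [Field k] {X : Type u} [TopologicalSpace X] {d : ℕ}
    (h : ∀ x : X, ∃ (n : ℕ) (V : Type u) (_ : TopologicalSpace V) (e : V → X)
      (a : V → PrimeSpectrum (MvPolynomial (Fin n) k)), n ≤ d ∧ Topology.IsOpenEmbedding e ∧ x ∈ Set.range e ∧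
      Topology.IsClosedEmbedding a) : ChainBound X d := by
  intro c hc hs
  obtain ⟨x, hx⟩ := (hc (d + 1) le_rfl).2.nonempty
  obtain ⟨n, V, _, e, a, hn, he, hxe, ha⟩ := h x
  have hsub : ∀ j, ∀ i ≤ j, j ≤ d + 1 → c j ⊆ c i := by
    intro j i hij hj
    induction hij with
    | refl => exact subset_rfl
    | step _ ih => exact (hs _ (by omega)).subset.trans (ih (by omega))
  have hne : ∀ j ≤ d + 1, (c j ∩ Set.range e).Nonempty := fun j hj => ⟨x, hsub _ j hj le_rfl hx, hxe⟩
  let b : ℕ → Set (PrimeSpectrum (MvPolynomial (Fin n) k)) := fun j => a '' (e ⁻¹' c j)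
  have hb : ∀ j ≤ d + 1, IsClosed (b j) ∧ IsIrreducible (b j) := fun j hj => by
    refine ⟨ha.isClosedMap _ ((hc j hj).1.preimage he.continuous), IsIrreducible.image ⟨?_, ?_⟩ _ ha.continuous.continuousOn⟩
    · obtain ⟨y, hy, v, rfl⟩ := hne j hj
      exact ⟨v, hy⟩
    · exact (hc j hj).2.isPreirreducible.preimage he
  have hbs : ∀ j ≤ d, b (j + 1) ⊂ b j := fun j hj => by
    refine (Set.image_mono (Set.preimage_mono (hs j hj).subset)).ssubset_of_ne fun eq => (hs j hj).ne ?_
    have e1 : c (j + 1) ∩ Set.range e = c j ∩ Set.range e := by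
      rw [← Set.image_preimage_eq_inter_range, ← Set.image_preimage_eq_inter_range,
        Set.image_injective.mpr ha.injective eq]
    refine (hs j hj).subset.antisymm ?_
    refine (subset_closure_inter_of_isPreirreducible_of_isOpen (hc j (by omega)).2.isPreirreducible he.isOpen_range
      (hne j (by omega))).trans ?_
    rw [← e1]
    exact closure_minimal Set.inter_subset_left (hc (j + 1) (by omega)).1
  let s : LTSeries (PrimeSpectrum (MvPolynomial (Fin n) k)) :=
    { length := d + 1
      toFun := fun i => ⟨PrimeSpectrum.vanishingIdeal (b i),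
        PrimeSpectrum.isIrreducible_iff_vanishingIdeal_isPrime.mp (hb i (Nat.lt_succ_iff.mp i.2)).2⟩
      step := fun i => by
        have h1 := hbs i (Nat.lt_succ_iff.mp i.2)
        show PrimeSpectrum.vanishingIdeal (b i) < PrimeSpectrum.vanishingIdeal (b (i + 1))
        refine (PrimeSpectrum.vanishingIdeal_anti_mono h1.subset).lt_of_ne fun eq => h1.ne ?_
        have h2 := congrArg (fun I : Ideal (MvPolynomial (Fin n) k) =>
          PrimeSpectrum.zeroLocus (I : Set (MvPolynomial (Fin n) k))) eq
        simp only [PrimeSpectrum.zeroLocus_vanishingIdeal_eq_closure, (hb i (by omega)).1.closure_eq,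
          (hb (i + 1) (by omega)).1.closure_eq] at h2
        exact h2.symm }
  have h1 := Order.LTSeries.length_le_krullDim s
  rw [show Order.krullDim (PrimeSpectrum (MvPolynomial (Fin n) k)) = ringKrullDim (MvPolynomial (Fin n) k) from rfl,
    MvPolynomial.ringKrullDim_of_isNoetherianRing, ringKrullDim_eq_zero_of_field, zero_add, Nat.card_fin] at h1
  have h2 : d + 1 ≤ n := by exact_mod_cast h1
  omega

/-- A piece of a fibre over a field point is a closed subspace of an affine space. -/
theorem exists_embedding {k A B : Type u} [Field k] [CommRing A] [CommRing B] [Algebra A B] [Algebra A k] {n : ℕ}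
    (f : MvPolynomial (Fin n) A →ₐ[A] B) (hf : Function.Surjective f) :
    ∃ a : ↥(pullback (Spec.map (CommRingCat.ofHom (algebraMap A k))) (Spec.map (CommRingCat.ofHom (algebraMap A B)))) →
        PrimeSpectrum (MvPolynomial (Fin n) k), Topology.IsClosedEmbedding a := by
  let g : MvPolynomial (Fin n) k →+* k ⊗[A] B :=
    (Algebra.TensorProduct.map (AlgHom.id A k) f).toRingHom.comp
      (MvPolynomial.algebraTensorAlgEquiv A k (σ := Fin n)).symm.toRingEquiv.toRingHom
  have hg : Function.Surjective g :=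
    (Algebra.TensorProduct.map_surjective _ _ Function.surjective_id hf).comp
      (MvPolynomial.algebraTensorAlgEquiv A k (σ := Fin n)).symm.surjective
  exact ⟨_, (PrimeSpectrum.isClosedEmbedding_comap_of_surjective _ g hg).comp
    (pullbackSpecIso A k B).hom.homeomorph.isClosedEmbedding⟩

variable {S X : Scheme.{u}} (f : X ⟶ S)

/-- The geometric fibres over an affine open have bounded chains. -/
theorem exists_chainBound [LocallyOfFiniteType f] [QuasiCompact f] {U : S.Opens} (hU : IsAffineOpen U) :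
    ∃ d : ℕ, ∀ (k : Type u) [Field k] (t : Spec (CommRingCat.of k) ⟶ S), t (IsLocalRing.closedPoint k) ∈ U →
      ChainBound ↥(pullback f t) d := by
  classical
  have hc : IsCompact ((f ⁻¹ᵁ U : X.Opens) : Set X) := QuasiCompact.isCompact_preimage _ U.2 hU.isCompact
  have key : ∀ x : X, x ∈ f ⁻¹ᵁ U → ∃ V : X.Opens, x ∈ V ∧ IsAffineOpen V ∧ V ≤ f ⁻¹ᵁ U := fun x hx => by
    obtain ⟨V, hV, hxV, hle⟩ := Opens.isBasis_iff_nbhd.mp X.isBasis_affineOpens hx
    exact ⟨V, hxV, hV, hle⟩
  choose V hxV hV hle using key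
  obtain ⟨J, hJ⟩ := hc.elim_finite_subcover (fun x : {x // x ∈ f ⁻¹ᵁ U} => (V x.1 x.2 : Set X))
    (fun x => (V x.1 x.2).2) fun x hx => Set.mem_iUnion.mpr ⟨⟨x, hx⟩, hxV x hx⟩
  have hft : ∀ x : {x // x ∈ f ⁻¹ᵁ U}, ∃ n : ℕ, letI := (f.appLE U (V x.1 x.2) (hle x.1 x.2)).hom.toAlgebra
      ∃ g : MvPolynomial (Fin n) Γ(S, U) →ₐ[Γ(S, U)] Γ(X, V x.1 x.2), Function.Surjective g := fun x => by
    letI := (f.appLE U (V x.1 x.2) (hle x.1 x.2)).hom.toAlgebra
    haveI : Algebra.FiniteType Γ(S, U) Γ(X, V x.1 x.2) := f.finiteType_appLE hU (hV x.1 x.2) (hle x.1 x.2)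
    exact Algebra.FiniteType.iff_quotient_mvPolynomial''.mp inferInstance
  choose n g hg using hft
  refine ⟨J.sup n, fun k _ t ht => chainBound_of_cover (k := k) fun q => ?_⟩
  have hqt : pullback.snd f t q = IsLocalRing.closedPoint k := Subsingleton.elim _ _
  have hq : pullback.fst f t q ∈ f ⁻¹ᵁ U := by
    show f (pullback.fst f t q) ∈ U
    rw [← Scheme.Hom.comp_apply, pullback.condition, Scheme.Hom.comp_apply, hqt]
    exact ht
  obtain ⟨x, hxJ, hx⟩ := Set.mem_iUnion₂.mp (hJ hq)
  have htU : Set.range t ⊆ Set.range hU.fromSpec := by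
    rintro _ ⟨z, rfl⟩
    rw [hU.range_fromSpec, Subsingleton.elim z (IsLocalRing.closedPoint k)]
    exact ht
  let t' := IsOpenImmersion.lift hU.fromSpec t htU
  obtain ⟨ψ, hψ⟩ := Spec.map_surjective t'
  letI : Algebra Γ(S, U) k := ψ.hom.toAlgebra
  letI := (f.appLE U (V x.1 x.2) (hle x.1 x.2)).hom.toAlgebra
  obtain ⟨a, ha⟩ := exists_embedding (k := k) (g x) (hg x)
  have e1 : Spec.map (CommRingCat.ofHom (algebraMap Γ(S, U) k)) ≫ hU.fromSpec = 𝟙 _ ≫ t := by
    rw [Category.id_comp, show CommRingCat.ofHom (algebraMap Γ(S, U) k) = ψ from rfl, hψ]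
    exact IsOpenImmersion.lift_fac _ _ _
  have e2 : Spec.map (CommRingCat.ofHom (algebraMap Γ(S, U) Γ(X, V x.1 x.2))) ≫ hU.fromSpec =
      (hV x.1 x.2).fromSpec ≫ f :=
    hU.SpecMap_appLE_fromSpec f (hV x.1 x.2) (hle x.1 x.2)
  let i := pullback.map _ _ t f (𝟙 _) (hV x.1 x.2).fromSpec hU.fromSpec e1 e2
  refine ⟨n x, _, inferInstance, i ≫ (pullbackSymmetry t f).hom, a, Finset.le_sup hxJ,
    (i ≫ (pullbackSymmetry t f).hom).isOpenEmbedding, ?_, ha⟩
  have hr : (pullbackSymmetry t f).inv q ∈ Set.range i := by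
    rw [Scheme.Pullback.range_map]
    refine ⟨⟨IsLocalRing.closedPoint k, Subsingleton.elim _ _⟩, ?_⟩
    rw [Set.mem_preimage, (hV x.1 x.2).range_fromSpec, ← Scheme.Hom.comp_apply, pullbackSymmetry_inv_comp_snd]
    exact hx
  obtain ⟨w, hw⟩ := hr
  exact ⟨w, by rw [Scheme.Hom.comp_apply, hw, ← Scheme.Hom.comp_apply, Iso.inv_hom_id]; rfl⟩

theorem isOpen_constructibleTopology {Z : Type u} [TopologicalSpace Z] [CompactSpace Z] {s : Set Z}
    (hs : Topology.IsConstructible s) : IsOpen[constructibleTopology Z] s ∧ IsOpen[constructibleTopology Z] sᶜ := by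
  induction hs using Topology.IsConstructible.empty_union_induction with
  | open_retrocompact U hU hU' =>
    have hc : IsCompact U := by simpa using hU' isCompact_univ isOpen_univ
    exact ⟨hc.isOpen_constructibleTopology_of_isOpen hU,
      IsCompact.isOpen_constructibleTopology_of_isClosed (by rwa [compl_compl]) hU.isClosed_compl⟩
  | union s t _ _ hs ht =>
    rw [Set.compl_union]
    letI := constructibleTopology Z
    exact ⟨hs.1.union ht.1, hs.2.inter ht.2⟩
  | compl s _ hs => exact ⟨hs.2, by rw [compl_compl]; exact hs.1⟩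

/-- The geometric fibres over an affine open have boundedly many components. -/
theorem exists_card_le [LocallyOfFinitePresentation f] [QuasiCompact f] [QuasiSeparated f] {U : S.Opens}
    (hU : IsAffineOpen U) :
    ∃ m : ℕ, ∀ (k : Type u) [Field k] [IsSepClosed k] (t : Spec (CommRingCat.of k) ⟶ S),
      t (IsLocalRing.closedPoint k) ∈ U → ENat.card (_root_.ConnectedComponents ↥(pullback f t)) ≤ m := by
  haveI : IsAffine (U : Scheme.{u}) := hU
  let L : ℕ → Set (U : Scheme.{u}) := fun n => U.ι ⁻¹' {y : S | MoreMor.nGeomConnComp f y = (n : ℕ∞)}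
  have hL : ∀ n, IsOpen[constructibleTopology (U : Scheme.{u})] (L n) := fun n =>
    (isOpen_constructibleTopology ((GeomLoci.isLocallyConstructible_counts f (n : ℕ∞)).2.preimage_of_isOpenEmbedding
      U.ι.isOpenEmbedding).isConstructible).1
  have hcomp : @IsCompact (U : Scheme.{u}) (constructibleTopology (U : Scheme.{u})) Set.univ := by
    have h := isCompact_univ (X := WithConstructibleTopology (U : Scheme.{u}))
    have h2 := @IsCompact.image (WithConstructibleTopology (U : Scheme.{u})) (U : Scheme.{u}) _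
      (constructibleTopology (U : Scheme.{u})) _ WithTopology.ofTopology h (WithTopology.continuous_ofTopology _)
    rwa [Set.image_univ, (WithTopology.ofTopology_surjective (t := constructibleTopology (U : Scheme.{u}))).range_eq] at h2
  obtain ⟨J, hJ⟩ := @IsCompact.elim_finite_subcover _ (constructibleTopology (U : Scheme.{u})) _ _
    hcomp L hL fun u _ => by
      obtain ⟨n, hn⟩ := ENat.ne_top_iff_exists.mp (GeomLoci.nGeomConnComp_ne_top f (U.ι u))
      exact Set.mem_iUnion.mpr ⟨n, hn.symm⟩
  refine ⟨J.sup id, fun k _ _ t ht => ?_⟩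
  rw [← (GeomLoci.nGeom_eq_counts f t (IsLocalRing.closedPoint k)).2]
  obtain ⟨n, hn, he⟩ := Set.mem_iUnion₂.mp (hJ (Set.mem_univ (⟨_, ht⟩ : (U : Scheme.{u}))))
  exact le_of_eq_of_le he (Nat.cast_le.mpr (Finset.le_sup (f := id) hn))

end Groth.Agent.Deform.Luna.SolvDim
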