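import Mathlib.GroupTheory.Solvable
import Mathlib.GroupTheory.Nilpotent
import Mathlib.Topology.Irreducible
import Mathlib.GroupTheory.Index

/-!
# A bound on the solvable and nilpotent class of a group with a Zariski-like topology

The commutator series inside an irreducible normal subgroup have irreducible closures, so they decrease strictly;
their length is bounded by the length of chains of closed irreducible sets.
-/

set_option autoImplicit false

universe u

namespace Groth.Agent.Deform.Luna.SolvBound

open scoped commutatorElement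

/-- A group topology for which the translations, the inversion and the commutator maps in one variable are
continuous. -/
structure SepCont (P : Type u) [Group P] [TopologicalSpace P] : Prop where
  left : ∀ a : P, Continuous fun x => a * x
  right : ∀ a : P, Continuous fun x => x * a
  inv : Continuous fun x : P => x⁻¹
  commL : ∀ b : P, Continuous fun a : P => (⁅a, b⁆ : P)
  commR : ∀ a : P, Continuous fun b : P => (⁅a, b⁆ : P)
  one_closed : IsClosed ({1} : Set P)

variable {P : Type u} [Group P] [TopologicalSpace P]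

theorem isPreirreducible_image2 (f : P → P → P) (hl : ∀ a, Continuous (f a)) (hr : ∀ b, Continuous (f · b))
    {A B : Set P} (hA : IsPreirreducible A) (hB : IsPreirreducible B) : IsPreirreducible (Set.image2 f A B) := by
  rintro U V hU hV ⟨_, ⟨a₁, ha₁, b₁, hb₁, rfl⟩, h₁⟩ ⟨_, ⟨a₂, ha₂, b₂, hb₂, rfl⟩, h₂⟩
  obtain ⟨a, ha, haU, haV⟩ := hA ((f · b₁) ⁻¹' U) ((f · b₂) ⁻¹' V) (hU.preimage (hr b₁)) (hV.preimage (hr b₂))
    ⟨a₁, ha₁, h₁⟩ ⟨a₂, ha₂, h₂⟩
  obtain ⟨b, hb, hbU, hbV⟩ := hB (f a ⁻¹' U) (f a ⁻¹' V) (hU.preimage (hl a)) (hV.preimage (hl a))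
    ⟨b₁, hb₁, haU⟩ ⟨b₂, hb₂, haV⟩
  exact ⟨f a b, Set.mem_image2_of_mem ha hb, hbU, hbV⟩

/-- A subgroup generated by irreducible sets through `1` is irreducible. -/
theorem isIrreducible_closure (h : SepCont P) {ι : Type u} (S : ι → Set P) (hS : ∀ i, IsPreirreducible (S i))
    (h1 : ∀ i, (1 : P) ∈ S i) : IsIrreducible (Subgroup.closure (⋃ i, S i) : Set P) := by
  refine ⟨⟨1, Subgroup.one_mem _⟩, ?_⟩
  let H := Subgroup.closure (⋃ i, S i)
  have key : ∀ x ∈ H, ∃ T : Set P, IsPreirreducible T ∧ (1 : P) ∈ T ∧ T ⊆ (H : Set P) ∧ x ∈ T := by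
    intro x hx
    induction hx using Subgroup.closure_induction with
    | mem y hy =>
      obtain ⟨i, hi⟩ := Set.mem_iUnion.mp hy
      exact ⟨S i, hS i, h1 i, fun z hz => Subgroup.subset_closure (Set.mem_iUnion.mpr ⟨i, hz⟩), hi⟩
    | one => exact ⟨{1}, isPreirreducible_singleton, rfl, fun z hz => hz ▸ Subgroup.one_mem H, rfl⟩
    | mul x y _ _ hx hy =>
      obtain ⟨T, hT, hT1, hTH, hxT⟩ := hx
      obtain ⟨T', hT', hT1', hTH', hyT⟩ := hy
      refine ⟨Set.image2 (· * ·) T T', isPreirreducible_image2 _ h.left h.right hT hT', ⟨1, hT1, 1, hT1', mul_one 1⟩,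
        ?_, ⟨x, hxT, y, hyT, rfl⟩⟩
      rintro _ ⟨a, ha, b, hb, rfl⟩
      exact H.mul_mem (hTH ha) (hTH' hb)
    | inv x _ hx =>
      obtain ⟨T, hT, hT1, hTH, hxT⟩ := hx
      refine ⟨(fun z => z⁻¹) '' T, hT.image _ h.inv.continuousOn, ⟨1, hT1, inv_one⟩, ?_, ⟨x, hxT, rfl⟩⟩
      rintro _ ⟨a, ha, rfl⟩
      exact H.inv_mem (hTH ha)
  rintro U V hU hV ⟨x, hx, hxU⟩ ⟨y, hy, hyV⟩
  obtain ⟨T, hT, hT1, hTH, hxT⟩ := key x hx
  obtain ⟨T', hT', hT1', hTH', hyT⟩ := key y hy
  obtain ⟨z, hz, hzUV⟩ := isPreirreducible_image2 (· * ·) h.left h.right hT hT' U V hU hV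
    ⟨x, ⟨x, hxT, 1, hT1', mul_one x⟩, hxU⟩ ⟨y, ⟨1, hT1, y, hyT, one_mul y⟩, hyV⟩
  obtain ⟨a, ha, b, hb, rfl⟩ := hz
  exact ⟨a * b, H.mul_mem (hTH ha) (hTH' hb), hzUV⟩

/-- Commutators with an irreducible subgroup generate an irreducible subgroup. -/
theorem isIrreducible_commutator (h : SepCont P) {A B : Subgroup P} (hA : IsPreirreducible (A : Set P)) :
    IsIrreducible (⁅A, B⁆ : Subgroup P).carrier := by
  have e : ⁅A, B⁆ = Subgroup.closure (⋃ b : B, (fun a => ⁅a, (b : P)⁆) '' (A : Set P)) := by
    rw [Subgroup.commutator_def]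
    congr 1
    ext g
    simp only [Set.mem_setOf_eq, Set.mem_iUnion, Set.mem_image, SetLike.mem_coe]
    constructor
    · rintro ⟨a, ha, b, hb, rfl⟩
      exact ⟨⟨b, hb⟩, a, ha, rfl⟩
    · rintro ⟨⟨b, hb⟩, a, ha, rfl⟩
      exact ⟨a, ha, b, hb, rfl⟩
  rw [e]
  exact isIrreducible_closure h _ (fun b => hA.image _ (h.commL b).continuousOn)
    fun b => ⟨1, A.one_mem, commutatorElement_one_left _⟩

/-- The closure of a subgroup. -/
def clSub (h : SepCont P) (H : Subgroup P) : Subgroup P where
  carrier := closure (H : Set P)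
  one_mem' := subset_closure H.one_mem
  mul_mem' := fun {p q} hp hq => by
    have h1 : ∀ x ∈ H, p * x ∈ closure (H : Set P) := fun x hx => by
      have := image_closure_subset_closure_image (h.right x) ⟨p, hp, rfl⟩
      exact closure_mono (fun z hz => by obtain ⟨w, hw, rfl⟩ := hz; exact H.mul_mem hw hx) this
    have := image_closure_subset_closure_image (h.left p) ⟨q, hq, rfl⟩
    exact closure_minimal (fun z hz => by obtain ⟨w, hw, rfl⟩ := hz; exact h1 w hw) isClosed_closure this
  inv_mem' := fun {p} hp => by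
    have := image_closure_subset_closure_image h.inv ⟨p, hp, rfl⟩
    exact closure_mono (fun z hz => by obtain ⟨w, hw, rfl⟩ := hz; exact H.inv_mem hw) this

theorem commutator_le_clSub (h : SepCont P) {A B A' B' : Subgroup P} (hA : (A : Set P) ⊆ closure (A' : Set P))
    (hB : (B : Set P) ⊆ closure (B' : Set P)) : ((⁅A, B⁆ : Subgroup P) : Set P) ⊆ closure (⁅A', B'⁆ : Subgroup P) := by
  have key : ⁅A, B⁆ ≤ clSub h ⁅A', B'⁆ := by
    refine Subgroup.commutator_le.mpr fun a ha b hb => ?_
    have h1 : ∀ b ∈ B', ⁅a, b⁆ ∈ closure ((⁅A', B'⁆ : Subgroup P) : Set P) := fun b hb => by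
      refine closure_minimal ?_ isClosed_closure (image_closure_subset_closure_image (h.commL b) ⟨a, hA ha, rfl⟩)
      rintro _ ⟨w, hw, rfl⟩
      exact subset_closure (Subgroup.commutator_mem_commutator hw hb)
    refine closure_minimal ?_ isClosed_closure (image_closure_subset_closure_image (h.commR a) ⟨b, hB hb, rfl⟩)
    rintro _ ⟨w, hw, rfl⟩
    exact h1 w hw
  exact key

/-- Chains of closed irreducible sets have length at most `d`. -/
def ChainBound (P : Type u) [TopologicalSpace P] (d : ℕ) : Prop :=
  ∀ c : ℕ → Set P, (∀ j ≤ d + 1, IsClosed (c j) ∧ IsIrreducible (c j)) → (∀ j ≤ d, c (j + 1) ⊂ c j) → False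

/-- An eventually trivial series of irreducible subgroups with monotone steps dies within the chain bound. -/
theorem series_eq_bot (h : SepCont P) {d : ℕ} (hd : ChainBound P d) (A : ℕ → Subgroup P)
    (hirr : ∀ j, IsIrreducible (A j : Set P))
    (hstep : ∀ j m, (A j : Set P) ⊆ closure (A m) → (A (j + 1) : Set P) ⊆ closure (A (m + 1)))
    (hle : ∀ j, A (j + 1) ≤ A j) (hfin : ∃ N, A N = ⊥) : A (d + 1) = ⊥ := by
  obtain ⟨N, hN⟩ := hfin
  have hstab : ∀ j, closure (A j : Set P) = closure (A (j + 1)) → A j = ⊥ := by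
    intro j hj
    have hall : ∀ i, (A j : Set P) ⊆ closure (A (j + i)) := by
      intro i
      induction i with
      | zero => exact subset_closure
      | succ i ih =>
        refine (subset_closure.trans hj.le).trans (closure_minimal ?_ isClosed_closure)
        rw [show j + (i + 1) = (j + i) + 1 from rfl]
        exact hstep j (j + i) ih
    have hN' : A (j + N) = ⊥ := by
      have hmono : ∀ i, A (N + i) ≤ A N := fun i => by
        induction i with
        | zero => exact le_rfl
        | succ i ih => exact (hle _).trans ih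
      have := hmono j
      rw [hN, le_bot_iff] at this
      rwa [add_comm]
    refine (Subgroup.eq_bot_iff_forall _).mpr fun x hx => ?_
    have h2 := hall N hx
    rw [hN', Subgroup.coe_bot, h.one_closed.closure_eq] at h2
    exact h2
  by_contra hne
  have hne' : ∀ j ≤ d, A j ≠ ⊥ := fun j hj he => hne <| by
    have hmono : ∀ i, A (j + i) ≤ A j := fun i => by
      induction i with
      | zero => exact le_rfl
      | succ i ih => exact (hle _).trans ih
    have := hmono (d + 1 - j)
    rw [he, le_bot_iff, Nat.add_sub_cancel' (by omega)] at this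
    exact this
  refine hd (fun j => closure (A j : Set P)) (fun j _ => ⟨isClosed_closure, (hirr j).closure⟩) fun j hj => ?_
  exact (closure_mono (SetLike.coe_subset_coe.mpr (hle j))).ssubset_of_ne fun e => hne' j hj (hstab j e.symm)

/-- In a finite group an antitone series which is stationary once it repeats dies within the order. -/
theorem card_series {F : Type u} [Group F] [Finite F] (A : ℕ → Subgroup F) (hle : ∀ j, A (j + 1) ≤ A j)
    (hstep : ∀ j, A j = A (j + 1) → A (j + 1) = A (j + 2)) {N : ℕ} (hN : A N = ⊥) {m : ℕ} (hm : Nat.card F ≤ m) :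
    A m = ⊥ := by
  classical
  have hanti : Antitone A := antitone_nat_of_succ_le hle
  have hne : ∀ j, A j ≠ ⊥ → A (j + 1) < A j := fun j hj => (hle j).lt_of_ne fun e => hj <| by
    have h1 : ∀ i, A (j + i) = A (j + i + 1) := fun i => by
      induction i with
      | zero => exact e.symm
      | succ i ih => exact hstep _ ih
    have h2 : ∀ i, A (j + i) = A j := fun i => by
      induction i with
      | zero => rfl
      | succ i ih => exact (h1 i).symm.trans ih
    have h3 := hanti (show N ≤ j + N by omega)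
    rw [h2, hN] at h3
    exact le_bot_iff.mp h3
  have hcard : ∀ j, A j ≠ ⊥ → j + Nat.card (A j) ≤ Nat.card F := fun j => by
    induction j with
    | zero => intro _; rw [zero_add]; exact Nat.card_le_card_of_injective _ (A 0).subtype_injective
    | succ j ih =>
      intro hj
      have hj' : A j ≠ ⊥ := fun e => hj (le_bot_iff.mp (e ▸ hle j))
      have := ih hj'
      have hlt : Nat.card (A (j + 1)) < Nat.card (A j) :=
        Set.Finite.card_lt_card (Set.toFinite (A j : Set F)) (SetLike.coe_ssubset_coe.mpr (hne j hj'))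
      omega
  by_contra hb
  have h1 := hcard m hb
  have h2 : 1 < Nat.card (A m) := by
    rw [Finite.one_lt_card_iff_nontrivial]
    exact (Subgroup.nontrivial_iff_ne_bot _).mpr hb
  omega

variable {N : Subgroup P} [N.Normal] [Finite (P ⧸ N)]

/-- The series `A`, `⁅A, A⁆`, ... -/
def dSeries (A : Subgroup P) : ℕ → Subgroup P
  | 0 => A
  | j + 1 => ⁅dSeries A j, dSeries A j⁆

/-- The series `A`, `⁅A, ⊤⁆`, ... -/
def cSeries (A : Subgroup P) : ℕ → Subgroup P
  | 0 => A
  | j + 1 => ⁅cSeries A j, (⊤ : Subgroup P)⁆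

omit [TopologicalSpace P] [Finite (P ⧸ N)] in
theorem normal_dSeries : ∀ j, (dSeries N j).Normal
  | 0 => ‹N.Normal›
  | j + 1 => by
    haveI := normal_dSeries j
    exact Subgroup.commutator_normal _ _

omit [TopologicalSpace P] [Finite (P ⧸ N)] in
theorem normal_cSeries : ∀ j, (cSeries N j).Normal
  | 0 => ‹N.Normal›
  | j + 1 => by
    haveI := normal_cSeries j
    exact Subgroup.commutator_normal _ _

/-- **The solvable class is bounded by the number of components and the dimension.** -/
theorem derivedSeries_eq_bot (h : SepCont P) {d m : ℕ} (hd : ChainBound P d) (hN : IsIrreducible (N : Set P))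
    (hm : Nat.card (P ⧸ N) ≤ m) (hs : ∃ n, derivedSeries P n = ⊥) : derivedSeries P (m + (d + 1)) = ⊥ := by
  obtain ⟨n, hn⟩ := hs
  have h0 : derivedSeries P m ≤ N := by
    have hq : derivedSeries (P ⧸ N) m = ⊥ := by
      refine card_series (derivedSeries (P ⧸ N)) (fun j => ?_) (fun j e => ?_) (N := n) ?_ hm
      · exact derivedSeries_antitone _ (Nat.le_succ j)
      · exact (congrArg (fun H => ⁅H, H⁆) e : _)
      · rw [← map_derivedSeries_eq (f := QuotientGroup.mk' N) (QuotientGroup.mk'_surjective N) n, hn, Subgroup.map_bot]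
    intro x hx
    have := Subgroup.mem_map_of_mem (QuotientGroup.mk' N) hx
    rw [map_derivedSeries_eq (f := QuotientGroup.mk' N) (QuotientGroup.mk'_surjective N) m, hq, Subgroup.mem_bot] at this
    exact (QuotientGroup.eq_one_iff x).mp this
  have h1 : ∀ j, derivedSeries P (m + j) ≤ dSeries N j := fun j => by
    induction j with
    | zero => exact h0
    | succ j ih => exact Subgroup.commutator_mono ih ih
  have h2 : ∀ j, dSeries N j ≤ derivedSeries P j := fun j => by
    induction j with
    | zero => exact le_top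
    | succ j ih => exact Subgroup.commutator_mono ih ih
  have h3 : dSeries N (d + 1) = ⊥ := by
    refine series_eq_bot h hd (dSeries N) (fun j => ?_) (fun j i e => commutator_le_clSub h e e) (fun j => ?_)
      ⟨n, le_bot_iff.mp (hn ▸ h2 n)⟩
    · induction j with
      | zero => exact hN
      | succ j ih => exact isIrreducible_commutator h ih.2
    · haveI := normal_dSeries (N := N) j
      exact Subgroup.commutator_le_left _ _
  exact le_bot_iff.mp (h3 ▸ h1 (d + 1))

/-- **The nilpotent class is bounded by the number of components and the dimension.** -/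
theorem lowerCentralSeries_eq_bot (h : SepCont P) {d m : ℕ} (hd : ChainBound P d) (hN : IsIrreducible (N : Set P))
    (hm : Nat.card (P ⧸ N) ≤ m) (hs : ∃ n, Subgroup.lowerCentralSeries (⊤ : Subgroup P) n = ⊥) :
    Subgroup.lowerCentralSeries (⊤ : Subgroup P) (m + (d + 1)) = ⊥ := by
  obtain ⟨n, hn⟩ := hs
  have hq' : ∀ j, (Subgroup.lowerCentralSeries (⊤ : Subgroup P) j).map (QuotientGroup.mk' N) =
      Subgroup.lowerCentralSeries (⊤ : Subgroup (P ⧸ N)) j := fun j => by
    rw [Subgroup.map_lowerCentralSeries, Subgroup.map_top_of_surjective _ (QuotientGroup.mk'_surjective N)]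
  have h0 : Subgroup.lowerCentralSeries (⊤ : Subgroup P) m ≤ N := by
    have hq : Subgroup.lowerCentralSeries (⊤ : Subgroup (P ⧸ N)) m = ⊥ := by
      refine card_series _ (fun j => ?_) (fun j e => ?_) (N := n) ?_ hm
      · exact Subgroup.lowerCentralSeries_antitone _ (Nat.le_succ j)
      · exact (congrArg (fun H => ⁅H, (⊤ : Subgroup (P ⧸ N))⁆) e : _)
      · rw [← hq', hn, Subgroup.map_bot]
    intro x hx
    have := Subgroup.mem_map_of_mem (QuotientGroup.mk' N) hx
    rw [hq', hq, Subgroup.mem_bot] at this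
    exact (QuotientGroup.eq_one_iff x).mp this
  have h1 : ∀ j, Subgroup.lowerCentralSeries (⊤ : Subgroup P) (m + j) ≤ cSeries N j := fun j => by
    induction j with
    | zero => exact h0
    | succ j ih => exact Subgroup.commutator_mono ih le_rfl
  have h2 : ∀ j, cSeries N j ≤ Subgroup.lowerCentralSeries (⊤ : Subgroup P) j := fun j => by
    induction j with
    | zero => exact le_top
    | succ j ih => exact Subgroup.commutator_mono ih le_rfl
  have h3 : cSeries N (d + 1) = ⊥ := by
    refine series_eq_bot h hd (cSeries N) (fun j => ?_)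
      (fun j i e => commutator_le_clSub h e subset_closure) (fun j => ?_) ⟨n, le_bot_iff.mp (hn ▸ h2 n)⟩
    · induction j with
      | zero => exact hN
      | succ j ih => exact isIrreducible_commutator h ih.2
    · haveI := normal_cSeries (N := N) j
      exact Subgroup.commutator_le_left _ _
  exact le_bot_iff.mp (h3 ▸ h1 (d + 1))

end Groth.Agent.Deform.Luna.SolvBound
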