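import Groth.Prelude.Def_Red2
import Mathlib.GroupTheory.Solvable
import Mathlib.GroupTheory.Nilpotent

/-!
# The derived and the lower central series through commutator words

The values of the iterated commutator words generate the series, so a group object is solvable (nilpotent) of
class `n` on `T`-points iff the word is trivial on `T`-points.
-/

set_option autoImplicit false

universe v u

open CategoryTheory MonoidalCategory CartesianMonoidalCategory

namespace Groth.Agent.Deform.Luna.SolvWords

open scoped commutatorElement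

section Group

variable {P : Type u} [Group P]

/-- The set is invariant under conjugation. -/
def ConjInv (A : Set P) : Prop := ∀ (g : P), ∀ a ∈ A, g * a * g⁻¹ ∈ A

theorem conjInv_image2 {A B : Set P} (hA : ConjInv A) (hB : ConjInv B) :
    ConjInv (Set.image2 (fun a b : P => (⁅a, b⁆ : P)) A B) := by
  rintro g _ ⟨a, ha, b, hb, rfl⟩
  refine ⟨_, hA g a ha, _, hB g b hb, ?_⟩
  simp only [commutatorElement_def]
  group

theorem normal_closure {A : Set P} (hA : ConjInv A) : (Subgroup.closure A).Normal :=
  ⟨fun n hn g => by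
    have hle : Subgroup.closure A ≤ (Subgroup.closure A).comap (MulAut.conj g).toMonoidHom :=
      (Subgroup.closure_le _).mpr fun a ha => by
        simp only [SetLike.mem_coe, Subgroup.mem_comap, MulEquiv.toMonoidHom_eq_coe, MonoidHom.coe_coe,
          MulAut.conj_apply]
        exact Subgroup.subset_closure (hA g a ha)
    simpa using hle hn⟩

/-- The commutator of the subgroups generated by two invariant sets is generated by the commutators. -/
theorem commutator_closure {A B : Set P} (hA : ConjInv A) (hB : ConjInv B) :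
    (⁅Subgroup.closure A, Subgroup.closure B⁆ : Subgroup P) =
      Subgroup.closure (Set.image2 (fun a b : P => (⁅a, b⁆ : P)) A B) := by
  set K := Subgroup.closure (Set.image2 (fun a b : P => (⁅a, b⁆ : P)) A B) with hK
  haveI : K.Normal := normal_closure (conjInv_image2 hA hB)
  refine le_antisymm (Subgroup.commutator_le.mpr fun a ha b hb => ?_) ((Subgroup.closure_le _).mpr ?_)
  · have h0 : ∀ a ∈ A, ∀ b ∈ B, (a : P ⧸ K) * b = b * a := fun a ha b hb => by
      rw [← commutatorElement_eq_one_iff_mul_comm]
      exact (map_commutatorElement (QuotientGroup.mk' K) a b).symm.trans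
        ((QuotientGroup.eq_one_iff _).mpr (Subgroup.subset_closure ⟨a, ha, b, hb, rfl⟩))
    have h1 : ∀ a ∈ A, ∀ b ∈ Subgroup.closure B, (a : P ⧸ K) * b = b * a := fun a ha b hb => by
      have hle : Subgroup.closure B ≤ (Subgroup.centralizer {(a : P ⧸ K)}).comap (QuotientGroup.mk' K) :=
        (Subgroup.closure_le _).mpr fun b hb => Subgroup.mem_centralizer_singleton_iff.mpr (h0 a ha b hb).symm
      exact (Subgroup.mem_centralizer_singleton_iff.mp (hle hb)).symm
    have h2 : (a : P ⧸ K) * b = b * a := by
      have hle : Subgroup.closure A ≤ (Subgroup.centralizer {(b : P ⧸ K)}).comap (QuotientGroup.mk' K) :=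
        (Subgroup.closure_le _).mpr fun a ha => Subgroup.mem_centralizer_singleton_iff.mpr (h1 a ha b hb)
      exact Subgroup.mem_centralizer_singleton_iff.mp (hle ha)
    rw [← commutatorElement_eq_one_iff_mul_comm] at h2
    exact (QuotientGroup.eq_one_iff _).mp ((map_commutatorElement (QuotientGroup.mk' K) a b).trans h2)
  · rintro _ ⟨a, ha, b, hb, rfl⟩
    exact Subgroup.commutator_mem_commutator (Subgroup.subset_closure ha) (Subgroup.subset_closure hb)

/-- The values of the iterated commutator. -/
def dVal (P : Type u) [Group P] : ℕ → Set P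
  | 0 => Set.univ
  | n + 1 => Set.image2 (fun a b : P => (⁅a, b⁆ : P)) (dVal P n) (dVal P n)

/-- The values of the commutator with simple brackets. -/
def cVal (P : Type u) [Group P] : ℕ → Set P
  | 0 => Set.univ
  | n + 1 => Set.image2 (fun a b : P => (⁅a, b⁆ : P)) (cVal P n) Set.univ

theorem conjInv_dVal : ∀ n, ConjInv (dVal P n)
  | 0 => fun _ _ _ => trivial
  | n + 1 => conjInv_image2 (conjInv_dVal n) (conjInv_dVal n)

theorem conjInv_cVal : ∀ n, ConjInv (cVal P n)
  | 0 => fun _ _ _ => trivial
  | n + 1 => conjInv_image2 (conjInv_cVal n) fun _ _ _ => trivial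

theorem derivedSeries_eq_closure : ∀ n, derivedSeries P n = Subgroup.closure (dVal P n)
  | 0 => Subgroup.closure_univ.symm
  | n + 1 => by
    rw [derivedSeries_succ, derivedSeries_eq_closure n, commutator_closure (conjInv_dVal n) (conjInv_dVal n)]
    rfl

theorem lowerCentralSeries_eq_closure : ∀ n,
    Subgroup.lowerCentralSeries (⊤ : Subgroup P) n = Subgroup.closure (cVal P n)
  | 0 => Subgroup.closure_univ.symm
  | n + 1 => by
    rw [Subgroup.lowerCentralSeries_succ, lowerCentralSeries_eq_closure n,
      show (⊤ : Subgroup P) = Subgroup.closure Set.univ from Subgroup.closure_univ.symm,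
      commutator_closure (conjInv_cVal n) (B := Set.univ) (fun _ _ _ => trivial)]
    rfl

end Group

section Words

attribute [local instance] CategoryTheory.Hom.monoid CategoryTheory.Hom.group

variable {C : Type u} [Category.{v} C] [CartesianMonoidalCategory C] (G : C) [GrpObj G]

/-- The source of the derived word. -/
def dObj : ℕ → C
  | 0 => G
  | n + 1 => dObj n ⊗ dObj n

/-- The derived word. -/
def dWord : ∀ n, dObj G n ⟶ G
  | 0 => 𝟙 G
  | n + 1 => (⁅fst (dObj G n) (dObj G n) ≫ dWord n, snd (dObj G n) (dObj G n) ≫ dWord n⁆ :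
      dObj G n ⊗ dObj G n ⟶ G)

/-- The source of the central word. -/
def cObj : ℕ → C
  | 0 => G
  | n + 1 => cObj n ⊗ G

/-- The central word. -/
def cWord : ∀ n, cObj G n ⟶ G
  | 0 => 𝟙 G
  | n + 1 => (⁅fst (cObj G n) G ≫ cWord n, snd (cObj G n) G⁆ : cObj G n ⊗ G ⟶ G)

variable {G}

theorem comp_commutator {T W : C} (x : T ⟶ W) (a b : W ⟶ G) : x ≫ ⁅a, b⁆ = ⁅x ≫ a, x ≫ b⁆ := by
  simp only [commutatorElement_def, MonObj.comp_mul, GrpObj.comp_inv]

theorem range_dWord (T : C) : ∀ n, Set.range (fun x : T ⟶ dObj G n => x ≫ dWord G n) = dVal (T ⟶ G) n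
  | 0 => Set.eq_univ_of_forall fun a => ⟨a, Category.comp_id a⟩
  | n + 1 => by
    ext g
    simp only [Set.mem_range, dVal, dWord, ← range_dWord T n, Set.mem_image2]
    constructor
    · rintro ⟨x, rfl⟩
      exact ⟨_, ⟨x ≫ fst (dObj G n) (dObj G n), rfl⟩, _, ⟨x ≫ snd (dObj G n) (dObj G n), rfl⟩, by
        simp only [Category.assoc]
        exact (comp_commutator (W := dObj G n ⊗ dObj G n) x _ _).symm⟩
    · rintro ⟨_, ⟨a, rfl⟩, _, ⟨b, rfl⟩, rfl⟩
      refine ⟨lift a b, (comp_commutator (W := dObj G n ⊗ dObj G n) (lift a b) _ _).trans ?_⟩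
      simp only [lift_fst_assoc, lift_snd_assoc]

theorem range_cWord (T : C) : ∀ n, Set.range (fun x : T ⟶ cObj G n => x ≫ cWord G n) = cVal (T ⟶ G) n
  | 0 => Set.eq_univ_of_forall fun a => ⟨a, Category.comp_id a⟩
  | n + 1 => by
    ext g
    simp only [Set.mem_range, cVal, cWord, ← range_cWord T n, Set.mem_image2]
    constructor
    · rintro ⟨x, rfl⟩
      exact ⟨_, ⟨x ≫ fst (cObj G n) G, rfl⟩, x ≫ snd (cObj G n) G, trivial, by
        simp only [Category.assoc]
        exact (comp_commutator (W := cObj G n ⊗ G) x _ _).symm⟩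
    · rintro ⟨_, ⟨a, rfl⟩, b, -, rfl⟩
      refine ⟨lift a b, (comp_commutator (W := cObj G n ⊗ G) (lift a b) _ _).trans ?_⟩
      simp only [lift_fst_assoc, lift_snd]

/-- Solvable of class `n` on `T`-points iff the word is trivial there. -/
theorem derivedSeries_eq_bot_iff (T : C) (n : ℕ) :
    derivedSeries (T ⟶ G) n = ⊥ ↔ ∀ x : T ⟶ dObj G n, x ≫ dWord G n = 1 := by
  rw [derivedSeries_eq_closure, Subgroup.closure_eq_bot_iff, ← range_dWord]
  exact Set.range_subset_iff

/-- Nilpotent of class `n` on `T`-points iff the word is trivial there. -/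
theorem lowerCentralSeries_eq_bot_iff (T : C) (n : ℕ) :
    Subgroup.lowerCentralSeries (⊤ : Subgroup (T ⟶ G)) n = ⊥ ↔ ∀ x : T ⟶ cObj G n, x ≫ cWord G n = 1 := by
  rw [lowerCentralSeries_eq_closure, Subgroup.closure_eq_bot_iff, ← range_cWord]
  exact Set.range_subset_iff

end Words

end Groth.Agent.Deform.Luna.SolvWords
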