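import Groth.Agent.Deform.Chev.Components
import Groth.Agent.Deform.Chev.SemiAbExt
import Groth.Agent.Deform.Luna.SolvBound
import Groth.Agent.Deform.Luna.SolvWords
import Groth.Prelude.Def_AGF

/-!
# Bounded class for solvable and nilpotent smooth groups over an algebraically closed field
-/

set_option autoImplicit false

universe u

open CategoryTheory MonoidalCategory CartesianMonoidalCategory MonObj GrpObj AlgebraicGeometry

attribute [local instance] CategoryTheory.Hom.monoid CategoryTheory.Hom.group
set_option linter.style.haveILetI false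

namespace Groth.Agent.Deform.Luna.SolvPts

noncomputable section

open Chev SolvBound SolvWords
open scoped commutatorElement

variable {k : Type u} [Field k] {G : Over (Spec (CommRingCat.of k))}

/-- The rational points carry the topology of the scheme. -/
abbrev ptTop (G : Over (Spec (CommRingCat.of k))) : TopologicalSpace (Pt G) :=
  TopologicalSpace.induced pimg inferInstance

theorem pimg_comp {H : Over (Spec (CommRingCat.of k))} (g : Pt G) (f : G ⟶ H) : pimg (g ≫ f) = f.left (pimg g) :=
  rfl

theorem isInducing_pimg : @Topology.IsInducing _ _ (ptTop G) _ (pimg : Pt G → G.left) :=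
  @Topology.IsInducing.mk _ _ (ptTop G) _ _ rfl

theorem continuous_comp (f : G ⟶ G) (F : Pt G → Pt G) (hF : ∀ g, F g = g ≫ f) :
    @Continuous _ _ (ptTop G) (ptTop G) F := by
  letI := ptTop G
  refine isInducing_pimg.continuous_iff.mpr ?_
  have : pimg ∘ F = f.left ∘ pimg := funext fun g => by rw [Function.comp_apply, hF]; rfl
  rw [this]
  exact f.left.continuous.comp isInducing_pimg.continuous

variable [GrpObj G]

theorem comp_const (g x : Pt G) : g ≫ toUnit G ≫ x = x := by
  rw [← Category.assoc, toUnit_unique (g ≫ toUnit G) (𝟙 _), Category.id_comp]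

theorem sepCont [IsAlgClosed k] [LocallyOfFiniteType G.hom] : @SepCont (Pt G) _ (ptTop G) := by
  letI := ptTop G
  refine ⟨fun a => continuous_comp (tr a) _ fun g => (pt_tr g a).symm,
    fun a => continuous_comp (𝟙 G * (toUnit G ≫ a)) _ fun g => ?_,
    continuous_comp (𝟙 G)⁻¹ _ fun g => ?_,
    fun b => continuous_comp ⁅𝟙 G, toUnit G ≫ b⁆ _ fun g => ?_,
    fun a => continuous_comp ⁅toUnit G ≫ a, 𝟙 G⁆ _ fun g => ?_, ?_⟩
  · rw [MonObj.comp_mul, Category.comp_id, comp_const]
  · rw [GrpObj.comp_inv, Category.comp_id]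
  · rw [comp_commutator, Category.comp_id, comp_const]
  · rw [comp_commutator, Category.comp_id, comp_const]
  · have hc : IsClosed ({pimg (1 : Pt G)} : Set G.left) :=
      ((pointEquivClosedPoint G.hom) ⟨(1 : Pt G).left, Over.w (1 : Pt G)⟩).2
    have he : ({1} : Set (Pt G)) = pimg ⁻¹' {pimg (1 : Pt G)} := by
      ext g
      exact ⟨fun h => congrArg pimg h, fun h => pimg_injective h⟩
    rw [he]
    exact hc.preimage isInducing_pimg.continuous

/-- The neutral component: open, irreducible, a normal subgroup on rational points. -/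
theorem exists_neutral_pts [IsAlgClosed k] [Smooth G.hom] [QuasiCompact G.hom] :
    ∃ N : Subgroup (Pt G), N.Normal ∧ @IsIrreducible _ (ptTop G) (N : Set (Pt G)) ∧
      (N : Set (Pt G)) = pimg ⁻¹' connectedComponent (η[G].left (IsLocalRing.closedPoint k)) ∧
      ∀ m : ℕ, ENat.card (_root_.ConnectedComponents G.left) ≤ m → Finite (Pt G ⧸ N) ∧ Nat.card (Pt G ⧸ N) ≤ m := by
  obtain ⟨G₀, iG₀, c, hc, hcc, hcf, hcr, hgi, hGc⟩ := GrpSchLib.exists_identityComponent (G := G)
  haveI := hc; haveI := hcc; haveI := hcf; haveI := hgi; haveI := hGc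
  haveI : IsLocallyNoetherian G.left := LocallyOfFiniteType.isLocallyNoetherian G.hom
  haveI : IsOpenImmersion c.left := IsOpenImmersion.of_flat_of_mono c.left
  haveI : Smooth G₀.hom := by rw [← Over.w c]; infer_instance
  haveI : IrreducibleSpace G₀.left := GeometricallyIrreducible.irreducibleSpace G₀.hom G₀.hom.isOpenMap
  have hCo : IsOpen (Set.range c.left) := c.left.isOpenEmbedding.isOpen_range
  have hCi : IsIrreducible (Set.range c.left) := by
    rw [← Set.image_univ]
    exact (IrreducibleSpace.isIrreducible_univ _).image _ c.left.continuous.continuousOn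
  have he : pimg (1 : Pt G) = η[G].left (IsLocalRing.closedPoint k) := by
    rw [← MonObj.one_eq_one]
    rfl
  rw [← he] at hcr ⊢
  have hmove : ∀ (f : G ⟶ G) (g g' : Pt G), pimg g' ∈ connectedComponent (pimg g) →
      pimg (g' ≫ f) ∈ connectedComponent (pimg (g ≫ f)) := fun f g g' h =>
    f.left.continuous.mapsTo_connectedComponent _ h
  have hmul : ∀ (a g g' : Pt G), pimg g' ∈ connectedComponent (pimg g) →
      pimg (a * g') ∈ connectedComponent (pimg (a * g)) := fun a g g' h => by
    rw [← pt_tr, ← pt_tr]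
    exact hmove _ _ _ h
  let N : Subgroup (Pt G) :=
    { carrier := {g | pimg g ∈ connectedComponent (pimg (1 : Pt G))}
      one_mem' := mem_connectedComponent
      mul_mem' := fun {a b} ha hb => by
        have h := hmul a 1 b hb
        rw [_root_.mul_one, connectedComponent_eq ha |>.symm] at h
        exact h
      inv_mem' := fun {a} ha => by
        have h := hmul a⁻¹ 1 a ha
        rw [_root_.mul_one, inv_mul_cancel] at h
        show pimg a⁻¹ ∈ connectedComponent (pimg (1 : Pt G))
        rw [← connectedComponent_eq h]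
        exact mem_connectedComponent }
  have hN : N.Normal := ⟨fun n hn g => by
    have e : ∀ x : Pt G, x ≫ ((toUnit G ≫ g) * 𝟙 G * (toUnit G ≫ g⁻¹)) = g * x * g⁻¹ := fun x => by
      rw [MonObj.comp_mul, MonObj.comp_mul, comp_const, comp_const, Category.comp_id]
    have h := hmove ((toUnit G ≫ g) * 𝟙 G * (toUnit G ≫ g⁻¹)) 1 n hn
    rw [e, e, _root_.mul_one, mul_inv_cancel] at h
    exact h⟩
  letI := ptTop G
  refine ⟨N, hN, ⟨⟨1, N.one_mem⟩, ?_⟩, rfl, fun m hm => ?_⟩
  · rintro U V hU hV ⟨a, haN, haU⟩ ⟨b, hbN, hbV⟩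
    obtain ⟨U', hU', rfl⟩ := isInducing_pimg.isOpen_iff.mp hU
    obtain ⟨V', hV', rfl⟩ := isInducing_pimg.isOpen_iff.mp hV
    obtain ⟨x, hx, hxU, hxV⟩ := hCi.2 U' V' hU' hV' ⟨pimg a, hcr ▸ haN, haU⟩ ⟨pimg b, hcr ▸ hbN, hbV⟩
    obtain ⟨g, hgC, hgU, hgV⟩ := exists_pt (G := G) (S := Set.range c.left ∩ (U' ∩ V')) ⟨x, hx, hxU, hxV⟩
      (hCo.inter (hU'.inter hV')).isLocallyClosed
    exact ⟨g, show pimg g ∈ connectedComponent (pimg (1 : Pt G)) from hcr ▸ hgC, hgU, hgV⟩
  · haveI := hN
    let φ : Pt G ⧸ N → _root_.ConnectedComponents G.left :=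
      Quotient.lift (fun g => _root_.ConnectedComponents.mk (pimg g)) fun a b hab => by
        refine (ConnectedComponents.coe_eq_coe'.2 ?_).symm
        have hab' : pimg (a⁻¹ * b) ∈ connectedComponent (pimg (1 : Pt G)) := QuotientGroup.leftRel_apply.mp hab
        have h := hmul a 1 _ hab'
        rw [_root_.mul_one, mul_inv_cancel_left] at h
        exact h
    have hφ : Function.Injective φ := by
      rintro ⟨a⟩ ⟨b⟩ h
      refine Quotient.sound (QuotientGroup.leftRel_apply.mpr ?_)
      have h' := hmul a⁻¹ a b (ConnectedComponents.coe_eq_coe'.1 h.symm)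
      rw [inv_mul_cancel] at h'
      exact h'
    haveI : Finite (_root_.ConnectedComponents G.left) :=
      ENat.card_lt_top.mp (hm.trans_lt (ENat.coe_lt_top m))
    haveI : Finite (Pt G ⧸ N) := Finite.of_injective φ hφ
    refine ⟨inferInstance, (Nat.card_le_card_of_injective φ hφ).trans ?_⟩
    rw [ENat.card_eq_coe_natCard] at hm
    exact_mod_cast hm

/-- Chains of closed irreducible sets of rational points close up to such chains in the scheme. -/
theorem chainBound_pts {d : ℕ} (h : ChainBound G.left d) : @ChainBound (Pt G) (ptTop G) d := by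
  letI := ptTop G
  intro c hc hs
  have hpre : ∀ j ≤ d + 1, pimg ⁻¹' closure (pimg '' c j) = c j := fun j hj => by
    rw [← isInducing_pimg.closure_eq_preimage_closure_image, (hc j hj).1.closure_eq]
  refine h (fun j => closure (pimg '' c j))
    (fun j hj => ⟨isClosed_closure, ((hc j hj).2.image _ isInducing_pimg.continuous.continuousOn).closure⟩)
    fun j hj => (closure_mono (Set.image_mono (hs j hj).subset)).ssubset_of_ne fun e => (hs j hj).ne ?_
  rw [← hpre j (by omega), ← hpre (j + 1) (by omega), show closure (pimg '' c (j + 1)) = closure (pimg '' c j) from e]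

theorem smooth_tensor (X Y : Over (Spec (CommRingCat.of k))) [Smooth X.hom] [Smooth Y.hom] : Smooth (X ⊗ Y).hom := by
  rw [Over.tensorObj_hom]
  infer_instance

theorem smooth_dObj [Smooth G.hom] : ∀ n, Smooth (dObj G n).hom
  | 0 => ‹_›
  | n + 1 => by
    haveI := smooth_dObj n
    exact smooth_tensor _ _

theorem smooth_cObj [Smooth G.hom] : ∀ n, Smooth (cObj G n).hom
  | 0 => ‹_›
  | n + 1 => by
    haveI := smooth_cObj n
    exact smooth_tensor _ _

/-- A solvable smooth group has class bounded by components and dimension, and this is seen on rational points. -/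
theorem isSolvableGrp_iff [IsAlgClosed k] [Smooth G.hom] [QuasiCompact G.hom] [IsSeparated G.hom] {m d : ℕ}
    (hd : ChainBound G.left d) (hm : ENat.card (_root_.ConnectedComponents G.left) ≤ m) :
    Red.IsSolvableGrp G ↔ derivedSeries (Pt G) (m + (d + 1)) = ⊥ := by
  refine ⟨fun ⟨n, hn⟩ => ?_, fun h => ⟨m + (d + 1), fun X => (derivedSeries_eq_bot_iff X _).mpr fun x => ?_⟩⟩
  · obtain ⟨N, hN, hNi, -, hNf⟩ := exists_neutral_pts (G := G)
    haveI := hN
    obtain ⟨hf, hm'⟩ := hNf m hm
    letI := ptTop G
    exact derivedSeries_eq_bot sepCont (chainBound_pts hd) hNi hm' ⟨n, hn _⟩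
  · haveI := smooth_dObj (G := G) (m + (d + 1))
    have e : dWord G (m + (d + 1)) = 1 :=
      SemiAbExt.ext_points _ _ fun y => by rw [(derivedSeries_eq_bot_iff _ _).mp h y, MonObj.comp_one]
    rw [e, MonObj.comp_one]

/-- A nilpotent smooth group has class bounded by components and dimension, and this is seen on rational points. -/
theorem isNilpotentGrp_iff [IsAlgClosed k] [Smooth G.hom] [QuasiCompact G.hom] [IsSeparated G.hom] {m d : ℕ}
    (hd : ChainBound G.left d) (hm : ENat.card (_root_.ConnectedComponents G.left) ≤ m) :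
    AGF.IsNilpotentGrp G ↔ Subgroup.lowerCentralSeries (⊤ : Subgroup (Pt G)) (m + (d + 1)) = ⊥ := by
  refine ⟨fun ⟨n, hn⟩ => ?_, fun h => ⟨m + (d + 1), fun X => Subgroup.lowerCentralSeries_eq_bot_iff_upperCentralSeries_eq_top.mp
    ((SolvWords.lowerCentralSeries_eq_bot_iff X _).mpr fun x => ?_)⟩⟩
  · obtain ⟨N, hN, hNi, -, hNf⟩ := exists_neutral_pts (G := G)
    haveI := hN
    obtain ⟨hf, hm'⟩ := hNf m hm
    letI := ptTop G
    exact SolvBound.lowerCentralSeries_eq_bot sepCont (chainBound_pts hd) hNi hm'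
      ⟨n, Subgroup.lowerCentralSeries_eq_bot_iff_upperCentralSeries_eq_top.mpr (hn _)⟩
  · haveI := smooth_cObj (G := G) (m + (d + 1))
    have e : cWord G (m + (d + 1)) = 1 :=
      SemiAbExt.ext_points _ _ fun y => by rw [(SolvWords.lowerCentralSeries_eq_bot_iff _ _).mp h y, MonObj.comp_one]
    rw [e, MonObj.comp_one]

end

end Groth.Agent.Deform.Luna.SolvPts
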