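import Groth.Agent.Deform.Extension
import Groth.Agent.GrpSchLib.AntiAffineHom
import Groth.Agent.Deform.Chev.SemiAbelian
import Groth.Agent.Deform.LocSplitGlobal

/-!
# Preimages of central subgroups of multiplicative type
-/

set_option autoImplicit false
set_option linter.style.haveILetI false

universe u

open CategoryTheory CategoryTheory.Limits MonoidalCategory CartesianMonoidalCategory MonObj GrpObj AlgebraicGeometry

attribute [local instance] CategoryTheory.Hom.monoid CategoryTheory.Hom.group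

namespace Groth.Agent.Deform.Luna

variable {S : Scheme.{u}}

/-- Connected fibres of groups stay connected after base change. -/
theorem isConnected_fibre_bc {G : Over S} [GrpObj G] [LocallyOfFiniteType G.hom] {S' : Scheme.{u}} (f : S' ⟶ S)
    (hconn : ∀ s : S, _root_.IsConnected (G.hom.base ⁻¹' {s})) (s' : S') :
    _root_.IsConnected ((Red.bc f G).hom.base ⁻¹' {s'}) := by
  let y := S.fromSpecResidueField (f s')
  haveI : ConnectedSpace ↥(Red.bc y G).left := by
    haveI : ConnectedSpace ↥(G.hom.base ⁻¹' {f s'}) := isConnected_iff_connectedSpace.mp (hconn (f s'))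
    exact (G.hom.fiberHomeo (f s')).symm.surjective.connectedSpace (G.hom.fiberHomeo (f s')).symm.continuous
  haveI : LocallyOfFiniteType (Red.bc y G).hom := inferInstanceAs (LocallyOfFiniteType (pullback.snd G.hom y))
  letI : Algebra (S.residueField (f s')) (S'.residueField s') := (f.residueFieldMap s').hom.toAlgebra
  let t : Spec (S'.residueField s') ⟶ Spec (S.residueField (f s')) := Spec.map (f.residueFieldMap s')
  haveI h : ConnectedSpace ↥(pullback (pullback.snd G.hom y) t) :=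
    Agent.GrpSchLib.AntiAffine.connectedSpace_bc (k := S.residueField (f s')) (Red.bc y G)
      (f.residueFieldMap s').hom
  have hty : S'.fromSpecResidueField s' ≫ f = t ≫ y :=
    (Scheme.Hom.SpecMap_residueFieldMap_fromSpecResidueField f s').symm
  let i := pullbackLeftPullbackSndIso G.hom y t
  let i' := pullbackLeftPullbackSndIso G.hom f (S'.fromSpecResidueField s')
  let e : pullback (pullback.snd G.hom f) (S'.fromSpecResidueField s') ≅ pullback (pullback.snd G.hom y) t :=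
    i' ≪≫ pullback.congrHom rfl hty ≪≫ i.symm
  haveI : ConnectedSpace ↥((Red.bc f G).hom.fiber s') := e.inv.homeomorph.surjective.connectedSpace e.inv.continuous
  have hc := isConnected_range ((Red.bc f G).hom.fiberι s').continuous
  rwa [Scheme.Hom.range_fiberι] at hc

/-- The kernel of a quotient map. -/
theorem isKernel_of_isQuotient {G H Q : Over S} [GrpObj G] [GrpObj H] [GrpObj Q] {i : H ⟶ G} [IsMonHom i] [Mono i]
    {q : G ⟶ Q} [IsMonHom q] (hq : RedSub.IsQuotient i q) : AlgGrp.IsKernel i q := by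
  have hsq := hq.2.2.2
  have hpt : ∀ {X : Over S} (g : X ⟶ G) (h : X ⟶ H), lift g h ≫ (G ◁ i) ≫ μ[G] = g * (h ≫ i) := fun g h => by
    rw [Hom.mul_def, lift_whiskerLeft_assoc]
  have hkill : i ≫ q = toUnit H ≫ η[Q] := by
    have h1 := congrArg (lift (1 : H ⟶ G) (𝟙 H) ≫ ·) hsq.w
    beta_reduce at h1
    rw [← Category.assoc, lift_fst, ← Category.assoc, hpt, _root_.one_mul, Category.id_comp, MonObj.one_comp] at h1
    rw [← Hom.one_def]
    exact h1.symm
  have hex : ∀ (c : PullbackCone q η[Q]), ∃ l : c.pt ⟶ H, l ≫ i = c.fst := fun c => by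
    have hw : (1 : c.pt ⟶ G) ≫ q = c.fst ≫ q := by
      rw [MonObj.one_comp, c.condition, toUnit_unique c.snd (toUnit _), Hom.one_def]
    refine ⟨hsq.lift (1 : c.pt ⟶ G) c.fst hw ≫ snd G H, ?_⟩
    have h1 := hsq.lift_fst (1 : c.pt ⟶ G) c.fst hw
    have h2 := hsq.lift_snd (1 : c.pt ⟶ G) c.fst hw
    generalize hsq.lift (1 : c.pt ⟶ G) c.fst hw = m at h1 h2 ⊢
    rw [show m = lift (m ≫ fst G H) (m ≫ snd G H) by rw [← comp_lift, lift_fst_snd, Category.comp_id], hpt, h1,
      _root_.one_mul] at h2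
    exact h2
  choose l hl using hex
  exact IsPullback.of_isLimit' ⟨hkill⟩ (PullbackCone.IsLimit.mk _ l hl (fun c => toUnit_unique _ _)
    fun c m h₁ _ => by rw [← cancel_mono i, hl, h₁])

set_option maxHeartbeats 1000000 in
/-- **The preimage of a central subgroup of multiplicative type by a central quotient.** -/
theorem central_preimage {G H Q H' P : Over S} [GrpObj G] [GrpObj H] [GrpObj Q] [GrpObj H'] [GrpObj P]
    (hconn : ∀ s : S, _root_.IsPreconnected (G.hom.base ⁻¹' {s})) (i : H ⟶ G) [IsMonHom i] [Mono i]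
    (hH : SGA3x.IsMultTypeFT H) (hHc : ∀ (X : Over S) (h : X ⟶ H) (g : X ⟶ G), (h ≫ i) * g = g * (h ≫ i))
    (q : G ⟶ Q) [IsMonHom q] [Surjective q.left] [Flat q.left] [LocallyOfFinitePresentation q.left]
    (hker : AlgGrp.IsKernel i q) (j : H' ⟶ Q) [IsMonHom j] (hH' : SGA3x.IsMultTypeFT H')
    (hjc : ∀ (X : Over S) (x : X ⟶ H') (g : X ⟶ Q), (x ≫ j) * g = g * (x ≫ j)) (i' : P ⟶ G) [IsMonHom i']
    (p : P ⟶ H') [IsMonHom p] (hP : IsPullback i' p q j) :
    (SGA3x.IsMultTypeFT P ∧ ∀ (X : Over S) (x : X ⟶ P) (g : X ⟶ G), (x ≫ i') * g = g * (x ≫ i')) ∧ Epi p := by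
  have hq : FpqcDescLib.Covers q.left := FpqcDescLib.covers_of_isCovering (FpqcDescLib.isCovering_of_lfp q.left)
  have hp : FpqcDescLib.Covers p.left := hq.over_pullback _ p i' hP.flip
  haveI := hp.over_epi
  haveI : IsAffineHom H.hom := (TransLib.multTypeFT_essFree hH).1
  haveI : LocallyOfFiniteType H.hom := GrpSchLib.MultTypeLft.lft hH
  haveI : IsSeparated H.hom := inferInstance
  haveI : MorphismProperty.DescendsAlong (@IsAffineHom : MorphismProperty Scheme.{u})
      (@Surjective ⊓ @Flat ⊓ @QuasiCompact) := EtFound.fpqc_isAffineHom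
  haveI : IsAffineHom q.left := Extension.property_quot hker hq @IsAffineHom ‹_›
  -- the commutator pairing
  have hcm : ∀ {X : Over S} (x : X ⟶ P) (g : X ⟶ G), (x ≫ i' * g * (x ≫ i')⁻¹ * g⁻¹) ≫ q = 1 := fun x g => by
    simp only [MonObj.mul_comp, GrpObj.inv_comp]
    rw [Category.assoc, hP.w, ← Category.assoc, hjc _ (x ≫ p) (g ≫ q)]
    group
  let com : P ⊗ G ⟶ H := hker.lift (fst P G ≫ i' * snd P G * (fst P G ≫ i')⁻¹ * (snd P G)⁻¹) (toUnit _) (by
    rw [hcm, Hom.one_def])
  have hci : ∀ {X : Over S} (x : X ⟶ P) (g : X ⟶ G),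
      (lift x g ≫ com) ≫ i = x ≫ i' * g * (x ≫ i')⁻¹ * g⁻¹ := fun x g => by
    rw [Category.assoc, hker.lift_fst, MonObj.comp_mul, MonObj.comp_mul, MonObj.comp_mul, GrpObj.comp_inv,
      GrpObj.comp_inv, lift_fst_assoc, lift_snd]
  have hpp : FpqcDescLib.Covers (p ▷ G).left := FpqcDescLib.covers_whiskerRight hp G
  obtain ⟨δ, hδ, -⟩ := hpp.over_desc com fun X a b e => by
    have e1 : (a ≫ fst P G ≫ i') ≫ q = (b ≫ fst P G ≫ i') ≫ q := by
      have h := congrArg (· ≫ fst H' G ≫ j) e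
      simp only [Category.assoc, whiskerRight_fst_assoc] at h
      simpa only [Category.assoc, hP.w] using h
    have e2 : a ≫ snd P G = b ≫ snd P G := by
      have h := congrArg (· ≫ snd H' G) e
      simpa only [Category.assoc, whiskerRight_snd] using h
    obtain ⟨h, hh⟩ : ∃ h : X ⟶ H, h ≫ i = (a ≫ fst P G ≫ i') * (b ≫ fst P G ≫ i')⁻¹ :=
      ⟨hker.lift _ (toUnit X) (by rw [MonObj.mul_comp, GrpObj.inv_comp, e1, mul_inv_cancel, Hom.one_def]),
        hker.lift_fst _ _ _⟩
    have ea : a = lift (a ≫ fst P G) (a ≫ snd P G) := by rw [← comp_lift, lift_fst_snd, Category.comp_id]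
    have eb : b = lift (b ≫ fst P G) (b ≫ snd P G) := by rw [← comp_lift, lift_fst_snd, Category.comp_id]
    rw [ea, eb, ← cancel_mono i, hci, hci, Category.assoc a, Category.assoc b, e2,
      show a ≫ fst P G ≫ i' = (h ≫ i) * (b ≫ fst P G ≫ i') by rw [hh, inv_mul_cancel_right]]
    generalize b ≫ fst P G ≫ i' = u
    generalize b ≫ snd P G = v
    have hc : ∀ w : X ⟶ G, Commute (h ≫ i) w := fun w => hHc X h w
    calc (h ≫ i) * u * v * ((h ≫ i) * u)⁻¹ * v⁻¹
        = (h ≫ i) * (u * v * u⁻¹) * (h ≫ i)⁻¹ * v⁻¹ := by group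
      _ = _ := by rw [(hc _).eq, mul_inv_cancel_right]
  have hδ' : ∀ {X : Over S} (x : X ⟶ P) (g : X ⟶ G),
      lift (x ≫ p) g ≫ δ ≫ i = x ≫ i' * g * (x ≫ i')⁻¹ * g⁻¹ := fun x g => by
    rw [← hci x g, ← hδ, Category.assoc, Category.assoc, lift_whiskerRight_assoc]
  have hlin : ∀ (X : Over S) (a a' : X ⟶ H') (g : X ⟶ G), lift (a * a') g ≫ δ = lift a g ≫ δ * lift a' g ≫ δ := by
    intro X a a' g
    obtain ⟨X₁, r₁, hr₁, a₁, ha⟩ := Extension.exists_lift hp a
    obtain ⟨X₂, r₂, hr₂, a₂, ha'⟩ := Extension.exists_lift hp (r₁ ≫ a')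
    have ea : (r₂ ≫ a₁) ≫ p = r₂ ≫ r₁ ≫ a := by simp [ha]
    rw [← cancel_epi r₁, ← cancel_epi r₂, ← cancel_mono i]
    simp only [MonObj.comp_mul, comp_lift_assoc, Category.assoc, MonObj.mul_comp]
    rw [← ea, ← ha', ← MonObj.mul_comp, hδ', hδ', hδ', MonObj.mul_comp]
    have hc : ∀ w, Commute (a₂ ≫ i' * (r₂ ≫ r₁ ≫ g) * (a₂ ≫ i')⁻¹ * (r₂ ≫ r₁ ≫ g)⁻¹) w := fun w =>
      hci a₂ (r₂ ≫ r₁ ≫ g) ▸ hHc _ _ w
    generalize (r₂ ≫ a₁) ≫ i' = u
    generalize r₂ ≫ r₁ ≫ g = w at hc ⊢
    generalize a₂ ≫ i' = v at hc ⊢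
    calc u * v * w * (u * v)⁻¹ * w⁻¹ = u * ((v * w * v⁻¹ * w⁻¹) * (w * u⁻¹ * w⁻¹)) := by group
      _ = u * ((w * u⁻¹ * w⁻¹) * (v * w * v⁻¹ * w⁻¹)) := by rw [(hc _).eq]
      _ = _ := by group
  have h0 : lift (𝟙 H') (toUnit H' ≫ η[G]) ≫ δ = 1 := by
    rw [← cancel_epi p, ← cancel_mono i, comp_lift_assoc, Category.comp_id, comp_toUnit_assoc, Category.assoc,
      MonObj.comp_one, ← Hom.one_def, show lift p (1 : P ⟶ G) = lift (𝟙 P ≫ p) (1 : P ⟶ G) by rw [Category.id_comp],
      hδ', MonObj.one_comp]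
    group
  have hδ1 := Deform.pairing_eq_one hH' δ hlin η[G] h0 hconn
  have hcen : ∀ (X : Over S) (x : X ⟶ P) (g : X ⟶ G), (x ≫ i') * g = g * (x ≫ i') := fun X x g => by
    have h := hδ' x g
    rw [hδ1, MonObj.one_comp, MonObj.comp_one] at h
    rw [← mul_inv_eq_one]
    exact (by group : x ≫ i' * g * (g * (x ≫ i'))⁻¹ = x ≫ i' * g * (x ≫ i')⁻¹ * g⁻¹).trans h.symm
  haveI : IsCommMonObj P := Extension.isCommMonObj_of fun T x y => hP.hom_ext
    (by rw [MonObj.mul_comp, MonObj.mul_comp, hcen T x (y ≫ i')])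
    (by rw [MonObj.mul_comp, MonObj.mul_comp, GrpSchLib.MultTypeComm.points_comm hH' (x ≫ p) (y ≫ p)])
  let l : H ⟶ P := hP.lift i 1 (by rw [hker.w, MonObj.one_comp, Hom.one_def])
  haveI : IsMonHom l := LocSplitGlobal.isMonHom_of_mul l fun X a b => hP.hom_ext
    (by simp only [MonObj.mul_comp, Category.assoc, l, hP.lift_fst])
    (by simp only [MonObj.mul_comp, Category.assoc, l, hP.lift_snd, MonObj.comp_one, _root_.mul_one])
  have hk : AlgGrp.IsKernel l p := by
    refine IsPullback.of_isLimit' ⟨by rw [hP.lift_snd, Hom.one_def]⟩ (PullbackCone.IsLimit.mk _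
      (fun c => hker.lift (c.fst ≫ i') (toUnit _) (by
        rw [Category.assoc, hP.w, reassoc_of% c.condition, IsMonHom.one_hom j, toUnit_unique c.snd (toUnit _)]))
      (fun c => hP.hom_ext ?_ ?_) (fun c => toUnit_unique _ _) fun c m h₁ _ => ?_)
    · rw [Category.assoc, hP.lift_fst, hker.lift_fst]
    · rw [Category.assoc, hP.lift_snd, MonObj.comp_one, c.condition, Hom.one_def, toUnit_unique c.snd (toUnit _)]
    · rw [← cancel_mono i, hker.lift_fst, ← h₁, Category.assoc, hP.lift_fst]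
  haveI : Surjective p.left :=
    MorphismProperty.of_isPullback (P := @Surjective) (hP.map (Over.forget S)) ‹Surjective q.left›
  haveI : Flat p.left := MorphismProperty.of_isPullback (P := @Flat) (hP.map (Over.forget S)) ‹Flat q.left›
  haveI : IsAffineHom p.left :=
    MorphismProperty.of_isPullback (P := @IsAffineHom) (hP.map (Over.forget S)) ‹IsAffineHom q.left›
  exact ⟨⟨Extension.isMultTypeFT_of_comm p l hk hH hH', hcen⟩, inferInstance⟩

end Groth.Agent.Deform.Luna

namespace Groth.Agent.Deform.Luna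

/-- Fibre products of homomorphisms are groups. -/
theorem exists_grp_pullback {S : Scheme.{u}} {G H Q : Over S} [GrpObj G] [GrpObj H] [GrpObj Q] (q : G ⟶ Q)
    [IsMonHom q] (j : H ⟶ Q) [IsMonHom j] :
    ∃ (_ : GrpObj (pullback q j)), IsMonHom (pullback.fst q j) ∧ IsMonHom (pullback.snd q j) := by
  let a : pullback q j ⟶ G ⊗ H := lift (pullback.fst q j) (pullback.snd q j)
  haveI : Mono a := ⟨fun u v h => pullback.hom_ext (by simpa [a] using congrArg (· ≫ fst G H) h)
    (by simpa [a] using congrArg (· ≫ snd G H) h)⟩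
  have hin : ∀ {X : Over S} (u : X ⟶ G ⊗ H), u ≫ fst G H ≫ q = u ≫ snd G H ≫ j → ∃ l, l ≫ a = u := fun u h =>
    ⟨pullback.lift (u ≫ fst G H) (u ≫ snd G H) (by simpa only [Category.assoc] using h),
      CartesianMonoidalCategory.hom_ext _ _ (by rw [Category.assoc, lift_fst]; exact pullback.lift_fst _ _ _)
        (by rw [Category.assoc, lift_snd]; exact pullback.lift_snd _ _ _)⟩
  haveI : IsMonHom (fst G H) := inferInstance
  haveI : IsMonHom (snd G H) := inferInstance
  have hout : a ≫ fst G H ≫ q = a ≫ snd G H ≫ j := by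
    simp only [a, lift_fst_assoc, lift_snd_assoc, pullback.condition]
  obtain ⟨η', hη⟩ := hin η[G ⊗ H] (by
    rw [← Category.assoc, IsMonHom.one_hom (fst G H), IsMonHom.one_hom q, ← Category.assoc,
      IsMonHom.one_hom (snd G H), IsMonHom.one_hom j])
  obtain ⟨μ', hμ⟩ := hin ((fst (pullback q j) (pullback q j) ≫ a) * (snd _ _ ≫ a)) (by
    simp only [MonObj.mul_comp, ← Category.assoc]
    simp only [Category.assoc, hout])
  obtain ⟨ι', hι⟩ := hin a⁻¹ (by
    simp only [← Category.assoc, GrpObj.inv_comp]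
    simp only [Category.assoc, hout])
  obtain ⟨str, hstr⟩ := GrpSchLib.exists_grpObj_of_mono a η' hη μ' hμ ι' hι
  letI := str
  haveI := hstr
  refine ⟨str, ?_, ?_⟩
  · rw [show pullback.fst q j = a ≫ fst G H by simp [a]]
    infer_instance
  · rw [show pullback.snd q j = a ≫ snd G H by simp [a]]
    infer_instance

end Groth.Agent.Deform.Luna

namespace Groth.Agent.Deform.Luna

/-- The second projection of a cartesian square of homomorphisms over a monomorphism is a homomorphism. -/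
theorem isMonHom_snd {S : Scheme.{u}} {G H Q P : Over S} [GrpObj G] [GrpObj H] [GrpObj Q] [GrpObj P] {q : G ⟶ Q}
    [IsMonHom q] {j : H ⟶ Q} [IsMonHom j] [Mono j] {a : P ⟶ G} [IsMonHom a] {p : P ⟶ H} (h : IsPullback a p q j) :
    IsMonHom p :=
  Deform.isMonHom_of_comp p j (i := a ≫ q) h.w.symm

end Groth.Agent.Deform.Luna
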