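import Groth.Agent.Deform.Luna.SolvPts
import Groth.Agent.Deform.Luna.SolvDim
import Groth.Agent.H23.RedSub

/-!
# The locus of solvable (nilpotent) geometric fibres is closed
-/

set_option autoImplicit false

universe u

open CategoryTheory CategoryTheory.Limits MonoidalCategory CartesianMonoidalCategory MonObj GrpObj AlgebraicGeometry

attribute [local instance] CategoryTheory.Hom.monoid CategoryTheory.Hom.group
set_option linter.style.haveILetI false

namespace Groth.Agent.Deform.Luna.SolvLocus

noncomputable section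

open Chev SolvWords

variable {S : Scheme.{u}} {G W : Over S} [GrpObj G]

/-- The points over which a word is trivial. -/
def trivLocus (w : W ⟶ G) : Set S :=
  {s | ∀ p : W.left, W.hom p = s → w.left p ∈ Set.range η[G].left}

theorem isClosedImmersion_one (G : Over S) [GrpObj G] [IsSeparated G.hom] : IsClosedImmersion η[G].left := by
  haveI : IsIso (η[G].left ≫ G.hom) := by
    rw [Over.w η[G]]
    exact inferInstanceAs (IsIso (𝟙 S))
  exact IsClosedImmersion.of_comp η[G].left G.hom

theorem isClosed_trivLocus [Flat W.hom] [LocallyOfFinitePresentation W.hom] [IsSeparated G.hom] (w : W ⟶ G) :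
    IsClosed (trivLocus w) := by
  haveI := isClosedImmersion_one G
  have h : (trivLocus w)ᶜ = W.hom '' (w.left ⁻¹' Set.range η[G].left)ᶜ := by
    ext s
    simp only [trivLocus, Set.mem_compl_iff, Set.mem_setOf_eq, not_forall, Set.mem_image, Set.mem_preimage, exists_prop]
    constructor
    · rintro ⟨p, hp, hn⟩; exact ⟨p, hn, hp⟩
    · rintro ⟨p, hn, hp⟩; exact ⟨p, hp, hn⟩
  rw [← isOpen_compl_iff, h]
  exact W.hom.isOpenMap _ (η[G].left.isClosedEmbedding.isClosed_range.preimage w.left.continuous).isOpen_compl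

/-- Triviality of a word over a point is seen on points over an algebraically closed field. -/
theorem mem_trivLocus_iff [LocallyOfFiniteType W.hom] [IsSeparated G.hom] (w : W ⟶ G) {k : Type u} [Field k]
    [IsAlgClosed k] (t : Spec (CommRingCat.of k) ⟶ S) :
    t (IsLocalRing.closedPoint k) ∈ trivLocus w ↔
      ∀ x : (Over.map t).obj (𝟙_ (Over (Spec (CommRingCat.of k)))) ⟶ W, x ≫ w = 1 := by
  haveI := isClosedImmersion_one G
  have hT : ∀ z : ((Over.map t).obj (𝟙_ (Over (Spec (CommRingCat.of k))))).left,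
      ((Over.map t).obj (𝟙_ (Over (Spec (CommRingCat.of k))))).hom z = t (IsLocalRing.closedPoint k) := fun z =>
    congrArg t (Subsingleton.elim (α := Spec (CommRingCat.of k)) _ _)
  constructor
  · intro h x
    haveI : IsReduced ((Over.map t).obj (𝟙_ (Over (Spec (CommRingCat.of k))))).left :=
      inferInstanceAs (IsReduced (Spec (CommRingCat.of k)))
    obtain ⟨g, hg⟩ := H23.RedSub.exists_lift_closed (x ≫ w).left η[G].left (by
      rintro _ ⟨z, rfl⟩
      refine h (x.left z) ?_
      rw [← Scheme.Hom.comp_apply, Over.w x]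
      exact hT z)
    rw [Hom.one_def]
    ext
    rw [Over.comp_left, Over.comp_left] at *
    rw [← hg]
    congr 1
    have h1 := congrArg (· ≫ G.hom) hg
    simp only [Category.assoc, Over.w w, Over.w x, Over.w η[G]] at h1
    exact ((Category.comp_id g).symm.trans h1).trans (Over.w (toUnit _)).symm
  · intro h p hp
    by_contra hn
    let F : Over (Spec (CommRingCat.of k)) := Red.bc t W
    haveI : LocallyOfFiniteType F.hom := MorphismProperty.pullback_snd W.hom t inferInstance
    obtain ⟨q, hq, -⟩ := Scheme.Pullback.exists_preimage_pullback (f := W.hom) (g := t) p (IsLocalRing.closedPoint k) hp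
    let A : Set F.left := (pullback.fst W.hom t ≫ w.left) ⁻¹' Set.range η[G].left
    have hA : IsClosed A :=
      η[G].left.isClosedEmbedding.isClosed_range.preimage (pullback.fst W.hom t ≫ w.left).continuous
    obtain ⟨g, hg⟩ := exists_pt (G := F) (S := Aᶜ) ⟨q, fun hqA => hn <| by
      simp only [A, Set.mem_preimage, Scheme.Hom.comp_apply] at hqA
      rwa [← hq]⟩ hA.isOpen_compl.isLocallyClosed
    let x : (Over.map t).obj (𝟙_ (Over (Spec (CommRingCat.of k)))) ⟶ W :=
      (Over.map t).map g ≫ (Over.mapPullbackAdj t).counit.app W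
    have hx : (x ≫ w).left = g.left ≫ pullback.fst W.hom t ≫ w.left := by
      simp [x, F]
    refine hg ⟨((toUnit ((Over.map t).obj (𝟙_ (Over (Spec (CommRingCat.of k)))))).left (IsLocalRing.closedPoint k)), ?_⟩
    have h1 := hx.symm.trans (congrArg Over.Hom.left (h x))
    rw [Hom.one_def, Over.comp_left] at h1
    exact (congrArg (fun φ : Spec (CommRingCat.of k) ⟶ G.left => φ (IsLocalRing.closedPoint k)) h1).symm

/-- Points of a base change. -/
def ptsEquiv {T : Scheme.{u}} (t : T ⟶ S) (A : Over T) : ((Over.map t).obj A ⟶ G) ≃* (A ⟶ Red.bc t G) where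
  toEquiv := (Over.mapPullbackAdj t).homEquiv A G
  map_mul' a b := by
    simp only [Equiv.toFun_as_coe, Adjunction.homEquiv_unit]
    rw [← MonObj.comp_mul, Functor.map_mul]

theorem derivedSeries_congr {A B : Type u} [Group A] [Group B] (e : A ≃* B) (n : ℕ) :
    derivedSeries A n = ⊥ ↔ derivedSeries B n = ⊥ := by
  rw [← map_derivedSeries_eq (f := e.toMonoidHom) e.surjective n, Subgroup.map_eq_bot_iff_of_injective _ e.injective]

theorem lowerCentralSeries_congr {A B : Type u} [Group A] [Group B] (e : A ≃* B) (n : ℕ) :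
    Subgroup.lowerCentralSeries (⊤ : Subgroup A) n = ⊥ ↔ Subgroup.lowerCentralSeries (⊤ : Subgroup B) n = ⊥ := by
  rw [← Subgroup.map_top_of_surjective e.toMonoidHom e.surjective, ← Subgroup.map_lowerCentralSeries,
    Subgroup.map_eq_bot_iff_of_injective _ e.injective]

theorem smooth_tensor (X Y : Over S) [Smooth X.hom] [Smooth Y.hom] : Smooth (X ⊗ Y).hom := by
  rw [Over.tensorObj_hom]
  infer_instance

theorem smooth_dObj [Smooth G.hom] : ∀ n, Smooth (dObj G n).hom
  | 0 => ‹_›
  | n + 1 => by
    haveI := smooth_dObj n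
    exact smooth_tensor _ _

theorem smooth_cObj [Smooth G.hom] : ∀ n, Smooth (cObj G n).hom
  | 0 => ‹_›
  | n + 1 => by
    haveI := smooth_cObj n
    exact smooth_tensor _ _

/-- On an affine open the solvable and the nilpotent fibres are cut out by one word each. -/
theorem exists_class (G : Over S) [GrpObj G] [Smooth G.hom] [QuasiCompact G.hom] [IsSeparated G.hom] {U : S.Opens}
    (hU : IsAffineOpen U) : ∃ N : ℕ, ∀ (k : Type u) [Field k] [IsAlgClosed k] (t : Spec (CommRingCat.of k) ⟶ S),
      t (IsLocalRing.closedPoint k) ∈ U →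
        (Red.IsSolvableGrp (Red.bc t G) ↔ t (IsLocalRing.closedPoint k) ∈ trivLocus (dWord G N)) ∧
        (AGF.IsNilpotentGrp (Red.bc t G) ↔ t (IsLocalRing.closedPoint k) ∈ trivLocus (cWord G N)) := by
  obtain ⟨d, hd⟩ := SolvDim.exists_chainBound G.hom hU
  obtain ⟨m, hm⟩ := SolvDim.exists_card_le G.hom hU
  refine ⟨m + (d + 1), fun k _ _ t ht => ?_⟩
  haveI : Smooth (Red.bc t G).hom := MorphismProperty.pullback_snd G.hom t inferInstance
  haveI : QuasiCompact (Red.bc t G).hom := MorphismProperty.pullback_snd G.hom t inferInstance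
  haveI : IsSeparated (Red.bc t G).hom := MorphismProperty.pullback_snd G.hom t inferInstance
  haveI := smooth_dObj (G := G) (m + (d + 1))
  haveI := smooth_cObj (G := G) (m + (d + 1))
  constructor
  · rw [SolvPts.isSolvableGrp_iff (hd k t ht) (hm k t ht), ← derivedSeries_congr (ptsEquiv t _),
      SolvWords.derivedSeries_eq_bot_iff, mem_trivLocus_iff]
  · rw [SolvPts.isNilpotentGrp_iff (hd k t ht) (hm k t ht), ← lowerCentralSeries_congr (ptsEquiv t _),
      SolvWords.lowerCentralSeries_eq_bot_iff, mem_trivLocus_iff]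

theorem isClosed_of_local {Z : Set S} (h : ∀ U : S.Opens, IsAffineOpen U →
    ∃ Z' : Set S, IsClosed Z' ∧ ∀ s ∈ U, (s ∈ Z ↔ s ∈ Z')) : IsClosed Z := by
  rw [← isOpen_compl_iff, isOpen_iff_forall_mem_open]
  intro s hs
  obtain ⟨U, hU, hsU, -⟩ := TopologicalSpace.Opens.isBasis_iff_nbhd.mp S.isBasis_affineOpens (TopologicalSpace.Opens.mem_top s)
  obtain ⟨Z', hZ', hiff⟩ := h U hU
  exact ⟨(U : Set S) ∩ Z'ᶜ, fun x hx hxZ => hx.2 ((hiff x hx.1).mp hxZ), U.2.inter hZ'.isOpen_compl,
    hsU, fun h' => hs ((hiff s hsU).mpr h')⟩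

theorem geomPt_apply (s : S) : Red.geomPt s (IsLocalRing.closedPoint (AlgebraicClosure (S.residueField s))) = s := by
  rw [Red.geomPt, Scheme.Hom.comp_apply]
  exact Scheme.fromSpecResidueField_apply s _

/-- **The solvable locus is closed.** -/
theorem isClosed_solvable (G : Over S) [GrpObj G] [Smooth G.hom] [QuasiCompact G.hom] [IsSeparated G.hom] :
    IsClosed {s : S | Red.IsSolvableGrp (Red.geomFibre s G)} := by
  refine isClosed_of_local fun U hU => ?_
  obtain ⟨N, hN⟩ := exists_class G hU
  haveI := smooth_dObj (G := G) N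
  refine ⟨_, isClosed_trivLocus (dWord G N), fun s hs => ?_⟩
  have h := (hN (AlgebraicClosure (S.residueField s)) (Red.geomPt s) (by rw [geomPt_apply]; exact hs)).1
  rwa [geomPt_apply] at h

/-- **The nilpotent locus is closed.** -/
theorem isClosed_nilpotent (G : Over S) [GrpObj G] [Smooth G.hom] [QuasiCompact G.hom] [IsSeparated G.hom] :
    IsClosed {s : S | AGF.IsNilpotentGrp (Red.geomFibre s G)} := by
  refine isClosed_of_local fun U hU => ?_
  obtain ⟨N, hN⟩ := exists_class G hU
  haveI := smooth_cObj (G := G) N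
  refine ⟨_, isClosed_trivLocus (cWord G N), fun s hs => ?_⟩
  have h := (hN (AlgebraicClosure (S.residueField s)) (Red.geomPt s) (by rw [geomPt_apply]; exact hs)).2
  rwa [geomPt_apply] at h

end

end Groth.Agent.Deform.Luna.SolvLocus
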