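import Groth.Agent.Deform.Borel.Tori
import Groth.Agent.Deform.Chev.SemiAbExt
import Groth.Agent.GrpSchLib.ImageFactor
import Groth.Agent.Deform.LocSplitGlobal
import Groth.Agent.GrpSchLib.Cartier

/-!
# Images of tori and tori commuting with a maximal torus
-/

universe u

open CategoryTheory CategoryTheory.Limits MonoidalCategory CartesianMonoidalCategory MonObj GrpObj AlgebraicGeometry

attribute [local instance] CategoryTheory.Hom.monoid CategoryTheory.Hom.group
set_option linter.style.haveILetI false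

namespace Groth.Agent.Deform.Luna

open Chev (Pt pimg)

noncomputable section

variable {k : Type u} [Field k] [IsAlgClosed k]

/-- A product of two tori is a torus. -/
theorem isTorus_prod {T R : Over (Spec (CommRingCat.of k))} [GrpObj T] [GrpObj R] (hT : Red.IsTorus T)
    (hR : Red.IsTorus R) : Red.IsTorus (T ⊗ R) := by
  obtain ⟨hTa, hTl, hTs, hTc⟩ := Deform.TorusBasic.props hT
  obtain ⟨hRa, hRl, hRs, hRc⟩ := Deform.TorusBasic.props hR
  haveI := hTa; haveI := hTl; haveI := hTs; haveI := hRa; haveI := hRl; haveI := hRs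
  haveI : IsAffineHom T.hom := isAffineHom_of_isAffine _
  haveI : IsAffineHom R.hom := isAffineHom_of_isAffine _
  haveI : LocallyOfFiniteType (T ⊗ R).hom :=
    inferInstanceAs (LocallyOfFiniteType (Limits.pullback.fst T.hom R.hom ≫ T.hom))
  haveI : QuasiCompact (T ⊗ R).hom := inferInstanceAs (QuasiCompact (Limits.pullback.fst T.hom R.hom ≫ T.hom))
  haveI : Surjective (snd T R).left := by
    haveI : Surjective T.hom := ⟨fun x => ⟨(η[T] : 𝟙_ _ ⟶ T).left x, by
      rw [← Scheme.Hom.comp_apply, Over.w]; rfl⟩⟩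
    exact inferInstanceAs (Surjective (Limits.pullback.snd T.hom R.hom))
  haveI : Flat (snd T R).left := inferInstanceAs (Flat (Limits.pullback.snd T.hom R.hom))
  let i : T ⟶ T ⊗ R := lift (𝟙 T) 1
  haveI : IsMonHom (1 : T ⟶ R) := by rw [Hom.one_def]; infer_instance
  haveI : IsMonHom i := inferInstanceAs (IsMonHom (lift (𝟙 T) 1))
  haveI : IsMonHom (snd T R) := inferInstance
  have hker : AlgGrp.IsKernel i (snd T R) := by
    have hw : i ≫ snd T R = toUnit T ≫ η[R] := by rw [lift_snd, Hom.one_def]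
    refine IsPullback.of_isLimit' ⟨hw⟩ (PullbackCone.IsLimit.mk hw (fun c => c.fst ≫ fst T R) (fun c => ?_)
      (fun c => toUnit_unique _ _) fun c m hm _ => ?_)
    · apply CartesianMonoidalCategory.hom_ext
      · rw [Category.assoc, lift_fst, Category.comp_id]
      · rw [Category.assoc, lift_snd, MonObj.comp_one, c.condition, Hom.one_def, toUnit_unique c.snd (toUnit _)]
    · rw [← hm, Category.assoc, lift_fst, Category.comp_id]
  exact Deform.Chev.SemiAbExt.isTorus_extension (snd T R) i hker hT hR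

set_option maxHeartbeats 1000000 in
/-- **The image of a torus is a torus.** -/
theorem exists_image_torus {T G : Over (Spec (CommRingCat.of k))} [GrpObj T] [GrpObj G] [LocallyOfFiniteType G.hom]
    [QuasiCompact G.hom] (hT : Red.IsTorus T) (f : T ⟶ G) [IsMonHom f] :
    ∃ (Q : Over (Spec (CommRingCat.of k))) (_ : GrpObj Q) (p : T ⟶ Q) (j : Q ⟶ G), IsMonHom p ∧ IsMonHom j ∧
      IsClosedImmersion j.left ∧ Surjective p.left ∧ p ≫ j = f ∧ Red.IsTorus Q := by
  obtain ⟨hTa, hTl, hTs, hTc⟩ := Deform.TorusBasic.props hT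
  haveI := hTa; haveI := hTl; haveI := hTs; haveI := hTc
  haveI : IsAffineHom T.hom := isAffineHom_of_isAffine _
  haveI : QuasiCompact T.hom := inferInstance
  obtain ⟨Q, iQ, p, j, hp, hj, hpj, hjc, hpf, hps, hQl, hQq⟩ := Agent.GrpSchLib.ImageFactor.exists_image f
  haveI := hp; haveI := hj; haveI := hjc; haveI := hps; haveI := hpf; haveI := hQl; haveI := hQq
  haveI : IsReduced T.left := GrpSchLib.isReduced_of_smooth_field T.hom
  haveI : IsReduced Q.left := by
    haveI : ∀ x : Q.left, _root_.IsReduced (Q.left.presheaf.stalk x) := fun x => by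
      obtain ⟨y, rfl⟩ := p.left.surjective x
      letI := (p.left.stalkMap y).hom.toAlgebra
      haveI : Module.Flat (Q.left.presheaf.stalk (p.left y)) (T.left.presheaf.stalk y) := Flat.stalkMap p.left y
      haveI : IsLocalHom (algebraMap (Q.left.presheaf.stalk (p.left y)) (T.left.presheaf.stalk y)) :=
        inferInstanceAs (IsLocalHom (p.left.stalkMap y).hom)
      haveI := Module.FaithfullyFlat.of_flat_of_isLocalHom
        (A := Q.left.presheaf.stalk (p.left y)) (B := T.left.presheaf.stalk y)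
      exact isReduced_of_injective _ (FaithfulSMul.algebraMap_injective
        (Q.left.presheaf.stalk (p.left y)) (T.left.presheaf.stalk y))
    exact isReduced_of_isReduced_stalk _
  haveI : Smooth Q.hom := Agent.GrpSchLib.smooth_of_isReduced_of_isAlgClosed Q
  haveI : ConnectedSpace Q.left := p.left.surjective.connectedSpace p.left.continuous
  obtain ⟨N, iN, ν, A, iA, q, hν, hνc, hNa, hq, -, -, hk, hA⟩ := Chev.exists_affine_normal Q
  haveI := hν; haveI := hνc; haveI := hNa; haveI := hq; haveI := hA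
  obtain ⟨p', -, hp'⟩ := Borel.exists_lift_of_affine ν q hk p
  haveI : Surjective ν.left := ⟨fun x => by
    obtain ⟨y, rfl⟩ := p.left.surjective x
    exact ⟨p'.left y, by rw [← hp']; rfl⟩⟩
  haveI := isIso_of_isClosedImmersion_of_surjective ν.left
  haveI : IsAffine Q.left := IsAffine.of_isIso (inv ν.left)
  haveI : QuasiCompact (p.left ≫ Q.hom) := by rw [Over.w p]; infer_instance
  haveI : QuasiCompact p.left := QuasiCompact.of_comp p.left Q.hom
  haveI : IsCommMonObj Q := Deform.Extension.isCommMonObj_of fun Y a b => by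
    have hp' := Deform.Extension.covers_of_fpqc p
    obtain ⟨Y₁, r₁, hr₁, a', ha'⟩ := Deform.Extension.exists_lift hp' a
    obtain ⟨Y₂, r₂, hr₂, b', hb'⟩ := Deform.Extension.exists_lift hp' (r₁ ≫ b)
    haveI := hr₁; haveI := hr₂
    rw [← cancel_epi r₁, ← cancel_epi r₂, MonObj.comp_mul, MonObj.comp_mul, MonObj.comp_mul, MonObj.comp_mul, ← hb',
      ← ha', ← Category.assoc r₂ a', ← MonObj.mul_comp, ← MonObj.mul_comp,
      Agent.GrpSchLib.MultTypeComm.points_comm (Deform.isMultTypeFT_of_isTorus hT) (r₂ ≫ a') b']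
  exact ⟨Q, iQ, p, j, hp, hj, hjc, hps, hpj, Deform.TorusIsogeny.isTorus_of_surjective hT p⟩

/-- **A torus commuting with a maximal torus lies in it.** -/
theorem le_maxTorus_of_comm {T R G : Over (Spec (CommRingCat.of k))} [GrpObj T] [GrpObj R] [GrpObj G]
    [LocallyOfFiniteType G.hom] [QuasiCompact G.hom] {i : T ⟶ G} (hi : AGF.IsMaxTorus i) (hR : Red.IsTorus R)
    (j : R ⟶ G) [IsMonHom j]
    (hcomm : ∀ (X : Over (Spec (CommRingCat.of k))) (t : X ⟶ T) (r : X ⟶ R),
      (t ≫ i) * (r ≫ j) = (r ≫ j) * (t ≫ i)) :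
    ∃ f : R ⟶ T, f ≫ i = j := by
  obtain ⟨him, himo, hT, hmax⟩ := hi
  haveI := him; haveI := himo
  let m : T ⊗ R ⟶ G := (fst T R ≫ i) * (snd T R ≫ j)
  haveI : IsMonHom m := LocSplitGlobal.isMonHom_of_mul m fun Y a b => by
    simp only [m, MonObj.comp_mul, ← Category.assoc, MonObj.mul_comp]
    exact Commute.mul_mul_mul_comm ((hcomm _ _ _)) _ _
  obtain ⟨Q, iQ, p, q, hp, hq, hqc, -, hpq, hQ⟩ := exists_image_torus (isTorus_prod hT hR) m
  haveI := hp; haveI := hq; haveI := hqc
  haveI : Mono q := (Over.forget _).mono_of_mono_map (inferInstanceAs (Mono q.left))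
  let a : T ⟶ Q := lift (𝟙 T) 1 ≫ p
  have ha : a ≫ q = i := by
    rw [Category.assoc, hpq, MonObj.comp_mul, lift_fst_assoc, lift_snd_assoc, MonObj.one_comp, _root_.mul_one,
      Category.id_comp]
  haveI := hmax Q q a hQ ha
  refine ⟨(lift 1 (𝟙 R) ≫ p) ≫ inv a, ?_⟩
  rw [← ha, Category.assoc, IsIso.inv_hom_id_assoc, Category.assoc, hpq, MonObj.comp_mul, lift_fst_assoc,
    lift_snd_assoc, MonObj.one_comp, _root_.one_mul, Category.id_comp]

end

end Groth.Agent.Deform.Luna
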