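import Groth.Agent.S16791
import Groth.Agent.Deform.Chev.Components
import Groth.Agent.Deform.Chev.AlgClosed
import Groth.Agent.Deform.Chev.SemiAbelian
import Groth.Agent.Deform.AVFactor
import Groth.Agent.Deform.TorusBasic

/-!
# Maximal tori of smooth groups and base change

No affineness: over an algebraically closed field a torus lies in the affine part of the neutral component.
-/

set_option autoImplicit false
set_option linter.style.haveILetI false

universe u

open CategoryTheory CategoryTheory.Limits MonoidalCategory CartesianMonoidalCategory MonObj GrpObj AlgebraicGeometry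

attribute [local instance] CategoryTheory.Hom.monoid CategoryTheory.Hom.group

namespace Groth.Agent.Deform.Luna

open Deform (MaxAt ext)

set_option maxHeartbeats 1000000 in
/-- Over algebraically closed fields maximality among subtori of a smooth group passes to field extensions. -/
theorem maxAt_bc_smooth {K : Type u} [Field K] [IsAlgClosed K] {L : Type u} [Field L] [IsAlgClosed L] [Algebra K L]
    {T G : Over (Spec (CommRingCat.of K))} [GrpObj T] [GrpObj G] [Smooth G.hom] [QuasiCompact G.hom]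
    (hT : Red.IsTorus T) (i : T ⟶ G) [IsMonHom i] [Mono i] (hmax : MaxAt i) :
    MaxAt ((Over.pullback (ext K L)).map i) := by
  let F := Over.pullback (ext K L)
  obtain ⟨G₀, iG₀, i₀, hm₀, hc₀, ho₀, hs₀, hq₀, hn₀, hr₀⟩ := Chev.exists_neutral G
  haveI := hm₀; haveI := hc₀; haveI := ho₀; haveI := hs₀; haveI := hq₀; haveI := hn₀
  haveI : Mono i₀ := (Over.forget _).mono_of_mono_map (inferInstanceAs (Mono i₀.left))
  obtain ⟨hTa, hTl, hTs, hTc⟩ := Deform.TorusBasic.props hT
  haveI := hTa; haveI := hTs; haveI := hTc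
  haveI : IsReduced T.left := GrpSchLib.isReduced_of_smooth_field T.hom
  obtain ⟨l, hl⟩ := Chev.exists_lift_neutral i₀ hr₀ i (1 : Chev.Pt T) (MonObj.one_comp i)
  haveI : IsMonHom l := Deform.isMonHom_of_comp l i₀ (i := i) hl
  haveI : Mono (l ≫ i₀) := by rw [hl]; infer_instance
  haveI : Mono l := mono_of_mono l i₀
  obtain ⟨N, gN, ν, A, gA, qd, hν, hνc, hNs, hNq, hNc, hNa, -, hqd, hqdf, hqds, hk, hA, hAs, hAc⟩ :=
    Chev.exists_decomp (G := G₀)
  haveI := hν; haveI := hνc; haveI := hNs; haveI := hNq; haveI := hNc; haveI := hNa; haveI := hqd; haveI := hA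
  haveI : Mono ν := (Over.forget _).mono_of_mono_map (inferInstanceAs (Mono ν.left))
  obtain ⟨n, hn⟩ := Chev.exists_lift_kernel ν qd hk l (AVFactor.eq_one_of_affine (l ≫ qd))
  haveI : IsMonHom n := Deform.isMonHom_of_comp n ν (i := l) hn
  haveI : Mono (n ≫ ν) := by rw [hn]; infer_instance
  haveI : Mono n := mono_of_mono n ν
  have hmaxn : MaxAt n := fun T₀ _ j₀ _ _ d hT₀ hd => hmax T₀ (j₀ ≫ ν ≫ i₀) d hT₀ (by
    rw [reassoc_of% hd, reassoc_of% hn, hl])
  have h := Deform.maxAt_bc (L := L) (Deform.isMultTypeFT_of_isTorus hT) n hmaxn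
  intro R _ j _ _ f hR hf
  obtain ⟨hRa, hRl, hRs, hRc⟩ := Deform.TorusBasic.props hR
  haveI := hRa; haveI := hRs; haveI := hRc
  haveI : IsReduced R.left := GrpSchLib.isReduced_of_smooth_field R.hom
  -- the torus lands in the neutral component
  haveI : IsOpenImmersion (F.map i₀).left :=
    MorphismProperty.overPullbackMap (P := @IsOpenImmersion) _ _ ho₀
  haveI : Mono (F.map i₀) := inferInstanceAs (Mono ((Over.pullback (ext K L)).map i₀))
  haveI : IsMonHom (F.map i₀) := inferInstanceAs (IsMonHom ((Over.pullback (ext K L)).map i₀))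
  have hsq : IsPullback (F.map i₀).left (pullback.fst G₀.hom (ext K L)) (pullback.fst G.hom (ext K L)) i₀.left :=
    (GrpSchLib.HomSplitLocal.isPullback_map i₀ (ext K L)).flip
  let q := pullback.fst G.hom (ext K L)
  let C := (j.left ≫ q) ⁻¹' Set.range i₀.left
  have hCcl : IsClopen C :=
    ⟨i₀.left.isClosedEmbedding.isClosed_range.preimage (j.left ≫ q).continuous,
      i₀.left.isOpenEmbedding.isOpen_range.preimage (j.left ≫ q).continuous⟩
  have hCne : C.Nonempty := by
    refine ⟨Chev.pimg (1 : Chev.Pt R), ?_⟩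
    show (j.left ≫ q) _ ∈ Set.range i₀.left
    rw [Scheme.Hom.comp_apply, ← Chev.pimg_comp, MonObj.one_comp, ← MonObj.one_comp (F.map i₀), Chev.pimg_comp,
      ← Scheme.Hom.comp_apply, hsq.w, Scheme.Hom.comp_apply]
    exact ⟨_, rfl⟩
  have hCu : C = Set.univ := hCcl.eq_univ hCne
  have hrg : Set.range j.left ⊆ Set.range (F.map i₀).left := by
    rintro _ ⟨x, rfl⟩
    have hx : x ∈ C := by rw [hCu]; trivial
    obtain ⟨y, hy⟩ : (j.left ≫ q) x ∈ Set.range i₀.left := hx
    rw [Scheme.Hom.comp_apply] at hy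
    obtain ⟨z, hz, -⟩ := Scheme.exists_preimage_of_isPullback hsq (j.left x) y hy.symm
    exact ⟨z, hz⟩
  let j₀ : R ⟶ Red.bc (ext K L) G₀ := Over.homMk (IsOpenImmersion.lift (F.map i₀).left j.left hrg) (by
    rw [← Over.w (F.map i₀), IsOpenImmersion.lift_fac_assoc, Over.w j])
  have hj₀ : j₀ ≫ F.map i₀ = j := Over.OverMorphism.ext (IsOpenImmersion.lift_fac _ _ _)
  haveI : IsMonHom j₀ := Deform.isMonHom_of_comp j₀ (F.map i₀) (i := j) hj₀
  -- and in the affine part
  haveI : IsProper (Red.bc (ext K L) A).hom := inferInstanceAs (IsProper (pullback.snd A.hom (ext K L)))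
  haveI : IsMonHom (F.map qd) := inferInstanceAs (IsMonHom ((Over.pullback (ext K L)).map qd))
  haveI : IsMonHom (F.map ν) := inferInstanceAs (IsMonHom ((Over.pullback (ext K L)).map ν))
  haveI : Mono (F.map ν) := inferInstanceAs (Mono ((Over.pullback (ext K L)).map ν))
  obtain ⟨jN, hjN⟩ := Chev.exists_lift_kernel (F.map ν) (F.map qd) (Chev.SemiAbelian.isKernel_bc _ ν qd hk) j₀
    (AVFactor.eq_one_of_affine (j₀ ≫ F.map qd))
  haveI : IsMonHom jN := Deform.isMonHom_of_comp jN (F.map ν) (i := j₀) hjN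
  haveI : Mono (jN ≫ F.map ν ≫ F.map i₀) := by rw [reassoc_of% hjN, hj₀]; infer_instance
  haveI : Mono jN := mono_of_mono jN (F.map ν ≫ F.map i₀)
  refine h R jN f hR ?_
  rw [← cancel_mono (F.map ν), ← cancel_mono (F.map i₀), Category.assoc f, hjN, Category.assoc, hj₀, hf,
    ← Functor.map_comp, ← Functor.map_comp, hn, hl]

/-- **Maximal tori of smooth groups are stable under base change.** -/
theorem isMaximalTorus_bc {S S' : Scheme.{u}} (f : S' ⟶ S) {G T : Over S} [GrpObj G] [GrpObj T] [Smooth G.hom]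
    [QuasiCompact G.hom] {i : T ⟶ G} (h : Red.IsMaximalTorus i) :
    Red.IsMaximalTorus ((Over.pullback f).map i) := by
  obtain ⟨hi, him, hT, hmax⟩ := h
  haveI := hi; haveI := him
  refine ⟨inferInstance, inferInstance, Deform.isTorus_bc f hT, fun s' => ?_⟩
  obtain ⟨alg, he⟩ := S16791.exists_geom f s'
  refine (S16791.maxAt_comp i (Red.geomPt s') f).mp ((S16791.maxAt_congr i he).mpr ?_)
  refine (S16791.maxAt_comp i _ (Red.geomPt (f s'))).mpr ?_
  haveI : Smooth (Red.bc (Red.geomPt (f s')) G).hom := inferInstanceAs (Smooth (pullback.snd G.hom _))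
  haveI : QuasiCompact (Red.bc (Red.geomPt (f s')) G).hom := inferInstanceAs (QuasiCompact (pullback.snd G.hom _))
  exact maxAt_bc_smooth (Deform.isTorus_bc _ hT) _ (hmax (f s'))

/-- Maximality of a subtorus descends along surjective morphisms. -/
theorem isMaximalTorus_of_bc {S S' : Scheme.{u}} (f : S' ⟶ S) [Surjective f] {G T : Over S} [GrpObj G] [GrpObj T]
    (i : T ⟶ G) [IsMonHom i] [Mono i] (hT : Red.IsTorus T)
    (h : Red.IsMaximalTorus ((Over.pullback f).map i)) : Red.IsMaximalTorus i := by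
  refine ⟨inferInstance, inferInstance, hT, fun s => ?_⟩
  obtain ⟨s', rfl⟩ := f.surjective s
  obtain ⟨alg, he⟩ := S16791.exists_geom f s'
  have h1 := (S16791.maxAt_congr i he).mp ((S16791.maxAt_comp i (Red.geomPt s') f).mpr (h.2.2.2 s'))
  exact S16791.maxAt_descend _ ((S16791.maxAt_comp i _ (Red.geomPt (f s'))).mp h1)

end Groth.Agent.Deform.Luna
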