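import Groth.Agent.Deform.Luna.MonoClosed
import Groth.Agent.Deform.GreatestTorus

/-!
# Monomorphisms of groups of multiplicative type into separated groups are closed immersions
-/

set_option autoImplicit false
set_option linter.style.haveILetI false

universe u

open CategoryTheory CategoryTheory.Limits MonoidalCategory CartesianMonoidalCategory MonObj GrpObj AlgebraicGeometry

attribute [local instance] CategoryTheory.Hom.monoid CategoryTheory.Hom.group

namespace Groth.Agent.Deform.Luna.MonoClosed

/-- Closed immersions are stable under composing the base change map. -/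
theorem closed_snd_comp {X Y W Z : Scheme.{u}} {f : X ⟶ Y} {a : W ⟶ Y} {e : Z ⟶ W} {c : Z ⟶ Y}
    [IsClosedImmersion (pullback.snd f a)] (hc : c = e ≫ a) : IsClosedImmersion (pullback.snd f c) := by
  subst hc
  have h : IsClosedImmersion (pullback.snd (pullback.snd f a) e) := inferInstance
  rwa [← pullbackLeftPullbackSndIso_hom_snd f a e,
    MorphismProperty.cancel_left_of_respectsIso (P := @IsClosedImmersion)] at h

variable {S : Scheme.{u}} {H G : Over S} [GrpObj H] [GrpObj G] [IsSeparated G.hom] [QuasiCompact G.hom]
  [LocallyOfFiniteType G.hom]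

set_option maxHeartbeats 1000000 in
/-- **A monomorphic homomorphism from a group of multiplicative type to a separated group is a closed immersion.** -/
theorem isClosedImmersion_multType (hH : SGA3x.IsMultTypeFT H) (u : H ⟶ G) [IsMonHom u] [Mono u] :
    IsClosedImmersion u.left := by
  choose W g M iM hg hs hM he using QuasiIsotrivial.exists_etale_split hH
  letI := iM
  haveI := hg
  haveI := hM
  let π : (∐ W) ⟶ S := Sigma.desc g
  haveI : Etale π := IsZariskiLocalAtSource.sigmaDesc (P := @Etale) hg
  haveI : Surjective π := ⟨fun x => by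
    obtain ⟨v, hv⟩ := hs x
    exact ⟨Sigma.ι W x v, by rw [← Scheme.Hom.comp_apply, Sigma.ι_desc]; exact hv⟩⟩
  have hpiece : ∀ s, IsClosedImmersion (pullback.snd u.left (pullback.fst G.hom (g s))) := fun s => by
    obtain ⟨e⟩ := he s
    haveI : IsSeparated (Red.bc (g s) G).hom := inferInstanceAs (IsSeparated (pullback.snd G.hom (g s)))
    haveI : QuasiCompact (Red.bc (g s) G).hom := inferInstanceAs (QuasiCompact (pullback.snd G.hom (g s)))
    haveI : LocallyOfFiniteType (Red.bc (g s) G).hom :=
      inferInstanceAs (LocallyOfFiniteType (pullback.snd G.hom (g s)))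
    let b : Red.bc (g s) H ≅ Red.DS (W s) (M s) := (Grp.forget _).mapIso e
    haveI : IsMonHom b.inv := e.inv.hom.isMonHom_hom
    let m : Red.bc (g s) H ⟶ Red.bc (g s) G := (Over.pullback (g s)).map u
    haveI : IsMonHom m := inferInstanceAs (IsMonHom ((Over.pullback (g s)).map u))
    haveI : Mono m := inferInstanceAs (Mono ((Over.pullback (g s)).map u))
    have h := isClosedImmersion_DS (b.inv ≫ m)
    haveI : IsIso b.inv.left := ((Over.forget _).mapIso b.symm).isIso_hom
    rw [Over.comp_left, MorphismProperty.cancel_left_of_respectsIso (P := @IsClosedImmersion)] at h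
    have sq := GrpSchLib.HomSplitLocal.isPullback_map u (g s)
    have e' : m.left = sq.flip.isoPullback.hom ≫ pullback.fst (pullback.fst G.hom (g s)) u.left :=
      sq.flip.isoPullback_hom_fst.symm
    rw [e', MorphismProperty.cancel_left_of_respectsIso (P := @IsClosedImmersion)] at h
    rw [← pullbackSymmetry_hom_comp_fst, MorphismProperty.cancel_left_of_respectsIso (P := @IsClosedImmersion)]
    exact h
  have hπ : IsClosedImmersion (pullback.snd u.left (pullback.fst G.hom π)) := by
    refine IsZariskiLocalAtTarget.of_openCover (P := @IsClosedImmersion)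
      ((sigmaOpenCover W).pullback₁ (pullback.snd G.hom π)) fun i => ?_
    let ι₀ := pullback.fst (pullback.snd G.hom π) (Sigma.ι W i)
    let e : pullback (pullback.snd G.hom π) (Sigma.ι W i) ⟶ pullback G.hom (g i) :=
      (pullbackLeftPullbackSndIso G.hom π (Sigma.ι W i) ≪≫ pullback.congrHom rfl (Sigma.ι_desc g i)).hom
    have hfac : ι₀ ≫ pullback.fst G.hom π = e ≫ pullback.fst G.hom (g i) := by
      simp only [ι₀, e, Iso.trans_hom, Category.assoc, pullback.congrHom_hom, pullback.lift_fst, Category.comp_id]
      exact (pullbackLeftPullbackSndIso_hom_fst _ _ _).symm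
    show IsClosedImmersion (pullback.snd (pullback.snd u.left (pullback.fst G.hom π)) ι₀)
    rw [← pullbackLeftPullbackSndIso_hom_snd, MorphismProperty.cancel_left_of_respectsIso (P := @IsClosedImmersion)]
    haveI := hpiece i
    exact closed_snd_comp hfac
  haveI : Surjective (pullback.fst G.hom π) := MorphismProperty.pullback_fst (P := @Surjective) _ _ inferInstance
  haveI : Flat (pullback.fst G.hom π) := MorphismProperty.pullback_fst (P := @Flat) _ _ inferInstance
  haveI : LocallyOfFinitePresentation (pullback.fst G.hom π) :=
    MorphismProperty.pullback_fst (P := @LocallyOfFinitePresentation) _ _ inferInstance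
  exact MorphismProperty.of_isPullback_of_descendsAlong (P := @IsClosedImmersion)
    (Q := @Surjective ⊓ @Flat ⊓ @LocallyOfFinitePresentation)
    (IsPullback.of_hasPullback u.left (pullback.fst G.hom π)).flip
    ⟨⟨inferInstance, inferInstance⟩, inferInstance⟩ hπ

end Groth.Agent.Deform.Luna.MonoClosed
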