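import Groth.Agent.Deform.Luna.Chevalley
import Groth.Agent.Deform.Borel.ImageCartan
import Groth.Agent.GrpSchLib.GaPts

/-!
# Torsion-free commutative quotients of reductive groups and self-centralising tori over a field
-/

universe u

open CategoryTheory CategoryTheory.Limits MonoidalCategory CartesianMonoidalCategory MonObj GrpObj AlgebraicGeometry

attribute [local instance] CategoryTheory.Hom.monoid CategoryTheory.Hom.group
set_option linter.style.haveILetI false
set_option linter.unusedSectionVars false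

namespace Groth.Agent.Deform.Luna

open Chev (Pt pimg)
open Agent.GrpSchLib.Kunneth (Fn ev evPt evPt_comp ev_ev)

noncomputable section

variable {k : Type u} [Field k] [IsAlgClosed k]

/-- Homomorphisms from tori into groups without torsion prime to the characteristic are trivial. -/
theorem hom_of_torus_trivial {T H : Over (Spec (CommRingCat.of k))} [GrpObj T] [GrpObj H] (hT : Red.IsTorus T)
    [IsAffine H.left] (hH : ∀ N : ℕ, (N : k) ≠ 0 → ∀ x : Pt H, x ^ N = 1 → x = 1) (φ : T ⟶ H) [IsMonHom φ] :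
    φ = 1 := by
  classical
  refine Agent.GrpSchLib.LineGroups.ext_ev (AlgHom.ext fun f => ?_)
  let g : Fn T := ev φ f - ev (1 : T ⟶ H) f
  obtain ⟨N, t, hN, ht, hsep⟩ := Borel.exists_sep_pt T hT {g}
  refine sub_eq_zero.mp (hsep g (Submodule.subset_span (Finset.mem_singleton_self g)) fun j => ?_)
  have hj : (t ^ j) ≫ φ = 1 := hH N hN _ (by
    rw [show ((t ^ j) ≫ φ) ^ N = ((t ^ j) ^ N) ≫ φ from (map_pow (Borel.ptsMap φ) _ N).symm, ← pow_mul,
      mul_comm, pow_mul, ht, one_pow, MonObj.one_comp])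
  simp only [g, map_sub, evPt_comp, hj, MonObj.comp_one, sub_self]

/-- **A reductive group has no nontrivial homomorphism into a commutative torsion-free group.** -/
theorem hom_reductive_trivial {G H : Over (Spec (CommRingCat.of k))} [GrpObj G] [GrpObj H]
    (hG : Red.IsReductiveOver k G) [IsAffine H.left] [LocallyOfFiniteType H.hom]
    (hcomm : ∀ (X : Over (Spec (CommRingCat.of k))) (a b : X ⟶ H), a * b = b * a)
    (hH : ∀ N : ℕ, (N : k) ≠ 0 → ∀ x : Pt H, x ^ N = 1 → x = 1) (φ : G ⟶ H) [IsMonHom φ] : φ = 1 := by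
  haveI := hG.1; haveI := hG.2.1; haveI := hG.2.2.1
  haveI : IsAffineHom G.hom := isAffineHom_of_isAffine _
  haveI : QuasiCompact G.hom := inferInstance
  haveI : IsAffineHom H.hom := isAffineHom_of_isAffine _
  haveI : QuasiCompact H.hom := inferInstance
  obtain ⟨I, gI, v, j, hv, hj, hvj, hjc, hvf, hvs, hIl, hIq⟩ := Agent.GrpSchLib.ImageFactor.exists_image φ
  haveI := hv; haveI := hj; haveI := hjc; haveI := hvf; haveI := hvs; haveI := hIl; haveI := hIq
  haveI : Mono j := (Over.forget _).mono_of_mono_map (inferInstanceAs (Mono j.left))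
  haveI : IsReduced G.left := GrpSchLib.isReduced_of_smooth_field G.hom
  haveI : IsReduced I.left := FBaseLib.isReduced_of_flat_surjective v.left
  haveI : Smooth I.hom := GrpSchLib.smooth_of_isReduced_of_isAlgClosed I
  haveI : ConnectedSpace I.left := v.left.surjective.connectedSpace v.left.continuous
  obtain ⟨T, gT, i, hu⟩ := Borel.exists_univTorus G
  obtain ⟨him, hic, hT, -⟩ := id hu
  haveI := him; haveI := hic
  haveI : Mono i := (Over.forget _).mono_of_mono_map (inferInstanceAs (Mono i.left))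
  have hi : AGF.IsMaxTorus i := ⟨him, inferInstance, hT, fun T' _ j _ _ f h1 h2 => hu.maximal T' j f h1 h2⟩
  have hiv : i ≫ v = 1 := (cancel_mono j).mp (by
    rw [Category.assoc, hvj, MonObj.one_comp]; exact hom_of_torus_trivial hT hH (i ≫ φ))
  obtain ⟨T₁, gT₁, t₁, p, ht₁, -, -, -, -, -, hZ⟩ := Borel.exists_image_cartan v hi (isCentralizerOf_self hG hi)
  have hcen : Red.IsCentralizerOf t₁ (𝟙 I) := ⟨inferInstance, inferInstance, fun X g =>
    ⟨fun _ X' x h => (cancel_mono j).mp (by simp only [MonObj.mul_comp]; exact hcomm _ _ _),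
      fun _ => ⟨g, Category.comp_id g⟩⟩⟩
  obtain ⟨r, -, hr, -, hrs, -⟩ := hZ I (𝟙 I) hcen
  haveI := hrs
  obtain ⟨hTa, hTl, hTs, hTc⟩ := Deform.TorusBasic.props hT
  haveI := hTs
  haveI := Agent.GrpSchLib.AntiAffine.isSeparated_grp H
  rw [Category.comp_id, hiv] at hr
  refine Borel.comp_inj_pt _ _ fun x => ?_
  obtain ⟨y, hy⟩ := Borel.exists_pt_over r (x ≫ v)
  rw [← hvj, MonObj.comp_one, ← Category.assoc, ← hy, hr, MonObj.comp_one, MonObj.one_comp]

/-- The torus itself is its centraliser over a field if it is so after extending to an algebraic closure. -/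
theorem isCentralizerOf_self_of_bc {k' K : Type u} [Field k'] [Field K]
    (y : Spec (CommRingCat.of K) ⟶ Spec (CommRingCat.of k')) {G T : Over (Spec (CommRingCat.of k'))} [GrpObj G]
    [GrpObj T] [Smooth G.hom] [IsSeparated G.hom] (hT : Red.IsTorus T) {i : T ⟶ G} [IsMonHom i] [Mono i]
    (h : Red.IsCentralizerOf ((Over.pullback y).map i) ((Over.pullback y).map i)) : Red.IsCentralizerOf i i := by
  obtain ⟨hTa, hTl, hTs, hTc⟩ := Deform.TorusBasic.props hT
  haveI := hTa; haveI := hTl
  haveI : IsAffineHom T.hom := isAffineHom_of_isAffine _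
  haveI := Borel.isClosedImmersion_of_mono i
  obtain ⟨C, gC, c, hc, hcc, -⟩ :=
    Deform.exists_centralizer (Deform.isMultType_of_ft (Deform.isMultTypeFT_of_isTorus hT)) i
  obtain ⟨e, he⟩ := Borel.exists_iso_centralizer (Borel.isCentralizerOf_bc y hc) h
  obtain ⟨f, hf⟩ := Borel.exists_lift_of_bc y i c ⟨e.hom, he⟩
  refine ⟨inferInstance, inferInstance, fun X g => ?_⟩
  rw [← hc.2.2 X g]
  refine ⟨fun ⟨z, hz⟩ => ?_, fun ⟨z, hz⟩ => ⟨z ≫ f, by rw [Category.assoc, hf, hz]⟩⟩
  obtain ⟨t₀, ht₀⟩ := (hc.2.2 T i).mpr fun X x h => by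
    rw [← MonObj.mul_comp, ← MonObj.mul_comp,
      Agent.GrpSchLib.MultTypeComm.points_comm (Deform.isMultTypeFT_of_isTorus hT) x h]
  exact ⟨z ≫ t₀, by rw [Category.assoc, ht₀, hz]⟩

end

end Groth.Agent.Deform.Luna
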