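import Groth.Agent.Deform.Luna.CentralBij
import Groth.Agent.S3917
import Groth.Agent.S8429
import Groth.Agent.Deform.Borel.Tori

/-!
# Maximal tori and central isogenies of reductive groups
-/

set_option autoImplicit false
set_option linter.style.haveILetI false

universe u

open CategoryTheory CategoryTheory.Limits MonoidalCategory CartesianMonoidalCategory MonObj GrpObj AlgebraicGeometry

attribute [local instance] CategoryTheory.Hom.monoid CategoryTheory.Hom.group

namespace Groth.Agent.Deform.Luna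

variable {S : Scheme.{u}}

/-- A point with image in the image of a torus commutes with it when the kernel is central. -/
theorem commute_of_image {G G' T T' : Over S} [GrpObj G] [GrpObj G'] [GrpObj T] [GrpObj T'] {u : G ⟶ G'}
    [IsMonHom u] (hker : CentralKer u) (hT : Red.IsTorus T) (i : T ⟶ G) [IsMonHom i] (i' : T' ⟶ G') (v : T ⟶ T')
    [Flat v.left] [Surjective v.left] [LocallyOfFinitePresentation v.left] (e : v ≫ i' = i ≫ u)
    {X : Over S} (x : X ⟶ G) (t : X ⟶ T') (hx : x ≫ u = t ≫ i') (s : X ⟶ T) : x * (s ≫ i) = (s ≫ i) * x := by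
  let Z : Over S := Over.mk (pullback.fst t.left v.left ≫ X.hom)
  let q : Z ⟶ X := Over.homMk (pullback.fst t.left v.left) rfl
  let r : Z ⟶ T := Over.homMk (pullback.snd t.left v.left) (by
    show pullback.snd t.left v.left ≫ T.hom = pullback.fst t.left v.left ≫ X.hom
    rw [← Over.w v, ← reassoc_of% (pullback.condition (f := t.left) (g := v.left)), ← Over.w t])
  have hq : q ≫ t = r ≫ v := Over.OverMorphism.ext (pullback.condition (f := t.left) (g := v.left))
  haveI : Flat (pullback.fst t.left v.left) := MorphismProperty.pullback_fst (P := @Flat) _ _ ‹_›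
  haveI : Surjective (pullback.fst t.left v.left) := MorphismProperty.pullback_fst (P := @Surjective) _ _ ‹_›
  haveI : LocallyOfFinitePresentation (pullback.fst t.left v.left) :=
    MorphismProperty.pullback_fst (P := @LocallyOfFinitePresentation) _ _ ‹_›
  haveI : Epi q := (FpqcDescLib.covers_of_isCovering (p := q.left)
    (FpqcDescLib.isCovering_of_lfp (pullback.fst t.left v.left))).over_epi
  let z : Z ⟶ G := (q ≫ x) * (r ≫ i)⁻¹
  have hz : z ≫ u = 1 := by
    have h : (q ≫ x) ≫ u = (r ≫ i) ≫ u := by rw [Category.assoc, hx, Category.assoc, ← e, reassoc_of% hq]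
    rw [MonObj.mul_comp, GrpObj.inv_comp, h, mul_inv_cancel]
  have hxz : q ≫ x = z * (r ≫ i) := by simp [z]
  have hrs : (r ≫ i) * (q ≫ s ≫ i) = (q ≫ s ≫ i) * (r ≫ i) := by
    rw [← Category.assoc q, ← MonObj.mul_comp, ← MonObj.mul_comp,
      GrpSchLib.MultTypeComm.points_comm (Deform.isMultTypeFT_of_isTorus hT) r (q ≫ s)]
  rw [← cancel_epi q, MonObj.comp_mul, MonObj.comp_mul, hxz, _root_.mul_assoc, hrs, ← _root_.mul_assoc,
    hker Z z hz (q ≫ s ≫ i), _root_.mul_assoc]

theorem centralKer_of_kernel {H' H K : Over S} [GrpObj H'] [GrpObj H] [GrpObj K] {f : H' ⟶ H} {iK : K ⟶ H'}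
    (hK : AlgGrp.IsKernel iK f) (hKc : ∀ (X : Over S) (x : X ⟶ K) (X' : Over S) (y : X' ⟶ X) (h : X' ⟶ H'),
      (y ≫ x ≫ iK) * h = h * (y ≫ x ≫ iK)) : CentralKer f := fun X z hz g => by
  have h := hKc X (hK.lift z (toUnit X) hz) X (𝟙 X) g
  simpa only [Category.id_comp, hK.lift_fst] using h

variable {k : Type u} [Field k]

/-- A reductive group over a field has a maximal torus locally for the fpqc topology. -/
theorem hasMaxTorus_of_isReductive {H : Over (Spec (CommRingCat.of k))} [GrpObj H] (hH : Red.IsReductive H) :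
    SGA3x.HasMaxTorusFpqcLocally H := by
  let s₀ : ↥(Spec (CommRingCat.of k)) := IsLocalRing.closedPoint k
  let β := Red.geomPt s₀
  obtain ⟨ha, hs, hc, -⟩ := hH.2.2 s₀
  haveI : IsAffine (Red.geomFibre s₀ H).left := ha
  haveI : Smooth (Red.geomFibre s₀ H).hom := hs
  haveI : ConnectedSpace (Red.geomFibre s₀ H).left := hc
  haveI : IsAffineHom (Red.geomFibre s₀ H).hom := isAffineHom_of_isAffine _
  haveI : QuasiCompact (Red.geomFibre s₀ H).hom := inferInstance
  obtain ⟨T, iT, i, hi⟩ := Borel.exists_univTorus (Red.geomFibre s₀ H)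
  haveI := hi.1; haveI : IsClosedImmersion i.left := hi.2.1
  haveI : Mono i := (Over.forget _).mono_of_mono_map (inferInstanceAs (Mono i.left))
  haveI : Flat β := by
    haveI : IsClosedImmersion ((Spec (CommRingCat.of k)).fromSpecResidueField s₀) :=
      .of_isPreimmersion _ (by
        rw [Scheme.range_fromSpecResidueField]
        convert isClosed_univ (X := ↥(Spec (CommRingCat.of k)))
        exact Set.eq_univ_of_forall fun z => Subsingleton.elim (α := PrimeSpectrum k) z s₀)
    haveI : Surjective ((Spec (CommRingCat.of k)).fromSpecResidueField s₀) :=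
      ⟨fun y => ⟨(IsLocalRing.closedPoint _ : PrimeSpectrum ((Spec (CommRingCat.of k)).residueField s₀)),
        Subsingleton.elim (α := PrimeSpectrum k) _ _⟩⟩
    haveI := isIso_of_isClosedImmersion_of_surjective ((Spec (CommRingCat.of k)).fromSpecResidueField s₀)
    haveI : Flat (Spec.map (CommRingCat.ofHom (algebraMap ((Spec (CommRingCat.of k)).residueField s₀)
        (AlgebraicClosure ((Spec (CommRingCat.of k)).residueField s₀))))) := by
      rw [HasRingHomProperty.Spec_iff (P := @Flat)]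
      exact RingHom.Flat.of_isField (Field.toIsField _) _
    exact inferInstanceAs (Flat (_ ≫ _))
  haveI : Surjective β := ⟨fun x => ⟨IsLocalRing.closedPoint _, Subsingleton.elim (α := PrimeSpectrum k) _ _⟩⟩
  refine ⟨_, β, inferInstance, inferInstance, fun V hV => ⟨β ⁻¹ᵁ V, (hV.preimage β).isCompact, ?_⟩, T, iT, i,
    Borel.isMaximalTorus_of_isMaxTorus ⟨hi.1, inferInstance, hi.2.2.1,
      fun T' _ j _ _ g h1 h2 => hi.maximal T' j g h1 h2⟩⟩
  exact Set.image_preimage_eq _ β.surjective

/-- Points above a maximal torus lie in the maximal torus upstairs. -/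
theorem exists_lift_of_image {H' H T' T : Over (Spec (CommRingCat.of k))} [GrpObj H'] [GrpObj H] [GrpObj T']
    [GrpObj T] (hH' : Red.IsReductive H') {f : H' ⟶ H} [IsMonHom f] (hker : CentralKer f) {j : T' ⟶ H'}
    (hj : Red.IsMaximalTorus j) (hT : Red.IsTorus T) (i : T ⟶ H) [IsMonHom i] [Mono i] (v : T' ⟶ T)
    [Surjective v.left] (e : v ≫ i = j ≫ f) {X : Over (Spec (CommRingCat.of k))} (x : X ⟶ H') (t : X ⟶ T)
    (hx : x ≫ f = t ≫ i) : ∃ s : X ⟶ T', s ≫ j = x ∧ s ≫ v = t := by
  haveI := hj.1; haveI := hj.2.1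
  haveI : IsMonHom v := Deform.isMonHom_of_comp v i (i := j ≫ f) e
  obtain ⟨hvf, hvp⟩ := flat_of_surjective_torus hj.2.2.1 hT v
  haveI := hvf; haveI := hvp
  obtain ⟨-, -, hu⟩ := (S3917.result k H' hH' T' j hj.2.2.1).mp hj
  obtain ⟨s, hs⟩ := (hu X x).mpr fun Y y w =>
    commute_of_image hker hj.2.2.1 j i v e (y ≫ x) (y ≫ t) (by rw [Category.assoc, hx, Category.assoc]) w
  exact ⟨s, hs, by rw [← cancel_mono i, Category.assoc, e, ← Category.assoc, hs, hx]⟩

end Groth.Agent.Deform.Luna

namespace Groth.Agent.Deform.Luna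

/-- A subgroup isomorphic over the group to a maximal torus is one. -/
theorem isMaximalTorus_of_iso {S : Scheme.{u}} {G T T₁ : Over S} [GrpObj G] [GrpObj T] [GrpObj T₁]
    (a : Grp.mk T ≅ Grp.mk T₁) (i : T ⟶ G) [IsMonHom i] [Mono i] {j : T₁ ⟶ G} (e : a.hom.hom.hom ≫ j = i)
    (h : Red.IsMaximalTorus j) : Red.IsMaximalTorus i := by
  let b : T ≅ T₁ := (Grp.forget _).mapIso a
  refine ⟨inferInstance, inferInstance, ?_, fun s T'' _ q _ _ f hT'' hf => ?_⟩
  · obtain ⟨c⟩ := GrpSchLib.MultTypeBC.bc_iso (𝟙 S) a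
    refine isTorus_of_covering (𝟙 S) (FpqcDescLib.isCovering_of_quasiCompact _) (T₁ := Red.bc (𝟙 S) T₁) c ?_
    exact Deform.isTorus_bc _ h.2.2.1
  · haveI : IsIso ((Over.pullback (Red.geomPt s)).map b.inv ≫ f) := h.2.2.2 s T'' q _ hT'' (by
      rw [Category.assoc, hf, ← Functor.map_comp, show i = b.hom ≫ j from e.symm, Iso.inv_hom_id_assoc])
    exact IsIso.of_isIso_comp_left ((Over.pullback (Red.geomPt s)).map b.inv) f

end Groth.Agent.Deform.Luna
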