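import Groth.Agent.Deform.Luna.RepVec
import Groth.Agent.Deform.Borel.TorusSep
import Mathlib.Algebra.Polynomial.Roots

/-!
# A one-parameter subgroup separating the weights of a representation
-/

universe u

open CategoryTheory CategoryTheory.Limits MonoidalCategory CartesianMonoidalCategory MonObj GrpObj AlgebraicGeometry
open WithConv Matrix

attribute [local instance] CategoryTheory.Hom.monoid CategoryTheory.Hom.group
set_option linter.style.haveILetI false
set_option linter.unusedSectionVars false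

namespace Groth.Agent.Deform.Luna

open Chev (Pt pimg)
open Borel (matPtOf)
open Agent.GrpSchLib.Kunneth (Fn ev evPt evPt_comp ev_ev IsRepMatrix)
open Agent.GrpSchLib.AffineHopf (sp spMap)

noncomputable section

variable {k : Type u} [Field k] [IsAlgClosed k]

/-- A linear form separating finitely many lattice points. -/
theorem exists_sep_int {r : ℕ} (S : Finset (Fin r → ℤ)) :
    ∃ E : (Fin r → ℤ) →+ ℤ, ∀ a ∈ S, ∀ b ∈ S, E a = E b → a = b := by
  classical
  let D : Finset (Fin r → ℤ) := ((S ×ˢ S).image fun p => p.1 - p.2).filter (· ≠ 0)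
  let P : (Fin r → ℤ) → Polynomial ℤ := fun d => ∑ i : Fin r, Polynomial.C (d i) * Polynomial.X ^ (i : ℕ)
  have hP : ∀ d ∈ D, P d ≠ 0 := fun d hd h => by
    refine (Finset.mem_filter.mp hd).2 (funext fun i => ?_)
    have := congrArg (fun f => Polynomial.coeff f (i : ℕ)) h
    simpa [P, Polynomial.finset_sum_coeff, Fin.val_inj] using this
  obtain ⟨N, hN⟩ := Infinite.exists_notMem_finset (D.biUnion fun d => (P d).roots.toFinset)
  refine ⟨AddMonoidHom.mk' (fun a => (P a).eval N) fun a b => by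
    simp [P, Polynomial.eval_finset_sum, add_mul, Finset.sum_add_distrib], fun a ha b hb h => by_contra fun hne => ?_⟩
  have hd : a - b ∈ D := Finset.mem_filter.mpr
    ⟨Finset.mem_image.mpr ⟨(a, b), Finset.mem_product.mpr ⟨ha, hb⟩, rfl⟩, sub_ne_zero.mpr hne⟩
  refine hN (Finset.mem_biUnion.mpr ⟨a - b, hd, Multiset.mem_toFinset.mpr ((Polynomial.mem_roots (hP _ hd)).mpr ?_)⟩)
  show (P (a - b)).eval N = 0
  change (P a).eval N = (P b).eval N at h
  simp only [P, Polynomial.eval_finset_sum, Pi.sub_apply, map_sub, sub_mul, Finset.sum_sub_distrib,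
    Polynomial.eval_sub] at h ⊢
  rw [h, sub_self]

set_option maxHeartbeats 1000000 in
/-- Finitely many functions on a torus as sums of characters separated by a one-parameter subgroup. -/
theorem exists_curve {J : Type*} [Fintype J] (T : Over (Spec (CommRingCat.of k))) [GrpObj T] (hT : Red.IsTorus T)
    (F : J → Fn T) :
    ∃ (D : Finset ℤ) (χ : ℤ → Pt T → k) (a : J → ℤ → k) (lam : kˣ → Pt T),
      (∀ p t, evPt t (F p) = ∑ d ∈ D, a p d * χ d t) ∧ (∀ d t t', χ d (t * t') = χ d t * χ d t') ∧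
      ∀ d ∈ D, ∀ s : kˣ, χ d (lam s) = (s : k) ^ d := by
  classical
  obtain ⟨hTa, hTl, hTs, hTc⟩ := Deform.TorusBasic.props hT
  haveI := hTa; haveI := hTl; haveI := hTs; haveI := hTc
  obtain ⟨M, _, hfg, ⟨eT⟩⟩ := Deform.exists_diag T (Deform.isMultTypeFT_of_isTorus hT)
  haveI := hfg
  let b : sp k (MonoidAlgebra k M) ≅ T := (Grp.forget _).mapIso eT
  haveI : IsMonHom b.hom := eT.hom.hom.isMonHom_hom
  haveI : IsMonHom b.inv := eT.inv.hom.isMonHom_hom
  haveI : IsIntegral T.left := Agent.GrpSchLib.Kunneth.isIntegral_grp T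
  haveI : IsIntegral (Spec (CommRingCat.of (MonoidAlgebra k M))) := by
    haveI : Nonempty ↥(Spec (CommRingCat.of (MonoidAlgebra k M))) := ⟨b.inv.left (Classical.arbitrary _)⟩
    haveI : IsOpenImmersion b.hom.left :=
      @IsOpenImmersion.of_isIso _ _ _ ((Over.forget _).mapIso b).isIso_hom
    exact @isIntegral_of_isOpenImmersion _ _ b.hom.left this _ ‹_›
  haveI : IsDomain (MonoidAlgebra k M) := (affine_isIntegral_iff (CommRingCat.of _)).mp inferInstance
  obtain ⟨r, ⟨c⟩⟩ := Borel.exists_sep_pt.exists_lattice (k := k) M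
  let toA : Fn T → MonoidAlgebra k M := fun f =>
    (Scheme.ΓSpecIso (CommRingCat.of (MonoidAlgebra k M))).hom (b.hom.left.appTop f)
  let e1 : 𝟙_ (Over (Spec (CommRingCat.of k))) ≅ sp k k := Over.isoMk (Iso.refl _) (by
    show 𝟙 _ ≫ Spec.map (CommRingCat.ofHom (algebraMap k k)) = 𝟙 _
    rw [Category.id_comp, Algebra.algebraMap_self]
    exact Spec.map_id _)
  let Θ : WithConv (MonoidAlgebra k M →ₐ[k] k) →* Pt T :=
    { toFun := fun v => e1.hom ≫ spMap v.ofConv ≫ b.hom
      map_one' := by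
        rw [show spMap (1 : WithConv (MonoidAlgebra k M →ₐ[k] k)).ofConv =
          (1 : sp k k ⟶ sp k (MonoidAlgebra k M)) from map_one Spec.mapMulEquiv, MonObj.one_comp, MonObj.comp_one]
      map_mul' := fun u v => by
        rw [show spMap (u * v).ofConv = spMap u.ofConv * spMap v.ofConv from map_mul Spec.mapMulEquiv u v,
          MonObj.mul_comp, MonObj.comp_mul] }
  have hΘs : Function.Surjective Θ := fun p => by
    obtain ⟨f, hf⟩ := Agent.GrpSchLib.AffineHopf.exists_eq_spMap (e1.inv ≫ p ≫ b.inv)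
    exact ⟨toConv f, by show e1.hom ≫ spMap f ≫ b.hom = p; rw [← hf]; simp⟩
  have hev : ∀ (v : WithConv (MonoidAlgebra k M →ₐ[k] k)) (f : Fn T), evPt (Θ v) f = v.ofConv (toA f) := by
    intro v f
    show (Scheme.ΓSpecIso (CommRingCat.of k)).hom ((Spec.map (CommRingCat.ofHom v.ofConv.toRingHom)).appTop
      (b.hom.left.appTop f)) = _
    rw [← CommRingCat.comp_apply, Scheme.ΓSpecIso_naturality]
    rfl
  let em : M → Fn T := fun m => ev b.inv (Agent.GrpSchLib.LineVec.toFn (k := k) (A := MonoidAlgebra k M)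
    (MonoidAlgebra.single m 1))
  have hem : ∀ m v, evPt (Θ v) (em m) = v.ofConv (MonoidAlgebra.single m 1) := fun m v => by
    rw [hev]
    congr 1
    show (Scheme.ΓSpecIso (CommRingCat.of (MonoidAlgebra k M))).hom (ev b.hom (ev b.inv _)) = _
    rw [ev_ev, b.hom_inv_id, Agent.GrpSchLib.Kunneth.ev_id]
    exact ConcreteCategory.congr_hom (Scheme.ΓSpecIso (CommRingCat.of (MonoidAlgebra k M))).inv_hom_id _
  let S : Finset M := Finset.univ.biUnion fun p => (toA (F p)).coeff.support
  obtain ⟨E, hE⟩ := exists_sep_int (S.image fun m => Multiplicative.toAdd (c m))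
  let d : M → ℤ := fun m => E (Multiplicative.toAdd (c m))
  have hd : ∀ m ∈ S, ∀ m' ∈ S, d m = d m' → m = m' := fun m hm m' hm' h => c.injective
    (Multiplicative.toAdd.injective (hE _ (Finset.mem_image_of_mem _ hm) _ (Finset.mem_image_of_mem _ hm') h))
  let mOf : ℤ → M := fun z => if h : ∃ m ∈ S, d m = z then h.choose else 1
  have hmOf : ∀ m ∈ S, mOf (d m) = m := fun m hm => by
    have h : ∃ m' ∈ S, d m' = d m := ⟨m, hm, rfl⟩
    simp only [mOf, dif_pos h]
    exact hd _ h.choose_spec.1 _ hm h.choose_spec.2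
  let ch : kˣ → (M →* k) := fun s =>
    { toFun := fun m => ((s ^ d m : kˣ) : k)
      map_one' := by simp [d]
      map_mul' := fun m m' => by simp [d, _root_.zpow_add] }
  refine ⟨S.image d, fun z t => evPt t (em (mOf z)), fun p z => (toA (F p)).coeff (mOf z),
    fun s => Θ (toConv (MonoidAlgebra.lift k k M (ch s))), fun p t => ?_, fun z t t' => ?_, fun z hz s => ?_⟩
  · obtain ⟨v, rfl⟩ := hΘs t
    rw [Finset.sum_image (fun m hm m' hm' h => hd m hm m' hm' h)]
    rw [Finset.sum_congr rfl (g := fun m => (toA (F p)).coeff m * v.ofConv (MonoidAlgebra.single m 1))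
      fun m hm => by dsimp only; rw [hem, hmOf m hm]]
    rw [hev]
    conv_lhs => rw [← (toA (F p)).sum_coeff_single]
    rw [map_finsuppSum, Finsupp.sum_of_support_subset _ (Finset.subset_biUnion_of_mem
      (fun p => (toA (F p)).coeff.support) (Finset.mem_univ p)) _ (fun m _ => by simp)]
    exact Finset.sum_congr rfl fun m _ => by
      rw [show MonoidAlgebra.single m ((toA (F p)).coeff m) = (toA (F p)).coeff m • MonoidAlgebra.single m (1 : k) by simp,
        map_smul, smul_eq_mul]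
  · obtain ⟨v, rfl⟩ := hΘs t
    obtain ⟨v', rfl⟩ := hΘs t'
    show evPt (Θ v * Θ v') _ = evPt (Θ v) _ * evPt (Θ v') _
    rw [← map_mul, hem, hem, hem, AlgHom.convMul_apply, MonoidAlgebra.comul_single]
    simp only [CommSemiring.comul_apply, TensorProduct.map_tmul, MonoidAlgebra.lsingle_apply]
    simp
  · obtain ⟨m, hm, rfl⟩ := Finset.mem_image.mp hz
    dsimp only
    rw [hmOf m hm, hem]
    simp [ch]

/-- Finitely many vanishing combinations of powers have vanishing coefficients. -/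
theorem coeff_eq_zero {D : Finset ℤ} {a : ℤ → k} (h : ∀ s : kˣ, ∑ d ∈ D, (s : k) ^ d * a d = 0) :
    ∀ d ∈ D, a d = 0 := by
  classical
  obtain ⟨N, hN⟩ : ∃ N : ℕ, ∀ d ∈ D, 0 ≤ d + N := ⟨D.sup fun d => d.natAbs, fun d hd => by
    have := Finset.le_sup (f := fun d : ℤ => d.natAbs) hd
    omega⟩
  let p : Polynomial k := ∑ d ∈ D, Polynomial.C (a d) * Polynomial.X ^ (d + N).toNat
  have hp : p = 0 := Polynomial.eq_zero_of_infinite_isRoot p ((Set.finite_singleton (0 : k)).infinite_compl.mono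
    fun x (hx : x ≠ 0) => by
      obtain ⟨s, rfl⟩ : ∃ s : kˣ, (s : k) = x := ⟨Units.mk0 x hx, rfl⟩
      show p.eval (s : k) = 0
      have h1 := congrArg ((s : k) ^ (N : ℤ) * ·) (h s)
      simp only [MulZeroClass.mul_zero, Finset.mul_sum] at h1
      rw [← h1, Polynomial.eval_finset_sum]
      refine Finset.sum_congr rfl fun d hd => ?_
      rw [Polynomial.eval_mul, Polynomial.eval_C, Polynomial.eval_pow, Polynomial.eval_X, ← zpow_natCast,
        Int.toNat_of_nonneg (hN d hd), zpow_add₀ s.ne_zero]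
      ring)
  intro d hd
  have := congrArg (fun q => Polynomial.coeff q (d + N).toNat) hp
  simp only [p, Polynomial.finset_sum_coeff, Polynomial.coeff_C_mul, Polynomial.coeff_X_pow, mul_ite, _root_.mul_one,
    MulZeroClass.mul_zero, Polynomial.coeff_zero] at this
  rwa [Finset.sum_eq_single d (fun e he hne => if_neg fun heq => hne (by
      have := hN e he; have := hN d hd; omega)) (fun h => absurd hd h), if_pos rfl] at this

/-- The weight decomposition of a representation along a torus, separated by a one-parameter subgroup. -/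
theorem exists_weights {G T : Over (Spec (CommRingCat.of k))} [GrpObj G] [GrpObj T] (hT : Red.IsTorus T) (i : T ⟶ G)
    [IsMonHom i] {n : ℕ} {M : Matrix (Fin (n + 1)) (Fin (n + 1)) (Fn G)} (hM : IsRepMatrix M) :
    ∃ (D : Finset ℤ) (P : ℤ → Matrix (Fin (n + 1)) (Fin (n + 1)) k) (χ : ℤ → Pt T → k) (lam : kˣ → Pt T),
      (∀ t, matPtOf M (t ≫ i) = ∑ d ∈ D, χ d t • P d) ∧
      (∀ s : kˣ, matPtOf M (lam s ≫ i) = ∑ d ∈ D, ((s : k) ^ d) • P d) ∧
      (∀ d ∈ D, ∀ t, matPtOf M (t ≫ i) * P d = χ d t • P d ∧ P d * matPtOf M (t ≫ i) = χ d t • P d) ∧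
      (∀ d ∈ D, ∀ e ∈ D, d ≠ e → P d * P e = 0) := by
  classical
  obtain ⟨D, χ, a, lam, hF, hχ, hlam⟩ :=
    exists_curve T hT (fun p : Fin (n + 1) × Fin (n + 1) => ev i (M p.1 p.2))
  let P : ℤ → Matrix (Fin (n + 1)) (Fin (n + 1)) k := fun d => Matrix.of fun x y => a (x, y) d
  have hA : ∀ t, matPtOf M (t ≫ i) = ∑ d ∈ D, χ d t • P d := fun t => by
    ext x y
    rw [Matrix.sum_apply]
    show evPt (t ≫ i) (M x y) = _
    rw [← evPt_comp]
    exact (hF (x, y) t).trans (Finset.sum_congr rfl fun d _ => mul_comm _ _)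
  have hAs : ∀ s : kˣ, matPtOf M (lam s ≫ i) = ∑ d ∈ D, ((s : k) ^ d) • P d := fun s => by
    rw [hA]; exact Finset.sum_congr rfl fun d hd => by rw [hlam d hd]
  have hzero : ∀ R : ℤ → Matrix (Fin (n + 1)) (Fin (n + 1)) k,
      (∀ s : kˣ, ∑ d ∈ D, ((s : k) ^ d) • R d = 0) → ∀ d ∈ D, R d = 0 := fun R h d hd => by
    ext x y
    refine coeff_eq_zero (a := fun d => R d x y) (fun s => ?_) d hd
    have := congrFun (congrFun (h s) x) y
    simpa [Matrix.sum_apply] using this
  have key : ∀ t s, matPtOf M ((t * lam s) ≫ i) = ∑ d ∈ D, ((s : k) ^ d) • χ d t • P d := fun t s => by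
    rw [hA]; exact Finset.sum_congr rfl fun d hd => by rw [hχ, hlam d hd, smul_smul, mul_comm]
  have key' : ∀ t s, matPtOf M ((lam s * t) ≫ i) = ∑ d ∈ D, ((s : k) ^ d) • χ d t • P d := fun t s => by
    rw [hA]; exact Finset.sum_congr rfl fun d hd => by rw [hχ, hlam d hd, smul_smul]
  have h1 : ∀ d ∈ D, ∀ t, matPtOf M (t ≫ i) * P d = χ d t • P d := fun d hd t => sub_eq_zero.mp
    (hzero (fun d => matPtOf M (t ≫ i) * P d - χ d t • P d) (fun s => by
      simp only [smul_sub, Finset.sum_sub_distrib, ← Matrix.mul_smul, ← Matrix.mul_sum, ← hAs, ← key]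
      rw [MonObj.mul_comp, Borel.matPtOf_mul hM, sub_self]) d hd)
  have h2 : ∀ d ∈ D, ∀ t, P d * matPtOf M (t ≫ i) = χ d t • P d := fun d hd t => sub_eq_zero.mp
    (hzero (fun d => P d * matPtOf M (t ≫ i) - χ d t • P d) (fun s => by
      simp only [smul_sub, Finset.sum_sub_distrib, ← Matrix.smul_mul, ← Matrix.sum_mul, ← hAs, ← key']
      rw [MonObj.mul_comp, Borel.matPtOf_mul hM, sub_self]) d hd)
  refine ⟨D, P, χ, lam, hA, hAs, fun d hd t => ⟨h1 d hd t, h2 d hd t⟩, fun d hd e he hne => ?_⟩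
  have h3 : ∀ s : kˣ, ∑ c ∈ D, ((s : k) ^ c) • (P c * P e - if c = e then P e else 0) = 0 := fun s => by
    simp only [smul_sub, Finset.sum_sub_distrib, smul_ite, smul_zero, Finset.sum_ite_eq', if_pos he,
      ← Matrix.smul_mul, ← Matrix.sum_mul, ← hAs, h1 e he, hlam e he, sub_self]
  have := hzero _ h3 d hd
  rwa [if_neg hne, sub_zero] at this

end

end Groth.Agent.Deform.Luna
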