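import Groth.Agent.Deform.Luna.RepVec

/-!
# Limits in closed orbits and fixed points in closed stable subsets of a group
-/

universe u

open CategoryTheory CategoryTheory.Limits MonoidalCategory CartesianMonoidalCategory MonObj GrpObj AlgebraicGeometry
open Matrix

attribute [local instance] CategoryTheory.Hom.monoid CategoryTheory.Hom.group
set_option linter.style.haveILetI false
set_option linter.unusedSectionVars false

namespace Groth.Agent.Deform.Luna

open Chev (Pt pimg pimg_comp)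
open Borel (HasCrd matPtOf ClosedImg stable_of_reduced exists_pointScheme left_comp pt_orbitMap κ U ucrd uΓ)
open Agent.GrpSchLib (act_mul act_one)
open Agent.GrpSchLib.Kunneth (Fn ev evPt evPt_comp ev_ev IsRepMatrix)
open Agent.GrpSchLib.ProjLine (Pn)

noncomputable section

variable {k : Type u} [Field k] [IsAlgClosed k] {G : Over (Spec (CommRingCat.of k))} [GrpObj G]

/-- An invariant map of a group with closed images has closed range. -/
theorem isClosed_range_of_closedImg [Smooth G.hom] {H A : Over (Spec (CommRingCat.of k))} {i : H ⟶ G}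
    (hi : ClosedImg i) [IsSeparated A.hom] (ψ : G ⟶ A)
    (hψ : ∀ {T : Over (Spec (CommRingCat.of k))} (g : T ⟶ G) (h : T ⟶ H), (g * (h ≫ i)) ≫ ψ = g ≫ ψ) :
    IsClosed (Set.range ψ.left) := by
  let γ' : G ⟶ G ⊗ A := lift (𝟙 G) ψ
  haveI : IsClosedImmersion γ'.left := by
    haveI : IsClosedImmersion (γ'.left ≫ (fst G A).left) := by
      rw [← Over.comp_left, lift_fst]; exact inferInstanceAs (IsClosedImmersion (𝟙 G.left))
    haveI : IsSeparated (fst G A).left := inferInstanceAs (IsSeparated (pullback.fst G.hom A.hom))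
    exact IsClosedImmersion.of_comp γ'.left (fst G A).left
  have e : Set.range ψ.left = (snd G A).left '' Set.range γ'.left := by
    rw [← Set.range_comp]
    refine congrArg Set.range (funext fun z => ?_)
    show ψ.left z = (snd G A).left (γ'.left z)
    rw [← left_comp, lift_snd]
  rw [e]
  refine hi A _ γ'.left.isClosedEmbedding.isClosed_range (stable_of_reduced fun T _ g u x t ht => ?_)
  obtain ⟨T', hT', r, ⟨s⟩, hr⟩ := exists_pointScheme T t
  haveI := hT'
  obtain ⟨v, hv⟩ := Chev.exists_lift_range γ' (r ≫ lift g x) (by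
    rintro _ ⟨s', rfl⟩; rw [left_comp, hr]; exact ht)
  have h1 := congrArg (· ≫ fst G A) hv
  have h2 := congrArg (· ≫ snd G A) hv
  simp only [γ', Category.assoc, lift_fst, lift_snd, Category.comp_id] at h1 h2
  refine ⟨(r ≫ (g * (u ≫ i))).left s, ?_⟩
  have e2 : (r ≫ (g * (u ≫ i))) ≫ γ' = r ≫ lift (g * (u ≫ i)) x := by
    apply CartesianMonoidalCategory.hom_ext
    · simp [γ']
    · simp only [γ', Category.assoc, lift_snd]
      rw [MonObj.comp_mul_assoc, ← Category.assoc r u, hψ, ← h2, h1, Category.assoc]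
  rw [← left_comp, e2, left_comp, hr]

/-- The orbit map at a point fixed by a subgroup is invariant under it. -/
theorem orbitMap_invariant {X H : Over (Spec (CommRingCat.of k))} [GrpObj H] [Smooth H.hom] [IsSeparated X.hom]
    (a : AlgGrp.Action G X) (x : Pt X) {i : H ⟶ G} (hx : ∀ h : Pt H, lift (h ≫ i) x ≫ a.act = x)
    {T : Over (Spec (CommRingCat.of k))} (g : T ⟶ G) (h : T ⟶ H) :
    (g * (h ≫ i)) ≫ a.orbitMap x = g ≫ a.orbitMap x := by
  have h1 : i ≫ a.orbitMap x = toUnit H ≫ x := Chev.SemiAbExt.ext_points _ _ fun w => by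
    rw [← Category.assoc, pt_orbitMap, hx, ← Category.assoc, toUnit_unique (w ≫ toUnit H) (𝟙 _), Category.id_comp]
  have e : ∀ g : T ⟶ G, g ≫ a.orbitMap x = lift g (toUnit T ≫ x) ≫ a.act := fun g => by
    show g ≫ lift (𝟙 G) (toUnit G ≫ x) ≫ a.act = _
    rw [← Category.assoc, comp_lift, Category.comp_id, ← Category.assoc, comp_toUnit]
  have h2 : lift (h ≫ i) (toUnit T ≫ x) ≫ a.act = toUnit T ≫ x := by
    rw [← e, Category.assoc, h1, ← Category.assoc, comp_toUnit]
  rw [e, e, ← act_mul, h2]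

/-- The point of a chart with given coordinates. -/
theorem exists_chart_pt {n : ℕ} (i : Fin (n + 1)) (w : Fin (n + 1) → k) (hw : w i = 1) :
    ∃ q : Pt (U k n i), HasCrd (q ≫ κ i) w ∧
      ∀ P : MvPolynomial (Fin (n + 1)) k, evPt q (uΓ i (ZetaLib.dehom n k i P)) = MvPolynomial.eval w P := by
  let q : Pt (U k n i) := Over.homMk (Spec.map (CommRingCat.ofHom (ZetaLib.evalAt (K := k) i w hw))) (by
    show Spec.map _ ≫ Spec.map _ = 𝟙 _
    rw [← Spec.map_comp, ← CommRingCat.ofHom_comp, ZetaLib.evalAt_base]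
    simp)
  have hq : ∀ a, evPt q (uΓ i a) = ZetaLib.evalAt (K := k) i w hw a := fun a => by
    show (Scheme.ΓSpecIso (CommRingCat.of k)).hom ((Spec.map _).appTop ((Scheme.ΓSpecIso (CommRingCat.of (HomogeneousLocalization.Away (CohB1.polyGrading n k) (MvPolynomial.X i)))).inv a)) = _
    rw [← CommRingCat.comp_apply (Spec.map _).appTop, Scheme.ΓSpecIso_naturality, CommRingCat.comp_apply]
    simp [← CommRingCat.comp_apply]
  refine ⟨q, ?_, fun P => ?_⟩
  · have h := Borel.hasCrd_comp_κ i q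
    convert h using 1
    funext l
    show w l = evPt q (uΓ i (ProjPt.crd i l))
    rw [hq]
    exact (ZetaLib.evalAt_coord i w hw l).symm
  · rw [hq]
    refine RingHom.congr_fun (f := (ZetaLib.evalAt (K := k) i w hw).comp (ZetaLib.dehom n k i))
      (g := MvPolynomial.eval w) (MvPolynomial.ringHom_ext (fun c => ?_) fun l => ?_) P
    · simp only [RingHom.comp_apply, ZetaLib.dehom, MvPolynomial.eval₂Hom_C, MvPolynomial.eval_C]
      exact RingHom.congr_fun (ZetaLib.evalAt_base i w hw) c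
    · simp only [RingHom.comp_apply, ZetaLib.dehom, MvPolynomial.eval₂Hom_X', MvPolynomial.eval_X]
      exact ZetaLib.evalAt_coord i w hw l

variable [IsAffine G.left] [Smooth G.hom] [ConnectedSpace G.left]

set_option maxHeartbeats 1000000 in
/-- **The limit of a polynomial curve in a closed orbit lies in the orbit.** -/
theorem degen {B : Over (Spec (CommRingCat.of k))} [GrpObj B] [Smooth B.hom] {iB : B ⟶ G} (hB : ClosedImg iB)
    {n : ℕ} {M : Matrix (Fin (n + 1)) (Fin (n + 1)) (Fn G)} (hM : IsRepMatrix M) {v : Fin (n + 1) → k} (hv : v ≠ 0)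
    (hstab : ∀ b : Pt B, ∃ c : k, matPtOf M (b ≫ iB) *ᵥ v = c • v)
    (p : Fin (n + 1) → Polynomial k) (hp0 : (fun l => (p l).eval 0) ≠ 0)
    (hp : ∀ s : k, s ≠ 0 → ∃ (g : Pt G) (c : k), (fun l => (p l).eval s) = c • (matPtOf M g *ᵥ v)) :
    ∃ (g : Pt G) (c : k), c ≠ 0 ∧ matPtOf M g *ᵥ v = c • fun l => (p l).eval 0 := by
  classical
  obtain ⟨a, ha⟩ := Borel.exists_projAct hM
  obtain ⟨x, hx⟩ := Borel.exists_hasCrd hv
  have hfix : ∀ b : Pt B, lift (b ≫ iB) x ≫ a.act = x := fun b => by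
    obtain ⟨c, hc⟩ := hstab b
    refine ((ha (b ≫ iB) x v hx).eq_iff hx).mpr fun p q => ?_
    rw [hc]
    simp only [Pi.smul_apply, smul_eq_mul]
    ring
  have hcl := isClosed_range_of_closedImg hB (a.orbitMap x) fun g h => orbitMap_invariant a x hfix g h
  have horb : ∀ g : Pt G, HasCrd (g ≫ a.orbitMap x) (matPtOf M g *ᵥ v) := fun g => by
    rw [pt_orbitMap]; exact ha g x v hx
  let v₀ : Fin (n + 1) → k := fun l => (p l).eval 0
  obtain ⟨x₀, hx₀⟩ := Borel.exists_hasCrd (v := v₀) hp0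
  suffices hmem : pimg x₀ ∈ Set.range (a.orbitMap x).left by
    obtain ⟨z, hz⟩ := hmem
    obtain ⟨g, hg'⟩ := Chev.exists_pt (G := G) (S := (a.orbitMap x).left ⁻¹' {pimg x₀}) ⟨z, hz⟩
      ((((pointEquivClosedPoint (Pn k n).hom) ⟨_, Over.w x₀⟩).2.preimage
        (a.orbitMap x).left.continuous).isLocallyClosed)
    have hg : g ≫ a.orbitMap x = x₀ := Chev.pimg_injective hg'
    obtain ⟨c, hc, e⟩ := crd_smul hx₀ (hg ▸ horb g)
    exact ⟨g, c, hc, e⟩
  by_contra hne
  obtain ⟨i, q₀, hq₀⟩ := Borel.exists_chart x₀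
  obtain ⟨c₀, hc₀, he₀⟩ := crd_smul hx₀ (hq₀ ▸ Borel.hasCrd_comp_κ i q₀)
  have hi : v₀ i ≠ 0 := fun h => by
    have := congrFun he₀ i
    simp only [Borel.ucrd_self, map_one, Pi.smul_apply, h, smul_zero] at this
    exact one_ne_zero this
  have hw₀ : (fun l => evPt q₀ (ucrd i l)) = fun l => v₀ l / v₀ i := funext fun l => by
    have h1 := congrFun he₀ i
    have h2 := congrFun he₀ l
    simp only [Borel.ucrd_self, map_one, Pi.smul_apply, smul_eq_mul] at h1 h2
    rw [h2, eq_div_iff hi, mul_right_comm, ← h1, _root_.one_mul]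
  obtain ⟨q₁, hq₁, hq₁P⟩ := exists_chart_pt i (fun l => v₀ l / v₀ i) (div_self hi)
  have hq₁0 : q₁ ≫ κ i = x₀ := (hq₁.eq_iff hx₀).mpr fun p q => by ring
  let C : Set (U k n i).left := (κ i).left ⁻¹' Set.range (a.orbitMap x).left
  have hC : IsClosed C := hcl.preimage (κ i).left.continuous
  haveI : IsAffine (U k n i).left := inferInstanceAs (IsAffine (Spec _))
  obtain ⟨f, hfle, hf⟩ := (isAffineOpen_top (U k n i).left).exists_basicOpen_le (V := ⟨Cᶜ, hC.isOpen_compl⟩)
    ⟨pimg q₁, fun h => hne (by rw [← hq₁0]; exact h)⟩ trivial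
  obtain ⟨P, hP⟩ : ∃ P, uΓ i (ZetaLib.dehom n k i P) = f := by
    obtain ⟨a, ha⟩ := (ConcreteCategory.bijective_of_isIso (Scheme.ΓSpecIso (CommRingCat.of
      (HomogeneousLocalization.Away (CohB1.polyGrading n k) (MvPolynomial.X i)))).inv).2 f
    obtain ⟨P, rfl⟩ := ZetaLib.surjective_dehom n k i a
    exact ⟨P, ha⟩
  have hP₀ : MvPolynomial.eval (fun l => v₀ l / v₀ i) P ≠ 0 := by
    rw [← hq₁P, hP]
    exact fun h => (Borel.evPt_eq_zero_iff q₁ f).mp h hf
  have hgood : ∀ s : k, s ≠ 0 → (p i).eval s ≠ 0 →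
      MvPolynomial.eval (fun l => (p l).eval s / (p i).eval s) P = 0 := fun s hs hsi => by
    obtain ⟨qs, hqs, hqsP⟩ := exists_chart_pt i (fun l => (p l).eval s / (p i).eval s) (div_self hsi)
    rw [← hqsP, hP, Borel.evPt_eq_zero_iff]
    refine fun hmem => hfle hmem ?_
    obtain ⟨g, c, hgc⟩ := hp s hs
    refine ⟨pimg g, ?_⟩
    have e : g ≫ a.orbitMap x = qs ≫ κ i := ((horb g).eq_iff hqs).mpr fun l m => by
      rw [congrFun hgc l, congrFun hgc m]
      simp only [Pi.smul_apply, smul_eq_mul]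
      ring
    exact congrArg pimg e
  let deg := P.totalDegree
  let Q : Polynomial k := ∑ m ∈ P.support,
    Polynomial.C (P.coeff m) * (∏ l, p l ^ (m l)) * p i ^ (deg - ∑ l, m l)
  have hQ : ∀ s, (p i).eval s ≠ 0 →
      Q.eval s = (p i).eval s ^ deg * MvPolynomial.eval (fun l => (p l).eval s / (p i).eval s) P := by
    intro s hs
    rw [MvPolynomial.eval_eq', Polynomial.eval_finsetSum, Finset.mul_sum]
    refine Finset.sum_congr rfl fun m hm => ?_
    have hle : ∑ l, m l ≤ deg := by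
      have := MvPolynomial.le_totalDegree hm
      rwa [Finsupp.sum_fintype _ _ (fun _ => rfl)] at this
    simp only [Polynomial.eval_mul, Polynomial.eval_C, Polynomial.eval_prod, Polynomial.eval_pow, div_pow,
      Finset.prod_div_distrib, Finset.prod_pow_eq_pow_sum, pow_sub₀ _ hs hle]
    field_simp
  have hQ0 : Q = 0 := by
    refine Polynomial.eq_zero_of_infinite_isRoot Q ?_
    have hpi : p i ≠ 0 := fun h => hi (by show (p i).eval 0 = 0; rw [h, Polynomial.eval_zero])
    refine (((Set.finite_singleton (0 : k)).union (Polynomial.finite_setOf_isRoot hpi)).infinite_compl).mono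
      fun s hs => ?_
    simp only [Set.mem_compl_iff, Set.mem_union, Set.mem_singleton_iff, Set.mem_setOf_eq, not_or] at hs
    show Q.eval s = 0
    rw [hQ s hs.2, hgood s hs.1 hs.2, MulZeroClass.mul_zero]
  have h := hQ 0 hi
  rw [hQ0, Polynomial.eval_zero, eq_comm, mul_eq_zero] at h
  rcases h with h | h
  · exact hi (eq_zero_of_pow_eq_zero h)
  · exact hP₀ h

/-- **Fixed points in closed stable subsets**: a connected solvable group fixes a coset in the subset. -/
theorem exists_fixed_mem {B : Over (Spec (CommRingCat.of k))} [GrpObj B] {iB : B ⟶ G}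
    (hB : Red.IsBorelOver k iB) {H : Over (Spec (CommRingCat.of k))} [GrpObj H] [IsAffine H.left] [Smooth H.hom]
    [ConnectedSpace H.left] [Group.IsSolvable (Pt H)] (f : H ⟶ G) [IsMonHom f] {S : Set G.left} (hS : IsClosed S)
    (hright : ∀ (g : Pt G) (b : Pt B), pimg g ∈ S → pimg (g * (b ≫ iB)) ∈ S)
    (hleft : ∀ (h : Pt H) (g : Pt G), pimg g ∈ S → pimg ((h ≫ f) * g) ∈ S) (g₀ : Pt G) (hg₀ : pimg g₀ ∈ S) :
    ∃ g : Pt G, pimg g ∈ S ∧ ∀ h : Pt H, ∃ b : Pt B, b ≫ iB = g⁻¹ * (h ≫ f) * g := by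
  haveI : IsAffineHom G.hom := isAffineHom_of_isAffine _
  haveI : QuasiCompact G.hom := inferInstance
  obtain ⟨hbm, hbc, hBs, hBcn, -⟩ := id hB
  haveI := hbm; haveI := hbc; haveI := hBs; haveI := hBcn
  haveI : QuasiCompact B.hom := by rw [← Over.w iB]; infer_instance
  haveI : Mono iB := (Over.forget _).mono_of_mono_map (inferInstanceAs (Mono iB.left))
  obtain ⟨X, a, o, hl, hq, hfl, hsu, sq⟩ := Agent.GrpSchLib.HomogeneousQuot.exists_quot G B iB
  haveI := Borel.isProper_quot iB (Borel.closedImg_of_isBorelOver iB hB) a o ⟨hl, hfl, hsu, sq⟩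
  haveI := hl; haveI := hfl; haveI := hsu
  haveI : IsLocallyNoetherian X.left := LocallyOfFiniteType.isLocallyNoetherian X.hom
  haveI : LocallyOfFiniteType (a.orbitMap o).left := by
    haveI : LocallyOfFiniteType ((a.orbitMap o).left ≫ X.hom) := by rw [Over.w]; infer_instance
    exact locallyOfFiniteType_of_comp (a.orbitMap o).left X.hom
  haveI : LocallyOfFinitePresentation (a.orbitMap o).left := inferInstance
  have hopen : IsOpenMap (a.orbitMap o).left := (a.orbitMap o).left.isOpenMap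
  have hcoset : ∀ g g' : Pt G, g ≫ a.orbitMap o = g' ≫ a.orbitMap o → ∃ b : Pt B, g' = g * (b ≫ iB) := fun g g' h => by
    rw [pt_orbitMap, pt_orbitMap] at h
    obtain ⟨b, hb⟩ := Borel.pt_of_quot sq (c := g⁻¹ * g') (by rw [← act_mul, ← h, act_mul, inv_mul_cancel, act_one])
    exact ⟨b, by rw [hb, mul_inv_cancel_left]⟩
  have hsat : ∀ p ∈ S, (a.orbitMap o).left p ∉ (a.orbitMap o).left '' Sᶜ := fun p hp hmem => by
    let V : Set G.left := (a.orbitMap o).left ⁻¹' ((a.orbitMap o).left '' Sᶜ)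
    have hV : IsOpen V := (hopen _ hS.isOpen_compl).preimage (a.orbitMap o).left.continuous
    obtain ⟨g, hgV, hgS⟩ := Chev.exists_pt (G := G) (S := V ∩ S) ⟨p, hmem, hp⟩
      (hV.isLocallyClosed.inter hS.isLocallyClosed)
    obtain ⟨p', hp', e⟩ := hgV
    obtain ⟨g', hg', hg'S⟩ := Chev.exists_pt (G := G) (S := (a.orbitMap o).left ⁻¹' {pimg (g ≫ a.orbitMap o)} ∩ Sᶜ)
      ⟨p', by show (a.orbitMap o).left p' = _; rw [e, pimg_comp], hp'⟩
      ((((pointEquivClosedPoint X.hom) ⟨_, Over.w (g ≫ a.orbitMap o)⟩).2.preimage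
        (a.orbitMap o).left.continuous).isLocallyClosed.inter hS.isOpen_compl.isLocallyClosed)
    obtain ⟨b, rfl⟩ := hcoset g g' (Chev.pimg_injective hg'.symm)
    exact hg'S (hright g b hgS)
  let E : Set X.left := ((a.orbitMap o).left '' Sᶜ)ᶜ
  have hE : IsClosed E := (hopen _ hS.isOpen_compl).isClosed_compl
  have hEiff : ∀ g : Pt G, pimg (g ≫ a.orbitMap o) ∈ E ↔ pimg g ∈ S := fun g => by
    refine ⟨fun h => by_contra fun hg => h ⟨pimg g, hg, (pimg_comp _ _).symm⟩, fun h => ?_⟩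
    rw [pimg_comp]
    exact hsat _ h
  obtain ⟨x, hxE, hx⟩ := Borel.exists_fixedPt_mem H X (Borel.restrictAct a f) hE (fun h y hy => by
    obtain ⟨g, rfl⟩ := Borel.exists_pt_over (a.orbitMap o) y
    rw [Borel.lift_restrictAct, pt_orbitMap, act_mul, ← pt_orbitMap, hEiff]
    exact hleft h g ((hEiff g).mp hy)) (g₀ ≫ a.orbitMap o) ((hEiff g₀).mpr hg₀)
  obtain ⟨g, rfl⟩ := Borel.exists_pt_over (a.orbitMap o) x
  refine ⟨g, (hEiff g).mp hxE, fun h => ?_⟩
  have h1 := hx (𝟙_ _) h
  rw [Borel.lift_restrictAct] at h1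
  refine Borel.pt_of_quot sq ?_
  rw [pt_orbitMap, toUnit_unique (toUnit (𝟙_ _)) (𝟙 _), Category.id_comp] at h1
  rw [← act_mul, ← act_mul, h1, act_mul, inv_mul_cancel, act_one]

end

end Groth.Agent.Deform.Luna
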