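import Groth.Agent.Deform.Luna.Curve
import Groth.Agent.Deform.Luna.Degen
import Groth.Agent.Deform.Borel.LineRep

/-!
# Unipotent subgroups of all Borel subgroups containing a maximal torus fix the flag variety
-/

universe u

open CategoryTheory CategoryTheory.Limits MonoidalCategory CartesianMonoidalCategory MonObj GrpObj AlgebraicGeometry
open Matrix

attribute [local instance] CategoryTheory.Hom.monoid CategoryTheory.Hom.group
set_option linter.style.haveILetI false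
set_option linter.unusedSectionVars false

namespace Groth.Agent.Deform.Luna

open Chev (Pt pimg)
open Borel (HasCrd matPtOf conj comp_conj pt_conj)
open Agent.GrpSchLib.Kunneth (Fn ev evPt evPt_comp ev_ev IsRepMatrix)
open Agent.GrpSchLib.ProjLine (Pn)

noncomputable section

variable {k : Type u} [Field k] [IsAlgClosed k] {G T B : Over (Spec (CommRingCat.of k))} [GrpObj G] [GrpObj T]
  [GrpObj B]

/-- Cosets fixed by a maximal torus differ by elements normalising it. -/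
theorem exists_normalizing' [IsAffine G.left] [Smooth G.hom] [ConnectedSpace G.left] {i : T ⟶ G}
    (hi : AGF.IsMaxTorus i) {iB : B ⟶ G} (hB : Red.IsBorelOver k iB) (t : T ⟶ B) (ht : t ≫ iB = i) (y : Pt G)
    (hy : ∀ w : Pt T, ∃ b : Pt B, b ≫ iB = y⁻¹ * (w ≫ i) * y) :
    ∃ (n : Pt G) (b : Pt B), y = n * (b ≫ iB) ∧ (∀ w : Pt T, ∃ w' : Pt T, w' ≫ i = n * (w ≫ i) * n⁻¹) ∧
      ∀ w : Pt T, ∃ w' : Pt T, w' ≫ i = n⁻¹ * (w ≫ i) * n := by
  haveI : IsAffineHom G.hom := isAffineHom_of_isAffine _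
  haveI : QuasiCompact G.hom := inferInstance
  haveI := hi.1
  obtain ⟨hTa, hTl, hTs, hTc⟩ := Deform.TorusBasic.props hi.2.2.1
  haveI := hTs
  haveI : IsReduced T.left := GrpSchLib.isReduced_of_smooth_field T.hom
  haveI := hB.1; haveI := hB.2.1
  obtain ⟨t₁, ht₁⟩ := Chev.exists_lift_range iB (i ≫ conj y⁻¹)
    (Chev.mem_of_pts _ iB.left.isClosedEmbedding.isClosed_range fun w => by
      obtain ⟨b, hb⟩ := hy w
      exact ⟨pimg b, by rw [← Chev.pimg_comp, hb, ← Category.assoc, pt_conj, _root_.inv_inv]⟩)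
  obtain ⟨n, τ, σ, hτ, hσ⟩ := Borel.exists_norm_conj hi hB (Borel.isBorelOver_conj iB hB y) ht
    (t' := t₁) (by rw [← Category.assoc, ht₁, Category.assoc, Borel.conj_left_inv, Category.comp_id])
  obtain ⟨b, hb⟩ := Borel.norm_mem_borel G iB hB (y⁻¹ * n) fun b => ⟨b ≫ σ.hom, by
    have h := congrArg (b ≫ ·) hσ
    simp only [← Category.assoc, pt_conj] at h
    rw [show (y⁻¹ * n) * (b ≫ iB) * (y⁻¹ * n)⁻¹ = y⁻¹ * (n * (b ≫ iB) * n⁻¹) * y by group, ← h]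
    group⟩
  refine ⟨n, b⁻¹, ?_, fun w => ⟨w ≫ τ.hom, ?_⟩, fun w => ⟨w ≫ τ.inv, ?_⟩⟩
  · rw [GrpObj.inv_comp, hb]; group
  · rw [Category.assoc, hτ, ← Category.assoc, pt_conj]
  · have h : τ.inv ≫ i = i ≫ conj n⁻¹ := by
      rw [Iso.inv_comp_eq, ← Category.assoc, hτ, Category.assoc, Borel.conj_right_inv, Category.comp_id]
    rw [Category.assoc, h, ← Category.assoc, pt_conj, _root_.inv_inv]

/-- The pairing with a fixed vector. -/
def dl {n : ℕ} (x : Fin (n + 1) → k) : (Fin (n + 1) → k) →ₗ[k] k where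
  toFun y := x ⬝ᵥ y
  map_add' := dotProduct_add x
  map_smul' := fun c y => dotProduct_smul c x y

theorem dl_apply {n : ℕ} (x y : Fin (n + 1) → k) : dl x y = x ⬝ᵥ y := rfl

/-- A polynomial curve from a weight decomposition. -/
theorem exists_curve_poly {n : ℕ} (D : Finset ℤ) (ν : ℤ) (hν : ν ∈ D) (hle : ∀ d ∈ D, ν ≤ d)
    (v : ℤ → Fin (n + 1) → k) :
    ∃ p : Fin (n + 1) → Polynomial k, (fun l => (p l).eval 0) = v ν ∧
      ∀ s : kˣ, (fun l => (p l).eval (s : k)) = ((s : k) ^ ν)⁻¹ • ∑ d ∈ D, ((s : k) ^ d) • v d := by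
  refine ⟨fun l => ∑ d ∈ D, Polynomial.C (v d l) * Polynomial.X ^ (d - ν).toNat, funext fun l => ?_,
    fun s => funext fun l => ?_⟩
  · rw [Polynomial.eval_finsetSum, Finset.sum_eq_single ν (fun d hd hne => ?_) (fun h => absurd hν h)]
    · simp
    · have hlt : (d - ν).toNat ≠ 0 := by have := hle d hd; omega
      simp [hlt]
  · rw [Polynomial.eval_finsetSum, Pi.smul_apply, Finset.sum_apply, Finset.smul_sum]
    refine Finset.sum_congr rfl fun d hd => ?_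
    simp only [Polynomial.eval_mul, Polynomial.eval_C, Polynomial.eval_pow, Polynomial.eval_X, Pi.smul_apply,
      smul_eq_mul]
    rw [← zpow_natCast, Int.toNat_of_nonneg (sub_nonneg.mpr (hle d hd)), zpow_sub₀ s.ne_zero]
    field_simp

set_option maxHeartbeats 4000000 in
/-- **Chevalley's theorem, after Luna**: a connected subgroup without subtori contained in every Borel subgroup
containing a maximal torus is contained in every Borel subgroup. -/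
theorem mem_all_borels [IsAffine G.left] [Smooth G.hom] [ConnectedSpace G.left] {i : T ⟶ G}
    (hi : AGF.IsMaxTorus i) {iB : B ⟶ G} (hB : Red.IsBorelOver k iB) (t : T ⟶ B) (ht : t ≫ iB = i)
    {U : Over (Spec (CommRingCat.of k))} [GrpObj U] [IsAffine U.left] [Smooth U.hom] [ConnectedSpace U.left]
    (hU : Red.HasNoSubtorus k U) (iU : U ⟶ G) [IsMonHom iU]
    (hmem : ∀ g : Pt G, (∀ w : Pt T, ∃ b : Pt B, b ≫ iB = g⁻¹ * (w ≫ i) * g) →
      ∀ u : Pt U, ∃ b : Pt B, b ≫ iB = g⁻¹ * (u ≫ iU) * g)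
    (g : Pt G) (u : Pt U) : ∃ b : Pt B, b ≫ iB = g⁻¹ * (u ≫ iU) * g := by
  classical
  haveI : IsAffineHom G.hom := isAffineHom_of_isAffine _
  haveI : QuasiCompact G.hom := inferInstance
  haveI := hi.1
  obtain ⟨hbm, hbc, hBs, hBcn, hBsol, -⟩ := id hB
  haveI := hbm; haveI := hbc; haveI := hBs; haveI := hBcn
  haveI : IsAffine B.left := isAffine_of_isAffineHom iB.left
  haveI : Group.IsSolvable (Pt B) := Borel.isSolvable_pts_of_grp hBsol
  haveI : QuasiCompact B.hom := by rw [← Over.w iB]; infer_instance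
  obtain ⟨hTa, hTl, hTs, hTc⟩ := Deform.TorusBasic.props hi.2.2.1
  haveI := hTa; haveI := hTl; haveI := hTs; haveI := hTc
  haveI : Group.IsSolvable (Pt T) := Borel.isSolvable_pts_of_torus hi.2.2.1
  haveI := Borel.isNilpotent_pts_of_noSubtorus U hU
  haveI : Group.IsSolvable (Pt U) := inferInstance
  have hBimg := Borel.closedImg_of_isBorelOver iB hB
  -- a vector remembering the Borel subgroup
  obtain ⟨n₀, z, α, hα, ⟨L, hL⟩, hline⟩ := Borel.exists_vecRep G B iB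
  have hcr : ∀ g g' : Pt G, (∀ x q, zv z g x * zv z g' q = zv z g q * zv z g' x) ↔
      ∃ b : Pt B, g⁻¹ * g' = b ≫ iB := fun g g' => by
    rw [← hline]
    simp only [zv, Borel.ev_pt_eq, ← map_mul]
    exact forall_congr' fun x => forall_congr' fun q =>
      ((Function.LeftInverse.injective (g := evPt (𝟙 (𝟙_ (Over (Spec (CommRingCat.of k)))))) Borel.evPt_algebraMap).eq_iff).symm
  have hz1 : ∀ g : Pt G, zv z g ≠ 0 := fun g h => by
    have h1 := congrArg (evPt g) hα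
    simp only [map_sum, map_mul, map_one] at h1
    simp only [show ∀ l, evPt g (z l) = 0 from congrFun h, MulZeroClass.mul_zero, Finset.sum_const_zero] at h1
    exact zero_ne_one h1
  obtain ⟨m, w, M, h₀, π, hM, hwb, hwm, hπ, hzw⟩ := exists_spanning z (hz1 1) fun g =>
    ⟨Matrix.of fun x s => evPt g (L x s), fun h => funext fun x => by
      show evPt (g * h) (z x) = _
      rw [Borel.evPt_eq, hL, map_sum]
      simp only [map_mul, ← Borel.evPt_eq]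
      rfl⟩
  clear hL
  have hw1 : zv w (1 : Pt G) ≠ 0 := fun h => hz1 1 (by rw [hzw, h]; simp)
  have hwne : ∀ g, zv w g ≠ 0 := fun g h => by
    have := hwm g⁻¹ g
    rw [inv_mul_cancel, h, Matrix.mulVec_zero] at this
    exact hw1 this
  have hzcross : ∀ g g' : Pt G, ∀ c : k, zv w g' = c • zv w g → ∃ b : Pt B, g⁻¹ * g' = b ≫ iB := fun g g' c h => by
    refine (hcr g g').mp fun x q => ?_
    have e : zv z g' = c • zv z g := by
      rw [hzw g', hzw g, Finset.smul_sum]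
      exact Finset.sum_congr rfl fun l _ => by rw [h, Pi.smul_apply, smul_eq_mul, smul_smul]
    simp only [e, Pi.smul_apply, smul_eq_mul]
    ring
  have hwB : ∀ (g : Pt G) (b : Pt B), ∃ c : k, c ≠ 0 ∧ zv w (g * (b ≫ iB)) = c • zv w g := fun g b => by
    have h1 := (hcr g (g * (b ≫ iB))).mpr ⟨b, inv_mul_cancel_left g _⟩
    obtain ⟨l, hl : zv z g l ≠ 0⟩ := Function.ne_iff.mp (hz1 g)
    have e : zv z (g * (b ≫ iB)) = (zv z (g * (b ≫ iB)) l / zv z g l) • zv z g := funext fun p => by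
      rw [Pi.smul_apply, smul_eq_mul, div_mul_eq_mul_div, eq_div_iff hl, mul_comm, h1 l p, mul_comm]
    have e2 : zv w (g * (b ≫ iB)) = (zv z (g * (b ≫ iB)) l / zv z g l) • zv w g := by
      rw [← hπ, ← hπ g, e, map_smul]
      simp [hl]
    exact ⟨_, fun hc => hwne _ (by rw [e2, hc, zero_smul]), e2⟩
  have hMB : ∀ b : Pt B, ∃ c : k, matPtOf M (b ≫ iB) *ᵥ zv w (1 : Pt G) = c • zv w (1 : Pt G) := fun b => by
    obtain ⟨c, -, hc⟩ := hwB 1 b
    exact ⟨c, by rw [← hwm, _root_.mul_one, ← hc, _root_.one_mul]⟩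
  -- the contragredient representation and an eigenfunctional of the Borel subgroup
  obtain ⟨N, hN, hNM⟩ := exists_dual hM
  obtain ⟨a, ha⟩ := Borel.exists_projAct hN
  haveI : Nonempty (Pn k m).left := by
    obtain ⟨x, -⟩ := Borel.exists_hasCrd (k := k) hw1
    exact ⟨pimg x⟩
  obtain ⟨x, hx⟩ := Borel.exists_fixedPt B (Pn k m) (Borel.restrictAct a iB)
  obtain ⟨ℓ₀, hℓ₀⟩ := Borel.exists_crd x
  have hℓB : ∀ b : Pt B, ∃ c : k, c ≠ 0 ∧ matPtOf N (b ≫ iB) *ᵥ ℓ₀ = c • ℓ₀ := fun b => by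
    have h := hx (𝟙_ _) b
    rw [Borel.lift_restrictAct, toUnit_unique (toUnit (𝟙_ _)) (𝟙 _), Category.id_comp] at h
    have h2 := ha (b ≫ iB) x ℓ₀ hℓ₀
    rw [h] at h2
    exact crd_smul hℓ₀ h2
  let ω : Fin (m + 1) → Fn G := fun l => ∑ s, ℓ₀ s • N l s
  have hω : ∀ g, zv ω g = matPtOf N g *ᵥ ℓ₀ := fun g => funext fun l => by
    simp only [zv, ω, map_sum, map_smul, smul_eq_mul, Matrix.mulVec, dotProduct]
    exact Finset.sum_congr rfl fun s _ => mul_comm _ _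
  have hωm : ∀ g h, zv ω (g * h) = matPtOf N g *ᵥ zv ω h := fun g h => by
    rw [hω, hω, Borel.matPtOf_mul hN, Matrix.mulVec_mulVec]
  have hωne : ∀ g, zv ω g ≠ 0 := fun g h => hℓ₀.ne_zero (Borel.mulVec_injective hN g (by
    simpa only [Matrix.mulVec_zero, ← hω] using h))
  have hωB : ∀ (g : Pt G) (b : Pt B), ∃ c : k, c ≠ 0 ∧ zv ω (g * (b ≫ iB)) = c • zv ω g := fun g b => by
    obtain ⟨c, hc, e⟩ := hℓB b
    exact ⟨c, hc, by rw [hωm, hω (b ≫ iB), e, Matrix.mulVec_smul, ← hω]⟩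
  have hpair : ∀ (g : Pt G) (a b : Fin (m + 1) → k), (matPtOf N g *ᵥ a) ⬝ᵥ (matPtOf M g *ᵥ b) = a ⬝ᵥ b :=
    fun g a b => by
      rw [hNM, Matrix.mulVec_transpose, ← Matrix.dotProduct_mulVec, Matrix.mulVec_mulVec, ← Borel.matPtOf_mul hM,
        inv_mul_cancel, Borel.matPtOf_one hM, Matrix.one_mulVec]
  have hP : ∀ g h c : Pt G, zv ω (c * g) ⬝ᵥ zv w (c * h) = zv ω g ⬝ᵥ zv w h := fun g h c => by
    rw [hωm, hwm, hpair]
  -- extremal weight
  obtain ⟨D, P, χ, lam, hA, hAs, hAP, hPP⟩ := exists_weights hi.2.2.1 i hM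
  let D' := D.filter fun d => P d ≠ 0
  have hD' : ∀ (f : ℤ → Matrix (Fin (m + 1)) (Fin (m + 1)) k →ₗ[k] (Fin (m + 1) → k)),
      ∑ d ∈ D, f d (P d) = ∑ d ∈ D', f d (P d) := fun f => by
    refine (Finset.sum_subset (Finset.filter_subset _ _) fun d hd hd' => ?_).symm
    have h : P d = 0 := by simpa [D', hd] using hd'
    rw [h, map_zero]
  have hDne : D'.Nonempty := by
    by_contra h
    rw [Finset.not_nonempty_iff_eq_empty] at h
    have h1 := hA 1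
    rw [MonObj.one_comp, Borel.matPtOf_one hM, Finset.sum_eq_zero (fun d hd => by
      have : P d = 0 := by
        by_contra hne
        exact Finset.notMem_empty d (h ▸ Finset.mem_filter.mpr ⟨hd, hne⟩)
      rw [this, smul_zero])] at h1
    exact one_ne_zero h1
  let ν := D'.min' hDne
  have hν : ν ∈ D' := D'.min'_mem hDne
  obtain ⟨hνD, hPν⟩ := Finset.mem_filter.mp hν
  have hνle : ∀ d ∈ D', ν ≤ d := fun d hd => D'.min'_le d hd
  have hidem : P ν * P ν = P ν := by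
    have h0 := (hAP ν hνD 1).1
    rw [MonObj.one_comp, Borel.matPtOf_one hM, Matrix.one_mul] at h0
    have h1 := (hAP ν hνD 1).2
    rw [hA, Finset.mul_sum, Finset.sum_eq_single ν (fun d hd hne => by
      rw [Matrix.mul_smul, hPP ν hνD d hd (Ne.symm hne), smul_zero]) (fun h => absurd hνD h), Matrix.mul_smul,
      ← h0] at h1
    have hc : χ ν 1 ≠ 0 := fun h => hPν (by rw [h0, h, zero_smul])
    exact smul_right_injective _ hc (h1.trans h0)
  obtain ⟨h₂, hh₂⟩ : ∃ h : Pt G, P ν *ᵥ zv w h ≠ 0 := by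
    by_contra hne
    push_neg at hne
    refine hPν (Matrix.ext fun x y => ?_)
    have := congrFun (hne (h₀ y)) x
    rwa [hwb, Matrix.mulVec_single_one] at this
  -- the extremal fixed coset
  obtain ⟨p, hp0, hps⟩ := exists_curve_poly D' ν hν hνle fun d => P d *ᵥ zv w h₂
  obtain ⟨h₁, c₁, hc₁, he₁⟩ := degen hBimg hM hw1 hMB p (by rw [hp0]; exact hh₂) fun s hs =>
    ⟨(lam (Units.mk0 s hs) ≫ i) * h₂, ((s : k) ^ ν)⁻¹, by
      have := hps (Units.mk0 s hs)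
      rw [Units.val_mk0] at this
      rw [this, ← hwm, _root_.mul_one, hwm, hAs, Units.val_mk0, Matrix.sum_mulVec]
      congr 1
      simp only [Matrix.smul_mulVec]
      exact (hD' fun d => ((s : k) ^ d) • {
        toFun := fun A => A *ᵥ zv w h₂
        map_add' := fun A A' => Matrix.add_mulVec A A' _
        map_smul' := fun c A => Matrix.smul_mulVec c A _ }).symm⟩
  rw [← hwm, _root_.mul_one, hp0] at he₁
  obtain ⟨S₀, hS₀, hS₀'⟩ := exists_zero_set fun pq : Fin (m + 1) × Fin (m + 1) =>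
    zv w h₁ pq.1 • w pq.2 - zv w h₁ pq.2 • w pq.1
  have hS₀iff : ∀ h : Pt G, pimg h ∈ S₀ ↔ ∃ c : k, c ≠ 0 ∧ zv w h = c • zv w h₁ := fun h => by
    rw [hS₀']
    simp only [map_sub, map_smul, smul_eq_mul, sub_eq_zero]
    refine ⟨fun e => ?_, fun ⟨c, _, e⟩ pq => ?_⟩
    · obtain ⟨l, hl : zv w h₁ l ≠ 0⟩ := Function.ne_iff.mp (hwne h₁)
      have e2 : zv w h = (zv w h l / zv w h₁ l) • zv w h₁ := funext fun p => by
        rw [Pi.smul_apply, smul_eq_mul, div_mul_eq_mul_div, eq_div_iff hl, mul_comm]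
        exact (e (l, p)).trans (mul_comm _ _)
      exact ⟨_, fun hc => hwne h (by rw [e2, hc, zero_smul]), e2⟩
    · show zv w h₁ pq.1 * zv w h pq.2 = zv w h₁ pq.2 * zv w h pq.1
      rw [e, Pi.smul_apply, Pi.smul_apply, smul_eq_mul, smul_eq_mul]
      ring
  obtain ⟨h₃, hh₃S, hh₃⟩ := exists_fixed_mem hB i hS₀ (fun g b hg => by
      obtain ⟨c, hc, e⟩ := (hS₀iff g).mp hg
      obtain ⟨c', hc', e'⟩ := hwB g b
      exact (hS₀iff _).mpr ⟨c' * c, mul_ne_zero hc' hc, by rw [e', e, smul_smul]⟩)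
    (fun y g hg => by
      obtain ⟨c, hc, e⟩ := (hS₀iff g).mp hg
      have hy : zv w ((y ≫ i) * h₁) = χ ν y • zv w h₁ := by
        rw [hwm, he₁, Matrix.mulVec_smul, Matrix.mulVec_mulVec, (hAP ν hνD y).1, Matrix.smul_mulVec, smul_comm]
      refine (hS₀iff _).mpr ⟨c * χ ν y, mul_ne_zero hc fun h0 => hwne _ (by rw [hy, h0, zero_smul]), ?_⟩
      rw [hwm, e, Matrix.mulVec_smul, ← hwm, hy, smul_smul])
    h₁ ((hS₀iff h₁).mpr ⟨1, one_ne_zero, by rw [one_smul]⟩)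
  obtain ⟨c₃, hc₃, he₃⟩ := (hS₀iff h₃).mp hh₃S
  have hPh₃ : P ν *ᵥ zv w h₃ = zv w h₃ := by
    rw [he₃, he₁, Matrix.mulVec_smul, Matrix.mulVec_smul, Matrix.mulVec_mulVec, hidem]
  -- a fixed functional not vanishing on it
  obtain ⟨g₂, hg₂⟩ : ∃ g : Pt G, zv ω g ⬝ᵥ zv w h₃ ≠ 0 := by
    by_contra hne
    push_neg at hne
    refine hℓ₀.ne_zero (funext fun l => ?_)
    have := hne (h₃ * (h₀ l)⁻¹)
    rw [← hP _ _ ((h₃ * (h₀ l)⁻¹)⁻¹), inv_mul_cancel, hω, Borel.matPtOf_one hN, Matrix.one_mulVec,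
      show (h₃ * (h₀ l)⁻¹)⁻¹ * h₃ = h₀ l by group, hwb, dotProduct_single_one] at this
    exact this
  obtain ⟨q, hq0, hqs⟩ := exists_curve_poly D' ν hν hνle fun d => (P d)ᵀ *ᵥ zv ω g₂
  have hPνω : (P ν)ᵀ *ᵥ zv ω g₂ ≠ 0 := fun h => hg₂ (by
    rw [← hPh₃, Matrix.dotProduct_mulVec, ← Matrix.mulVec_transpose, h, zero_dotProduct])
  obtain ⟨g₁, d₁, hd₁, hf₁⟩ := degen hBimg hN hℓ₀.ne_zero (fun b => ⟨_, (hℓB b).choose_spec.2⟩) q
    (by rw [hq0]; exact hPνω) fun s hs => ⟨(lam (Units.mk0 s hs) ≫ i)⁻¹ * g₂, ((s : k) ^ ν)⁻¹, by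
      have := hqs (Units.mk0 s hs)
      rw [Units.val_mk0] at this
      rw [this, ← hω, hωm, hNM, _root_.inv_inv, hAs, Units.val_mk0, Matrix.transpose_sum, Matrix.sum_mulVec]
      congr 1
      simp only [Matrix.transpose_smul, Matrix.smul_mulVec]
      exact (hD' fun d => ((s : k) ^ d) • {
        toFun := fun A => Aᵀ *ᵥ zv ω g₂
        map_add' := fun A A' => by rw [Matrix.transpose_add, Matrix.add_mulVec]
        map_smul' := fun c A => by rw [Matrix.transpose_smul, Matrix.smul_mulVec, RingHom.id_apply] }).symm⟩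
  rw [← hω, hq0] at hf₁
  obtain ⟨S₁, hS₁, hS₁'⟩ := exists_zero_set fun pq : Fin (m + 1) × Fin (m + 1) =>
    zv ω g₁ pq.1 • ω pq.2 - zv ω g₁ pq.2 • ω pq.1
  have hS₁iff : ∀ h : Pt G, pimg h ∈ S₁ ↔ ∃ c : k, c ≠ 0 ∧ zv ω h = c • zv ω g₁ := fun h => by
    rw [hS₁']
    simp only [map_sub, map_smul, smul_eq_mul, sub_eq_zero]
    refine ⟨fun e => ?_, fun ⟨c, _, e⟩ pq => ?_⟩
    · obtain ⟨l, hl : zv ω g₁ l ≠ 0⟩ := Function.ne_iff.mp (hωne g₁)
      have e2 : zv ω h = (zv ω h l / zv ω g₁ l) • zv ω g₁ := funext fun p => by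
        rw [Pi.smul_apply, smul_eq_mul, div_mul_eq_mul_div, eq_div_iff hl, mul_comm]
        exact (e (l, p)).trans (mul_comm _ _)
      exact ⟨_, fun hc => hωne h (by rw [e2, hc, zero_smul]), e2⟩
    · show zv ω g₁ pq.1 * zv ω h pq.2 = zv ω g₁ pq.2 * zv ω h pq.1
      rw [e, Pi.smul_apply, Pi.smul_apply, smul_eq_mul, smul_eq_mul]
      ring
  obtain ⟨g₃, hg₃S, hg₃⟩ := exists_fixed_mem hB i hS₁ (fun g b hg => by
      obtain ⟨c, hc, e⟩ := (hS₁iff g).mp hg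
      obtain ⟨c', hc', e'⟩ := hωB g b
      exact (hS₁iff _).mpr ⟨c' * c, mul_ne_zero hc' hc, by rw [e', e, smul_smul]⟩)
    (fun y g hg => by
      obtain ⟨c, hc, e⟩ := (hS₁iff g).mp hg
      have hy : zv ω ((y ≫ i) * g₁) = χ ν y⁻¹ • zv ω g₁ := by
        rw [hωm, hf₁, Matrix.mulVec_smul, hNM, ← GrpObj.inv_comp, Matrix.mulVec_mulVec, ← Matrix.transpose_mul,
          (hAP ν hνD y⁻¹).2, Matrix.transpose_smul, Matrix.smul_mulVec, smul_comm]
      refine (hS₁iff _).mpr ⟨c * χ ν y⁻¹, mul_ne_zero hc fun h0 => hωne _ (by rw [hy, h0, zero_smul]), ?_⟩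
      rw [hωm, e, Matrix.mulVec_smul, ← hωm, hy, smul_smul])
    g₁ ((hS₁iff g₁).mpr ⟨1, one_ne_zero, by rw [one_smul]⟩)
  obtain ⟨d₃, hd₃, hf₃⟩ := (hS₁iff g₃).mp hg₃S
  have hne₃ : zv ω g₃ ⬝ᵥ zv w h₃ ≠ 0 := by
    rw [hf₃, hf₁, smul_dotProduct, smul_dotProduct, Matrix.mulVec_transpose, ← Matrix.dotProduct_mulVec, hPh₃]
    exact smul_ne_zero hd₃ (smul_ne_zero hd₁ hg₂)
  -- the affine pieces cover
  let Fix := {g : Pt G // ∀ y : Pt T, ∃ b : Pt B, b ≫ iB = g⁻¹ * (y ≫ i) * g}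
  have hcover : ∀ h : Pt G, ∃ g : Fix, zv ω g.1 ⬝ᵥ zv w h ≠ 0 := by
    intro h
    by_contra hne
    push_neg at hne
    obtain ⟨S₂, hS₂, hS₂'⟩ := exists_zero_set fun g : Fix => ∑ l, zv ω g.1 l • w l
    have hS₂iff : ∀ h : Pt G, pimg h ∈ S₂ ↔ ∀ g : Fix, zv ω g.1 ⬝ᵥ zv w h = 0 := fun h => by
      rw [hS₂']
      simp only [map_sum, map_smul, smul_eq_mul]
      rfl
    obtain ⟨h', hh'S, hh'⟩ := exists_fixed_mem hB i hS₂ (fun g b hg => (hS₂iff _).mpr fun g' => by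
        obtain ⟨c, -, e⟩ := hwB g b
        rw [e, dotProduct_smul, (hS₂iff g).mp hg g', smul_zero])
      (fun y g hg => (hS₂iff _).mpr fun g' => by
        obtain ⟨b, hb⟩ := g'.2 y⁻¹
        obtain ⟨c, -, e⟩ := hωB g'.1 b
        rw [hb, show g'.1 * (g'.1⁻¹ * (y⁻¹ ≫ i) * g'.1) = (y ≫ i)⁻¹ * g'.1 by rw [GrpObj.inv_comp]; group] at e
        rw [← hP _ _ (y ≫ i)⁻¹, e, inv_mul_cancel_left, smul_dotProduct, (hS₂iff g).mp hg g', smul_zero])
      h ((hS₂iff h).mpr hne)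
    obtain ⟨n₁, b₁, hn₁, -, hn₁'⟩ := exists_normalizing' hi hB t ht h' hh'
    obtain ⟨n₂, b₂, hn₂, hn₂', -⟩ := exists_normalizing' hi hB t ht h₃ hh₃
    have hfix : ∀ y : Pt T, ∃ b : Pt B, b ≫ iB = (n₁ * n₂⁻¹ * g₃)⁻¹ * (y ≫ i) * (n₁ * n₂⁻¹ * g₃) := fun y => by
      obtain ⟨y₁, hy₁⟩ := hn₁' y
      obtain ⟨y₂, hy₂⟩ := hn₂' y₁
      obtain ⟨b, hb⟩ := hg₃ y₂
      exact ⟨b, by rw [hb, hy₂, hy₁]; group⟩
    have h0 := (hS₂iff h').mp hh'S ⟨_, hfix⟩
    obtain ⟨c, hc, e⟩ := hwB h' ((b₁)⁻¹ * b₂)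
    have e2 : h' * (((b₁)⁻¹ * b₂) ≫ iB) = n₁ * n₂⁻¹ * h₃ := by
      rw [hn₁, hn₂, MonObj.mul_comp, GrpObj.inv_comp]
      simp only [_root_.mul_assoc, mul_inv_cancel_left, inv_mul_cancel_left]
    rw [e2] at e
    refine hne₃ ?_
    rw [← hP _ _ (n₁ * n₂⁻¹), e, dotProduct_smul, h0, smul_zero]
  -- the orbit of the point
  have hMU := isRepMatrix_comp iU hM
  have hNU := isRepMatrix_comp iU hN
  let O : Submodule k (Fin (m + 1) → k) := Submodule.span k (Set.range fun v : Pt U => zv w ((v ≫ iU) * g))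
  have hOst : ∀ (v : Pt U) (x : Fin (m + 1) → k), x ∈ O → matPtOf M (v ≫ iU) *ᵥ x ∈ O := fun v x hx => by
    induction hx using Submodule.span_induction with
    | mem x hx =>
      obtain ⟨v', rfl⟩ := hx
      exact Submodule.subset_span ⟨v * v', by beta_reduce; rw [← hwm, MonObj.mul_comp, _root_.mul_assoc]⟩
    | zero => rw [Matrix.mulVec_zero]; exact O.zero_mem
    | add x y _ _ hx hy => rw [Matrix.mulVec_add]; exact O.add_mem hx hy
    | smul c x _ hx => rw [Matrix.mulVec_smul]; exact O.smul_mem c hx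
  obtain ⟨S₃, hS₃, hS₃'⟩ := exists_zero_set fun φ : O.dualAnnihilator =>
    ∑ l, (φ : Module.Dual k (Fin (m + 1) → k)) (Pi.single l 1) • w l
  have hS₃iff : ∀ h : Pt G, pimg h ∈ S₃ ↔ zv w h ∈ O := fun h => by
    rw [hS₃', ← Subspace.forall_mem_dualAnnihilator_apply_eq_zero_iff O (zv w h)]
    have e : ∀ φ : Module.Dual k (Fin (m + 1) → k),
        evPt h (∑ l, φ (Pi.single l 1) • w l) = φ (zv w h) := fun φ => by
      conv_rhs => rw [pi_eq_sum_univ' (zv w h)]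
      simp only [map_sum, map_smul, smul_eq_mul]
      exact Finset.sum_congr rfl fun l _ => mul_comm _ _
    exact ⟨fun H φ hφ => by rw [← e]; exact H ⟨φ, hφ⟩, fun H φ => by rw [e]; exact H φ.1 φ.2⟩
  obtain ⟨h, hhS, hh⟩ := exists_fixed_mem hB iU hS₃ (fun g' b hg' => by
      obtain ⟨c, -, e⟩ := hwB g' b
      exact (hS₃iff _).mpr (by rw [e]; exact O.smul_mem c ((hS₃iff g').mp hg')))
    (fun v g' hg' => (hS₃iff _).mpr (by rw [hwm]; exact hOst v _ ((hS₃iff g').mp hg')))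
    g ((hS₃iff g).mpr (Submodule.subset_span ⟨1, by
      show zv w (((1 : Pt U) ≫ iU) * g) = _
      rw [MonObj.one_comp, _root_.one_mul]⟩))
  have haO : zv w h ∈ O := (hS₃iff h).mp hhS
  have hafix : ∀ v : Pt U, matPtOf M (v ≫ iU) *ᵥ zv w h = zv w h := fun v => by
    rw [← matPtOf_comp]
    refine eigen_fixed hU hMU (hwne h) (fun v => ?_) v
    obtain ⟨b, hb⟩ := hh v
    obtain ⟨c, -, e⟩ := hwB h b
    refine ⟨c, ?_⟩
    rw [matPtOf_comp, ← hwm, ← e, hb]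
    congr 1
    group
  obtain ⟨⟨g', hg'⟩, hne'⟩ := hcover h
  have hℓfix : ∀ v : Pt U, matPtOf N (v ≫ iU) *ᵥ zv ω g' = zv ω g' := fun v => by
    rw [← matPtOf_comp]
    refine eigen_fixed hU hNU (hωne g') (fun v => ?_) v
    obtain ⟨b, hb⟩ := hmem g' hg' v
    obtain ⟨c, -, e⟩ := hωB g' b
    refine ⟨c, ?_⟩
    rw [matPtOf_comp, ← hωm, ← e, hb]
    congr 1
    group
  set a' := zv w h
  set ℓ := zv ω g'
  have hinv : ∀ (v : Pt U) (x : Fin (m + 1) → k), ℓ ⬝ᵥ (matPtOf M (v ≫ iU) *ᵥ x) = ℓ ⬝ᵥ x := fun v x => by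
    conv_lhs => rw [← hℓfix v]
    exact hpair _ _ _
  have hcst : ∀ v : Pt U, ℓ ⬝ᵥ zv w ((v ≫ iU) * g) = ℓ ⬝ᵥ zv w g := fun v => by rw [hwm, hinv]
  let cg : k := (ℓ ⬝ᵥ zv w g) / (ℓ ⬝ᵥ a')
  let ζ : Fin (m + 1) → Fn U := fun l => ev (iU * (toUnit U ≫ g)) (w l) - algebraMap k _ (cg * a' l)
  have hζ : ∀ v : Pt U, zv ζ v = zv w ((v ≫ iU) * g) - cg • a' := fun v => funext fun l => by
    simp only [zv, ζ, map_sub, AlgHom.commutes, Algebra.algebraMap_self, RingHom.id_apply, evPt_comp, MonObj.comp_mul,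
      Pi.sub_apply, Pi.smul_apply, smul_eq_mul]
    rw [← Category.assoc, toUnit_unique (v ≫ toUnit U) (𝟙 _), Category.id_comp]
  have hζm : ∀ v v' : Pt U, zv ζ (v * v') = matPtOf M (v ≫ iU) *ᵥ zv ζ v' := fun v v' => by
    rw [hζ, hζ, MonObj.mul_comp, _root_.mul_assoc, hwm, Matrix.mulVec_sub, Matrix.mulVec_smul, hafix]
  by_cases hζ1 : zv ζ (1 : Pt U) = 0
  · rw [hζ, sub_eq_zero, MonObj.one_comp, _root_.one_mul] at hζ1
    obtain ⟨b, hb⟩ := hzcross g ((u ≫ iU) * g) 1 (by rw [one_smul, hwm, hζ1, Matrix.mulVec_smul, hafix])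
    exact ⟨b, by rw [← hb, _root_.mul_assoc]⟩
  exfalso
  obtain ⟨m₂, ζ', M₂, v₀, π₂, hM₂, hζb, hζ'm, hπ₂, hζζ'⟩ := exists_spanning ζ hζ1 fun v => ⟨_, hζm v⟩
  obtain ⟨N₂, hN₂, hNM₂⟩ := exists_dual hM₂
  obtain ⟨a₂, ha₂⟩ := Borel.exists_projAct hN₂
  haveI : Nonempty (Pn k m₂).left := by
    obtain ⟨x, -⟩ := Borel.exists_hasCrd (k := k) (v := (Pi.single 0 1 : Fin (m₂ + 1) → k))
      (fun h => one_ne_zero (α := k) (by simpa using congrFun h 0))
    exact ⟨pimg x⟩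
  obtain ⟨x₂, hx₂⟩ := Borel.exists_fixedPt U (Pn k m₂) a₂
  obtain ⟨ψ, hψ⟩ := Borel.exists_crd x₂
  have hψfix : ∀ v : Pt U, matPtOf N₂ v *ᵥ ψ = ψ := eigen_fixed hU hN₂ hψ.ne_zero fun v => by
    have h1 := hx₂ (𝟙_ _) v
    rw [toUnit_unique (toUnit (𝟙_ _)) (𝟙 _), Category.id_comp] at h1
    have h2 := ha₂ v x₂ ψ hψ
    rw [h1] at h2
    obtain ⟨c, -, e⟩ := crd_smul hψ h2
    exact ⟨c, e⟩
  have hψc : ∀ v : Pt U, ψ ⬝ᵥ zv ζ' v = ψ ⬝ᵥ zv ζ' (1 : Pt U) := fun v => by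
    have h1 := hζ'm v 1
    rw [_root_.mul_one] at h1
    rw [h1, Matrix.dotProduct_mulVec, ← Matrix.mulVec_transpose]
    have h2 := hNM₂ v⁻¹
    rw [_root_.inv_inv] at h2
    rw [← h2, hψfix]
  let C := ψ ⬝ᵥ zv ζ' (1 : Pt U)
  have hcℓ : ℓ ⬝ᵥ zv w g ≠ 0 := fun h0 => hne' (by
    have : O ≤ LinearMap.ker (dl ℓ) := Submodule.span_le.mpr (by
      rintro _ ⟨v, rfl⟩
      show ℓ ⬝ᵥ _ = 0
      rw [hcst, h0])
    exact this haO)
  let Φ : (Fin (m + 1) → k) →ₗ[k] k :=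
    (dl ψ).comp (π₂.comp (LinearMap.id - (ℓ ⬝ᵥ a')⁻¹ • (dl ℓ).smulRight a')) - (C / (ℓ ⬝ᵥ zv w g)) • dl ℓ
  have hΦ : O ≤ LinearMap.ker Φ := Submodule.span_le.mpr (by
    rintro _ ⟨v, rfl⟩
    show Φ _ = 0
    simp only [Φ, LinearMap.sub_apply, LinearMap.coe_comp, Function.comp_apply, LinearMap.smul_apply,
      LinearMap.id_apply, LinearMap.smulRight_apply, dl_apply, smul_eq_mul, hcst, smul_smul]
    rw [show zv w ((v ≫ iU) * g) - ((ℓ ⬝ᵥ a')⁻¹ * (ℓ ⬝ᵥ zv w g)) • a' = zv ζ v by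
      rw [hζ, inv_mul_eq_div], hπ₂, hψc, div_mul_cancel₀ _ hcℓ, sub_self])
  have hC : C = 0 := by
    have h1 := hΦ haO
    simp only [LinearMap.mem_ker, Φ, LinearMap.sub_apply, LinearMap.coe_comp, Function.comp_apply,
      LinearMap.smul_apply, LinearMap.id_apply, LinearMap.smulRight_apply, dl_apply, smul_eq_mul, smul_smul,
      inv_mul_cancel₀ hne', one_smul, sub_self, map_zero, dotProduct_zero, zero_sub, neg_eq_zero] at h1
    simpa [hne', hcℓ] using h1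
  refine hψ.ne_zero (funext fun l => ?_)
  have h1 := hψc (v₀ l)
  rw [hζb, dotProduct_single_one] at h1
  rw [h1]
  exact hC

end

end Groth.Agent.Deform.Luna
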