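import Groth.Agent.Deform.Luna.MonoClosedPts

/-!
# Monomorphisms of diagonalisable groups into separated groups are closed immersions
-/

set_option autoImplicit false
set_option linter.style.haveILetI false

universe u

open CategoryTheory CategoryTheory.Limits MonoidalCategory CartesianMonoidalCategory MonObj GrpObj AlgebraicGeometry

attribute [local instance] CategoryTheory.Hom.monoid CategoryTheory.Hom.group

namespace Groth.Agent.Deform.Luna.MonoClosed

open DSPtsLib (CoordM spU pt)
open DiagMaps (bcDS)

variable {A : Type} [AddCommGroup A] [AddGroup.FG A]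

set_option maxHeartbeats 1000000 in
/-- A monomorphic homomorphism from `D(A)` to a separated group of finite type over an affine base. -/
theorem isClosedImmersion_affine {R : Type u} [CommRing R] {G : Over (Spec (CommRingCat.of R))} [GrpObj G]
    [IsSeparated G.hom] [QuasiCompact G.hom] [LocallyOfFiniteType G.hom]
    (u : Red.DS (Spec (CommRingCat.of R)) A ⟶ G) [IsMonHom u] [Mono u] : IsClosedImmersion u.left := by
  have hm := SplitQuot.isMultTypeFT_DS (Spec (CommRingCat.of R)) A
  haveI : IsAffineHom (Red.DS (Spec (CommRingCat.of R)) A).hom := Deform.isAffineHom (Deform.isMultType_of_ft hm)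
  haveI : LocallyOfFiniteType (Red.DS (Spec (CommRingCat.of R)) A).hom := GrpSchLib.MultTypeLft.lft hm
  haveI : Mono u.left := (Over.forget _).map_mono u
  haveI : LocallyOfFiniteType (u.left ≫ G.hom) := by rw [Over.w u]; infer_instance
  haveI : LocallyOfFiniteType u.left := locallyOfFiniteType_of_comp u.left G.hom
  haveI : QuasiCompact u.left := by
    haveI : QuasiCompact (u.left ≫ G.hom) := by rw [Over.w u]; infer_instance
    exact QuasiCompact.of_comp u.left G.hom
  haveI : UniversallyClosed u.left := by
    refine UniversallyClosed.of_valuativeCriterion u.left fun sq => ?_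
    letI : Algebra R sq.R := (Spec.preimage (sq.i₂ ≫ G.hom)).hom.toAlgebra
    letI : Algebra R sq.K := ((algebraMap sq.R sq.K).comp (algebraMap R sq.R)).toAlgebra
    haveI : IsScalarTower R sq.R sq.K := IsScalarTower.of_algebraMap_eq fun _ => rfl
    let jV : Spec (CommRingCat.of sq.R) ⟶ Spec (CommRingCat.of R) := Spec.map (CommRingCat.ofHom (algebraMap R sq.R))
    have hjV : jV = sq.i₂ ≫ G.hom := Spec.map_preimage _
    let jK : Spec (CommRingCat.of sq.K) ⟶ Spec (CommRingCat.of R) := Spec.map (CommRingCat.ofHom (algebraMap R sq.K))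
    have hjK : Spec.map (CommRingCat.ofHom (algebraMap sq.R sq.K)) ≫ jV = jK := by
      rw [← Spec.map_comp]
      rfl
    let x : spU jV ⟶ G := Over.homMk sq.i₂ hjV.symm
    let y : spU jK ⟶ Red.DS (Spec (CommRingCat.of R)) A := Over.homMk sq.i₁ (by
      show sq.i₁ ≫ _ = jK
      rw [← Over.w u, ← Category.assoc, sq.commSq.w, Category.assoc, ← hjV, hjK])
    obtain ⟨c, hc⟩ := DSPtsLib.exists_eq_pt jK y
    have hx : Spec.map (CommRingCat.ofHom (algebraMap sq.R sq.K)) ≫ x.left = (pt jK c ≫ u).left := by
      rw [← hc]
      exact sq.commSq.w.symm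
    choose v hv using exists_integral u c x hx
    let χ : Multiplicative A →* sq.R :=
      { toFun := fun m => v (Multiplicative.toAdd m)
        map_one' := IsFractionRing.injective sq.R sq.K ((hv _).trans ((single_zero c).trans (map_one _).symm))
        map_mul' := fun m₁ m₂ => IsFractionRing.injective sq.R sq.K
          ((hv _).trans ((single_mul c _ _).trans (by rw [map_mul, hv, hv]))) }
    letI : Algebra (ULift.{u} ℤ) sq.R := ((algebraMap ℤ sq.R).comp ULift.ringEquiv.toRingHom).toAlgebra
    let c' : CoordM.{u} A →+* sq.R := GrpSchLib.HomMonoLocus.charOf (R := ULift.{u} ℤ) χ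
    have hc' : (algebraMap sq.R sq.K).comp c' = c := by
      refine MonoidAlgebra.ringHom_ext (fun r => ?_) fun m => ?_
      · exact RingHom.congr_fun (DSPtsLib.ulift_ringHom_ext
          (((algebraMap sq.R sq.K).comp c').comp MonoidAlgebra.singleOneRingHom)
          (c.comp MonoidAlgebra.singleOneRingHom)) r
      · rw [RingHom.comp_apply, GrpSchLib.HomMonoLocus.charOf_single]
        exact hv _
    have h1 : Spec.map (CommRingCat.ofHom (algebraMap sq.R sq.K)) ≫ (pt jV c').left = sq.i₁ := by
      have h := DSPtsLib.pt_comp jV c' (algebraMap sq.R sq.K) jK hjK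
      rw [hc', ← hc] at h
      exact congrArg CommaMorphism.left h
    refine CommSq.HasLift.mk' ⟨(pt jV c').left, h1, ?_⟩
    haveI : IsDominant (Spec.map (CommRingCat.ofHom (algebraMap sq.R sq.K))) :=
      AlgSpVal.isDominant_generic (IsFractionRing.injective sq.R sq.K)
    refine ext_of_isDominant_of_isSeparated G.hom ?_ (Spec.map (CommRingCat.ofHom (algebraMap sq.R sq.K))) ?_
    · rw [Category.assoc, Over.w u, Over.w (pt jV c')]
      exact hjV
    · rw [reassoc_of% h1]
      exact sq.commSq.w
  haveI : IsProper u.left := { }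
  exact (IsClosedImmersion.iff_isProper_and_mono _).mpr ⟨inferInstance, inferInstance⟩

set_option maxHeartbeats 1000000 in
/-- **A monomorphic homomorphism from `D(A)` to a separated group of finite type is a closed immersion.** -/
theorem isClosedImmersion_DS {S : Scheme.{u}} {G : Over S} [GrpObj G] [IsSeparated G.hom] [QuasiCompact G.hom]
    [LocallyOfFiniteType G.hom] (u : Red.DS S A ⟶ G) [IsMonHom u] [Mono u] : IsClosedImmersion u.left := by
  let 𝒱 := S.affineOpenCover.openCover
  refine IsZariskiLocalAtTarget.of_openCover (P := @IsClosedImmersion) (𝒱.pullback₁ G.hom) fun i => ?_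
  let g : Spec (CommRingCat.of (S.affineOpenCover.X i : Type u)) ⟶ S := 𝒱.f i
  haveI : IsSeparated (Red.bc g G).hom := inferInstanceAs (IsSeparated (pullback.snd G.hom g))
  haveI : QuasiCompact (Red.bc g G).hom := inferInstanceAs (QuasiCompact (pullback.snd G.hom g))
  haveI : LocallyOfFiniteType (Red.bc g G).hom := inferInstanceAs (LocallyOfFiniteType (pullback.snd G.hom g))
  let m : Red.bc g (Red.DS S A) ⟶ Red.bc g G := (Over.pullback g).map u
  haveI : IsMonHom (bcDS g A).inv := inferInstance
  haveI : Mono ((bcDS g A).inv ≫ m) := inferInstanceAs (Mono ((bcDS g A).inv ≫ (Over.pullback g).map u))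
  haveI : IsMonHom ((bcDS g A).inv ≫ m) := inferInstanceAs (IsMonHom ((bcDS g A).inv ≫ (Over.pullback g).map u))
  have h := isClosedImmersion_affine (R := (S.affineOpenCover.X i : Type u)) ((bcDS g A).inv ≫ m)
  haveI : IsIso (bcDS g A).inv.left := ((Over.forget _).mapIso (bcDS g A).symm).isIso_hom
  rw [Over.comp_left, MorphismProperty.cancel_left_of_respectsIso (P := @IsClosedImmersion)] at h
  have sq := GrpSchLib.HomSplitLocal.isPullback_map u g
  have e : m.left = sq.flip.isoPullback.hom ≫ pullback.fst (pullback.fst G.hom g) u.left :=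
    sq.flip.isoPullback_hom_fst.symm
  rw [e, MorphismProperty.cancel_left_of_respectsIso (P := @IsClosedImmersion)] at h
  show IsClosedImmersion (pullback.snd u.left (pullback.fst G.hom g))
  rw [← pullbackSymmetry_hom_comp_fst, MorphismProperty.cancel_left_of_respectsIso (P := @IsClosedImmersion)]
  exact h

end Groth.Agent.Deform.Luna.MonoClosed
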