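import Groth.Agent.Deform.DiagMaps
import Groth.Agent.Deform.QuotField
import Groth.Agent.Deform.SplitQuot
import Groth.Agent.AlgSpVal.Basic

/-!
# Integral points of monomorphic diagonalisable subgroups

If a monomorphic homomorphism `u : D(A) ⟶ G` into a separated quasi-compact group of finite type sends a point `c` with
values in the fraction field of a valuation ring `V` to a point with values in `V`, then `c` has values in `V`.
-/

set_option autoImplicit false
set_option linter.style.haveILetI false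

universe u

open CategoryTheory CategoryTheory.Limits MonoidalCategory CartesianMonoidalCategory MonObj GrpObj AlgebraicGeometry
open scoped TensorProduct

attribute [local instance] CategoryTheory.Hom.monoid CategoryTheory.Hom.group

namespace Groth.Agent.Deform.Luna.MonoClosed

open DSPtsLib (CoordM spU pt)
open GrpSchLib.SubgroupFactor (pull pull_single)

variable {S : Scheme.{u}} {A : Type} [AddCommGroup A]

theorem single_mul {B : Type u} [CommRing B] (c : CoordM.{u} A →+* B) (a b : A) :
    c (MonoidAlgebra.single (Multiplicative.ofAdd (a + b)) 1) =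
      c (MonoidAlgebra.single (Multiplicative.ofAdd a) 1) * c (MonoidAlgebra.single (Multiplicative.ofAdd b) 1) := by
  rw [← map_mul, MonoidAlgebra.single_mul_single, _root_.one_mul, ofAdd_add]

theorem single_zero {B : Type u} [CommRing B] (c : CoordM.{u} A →+* B) :
    c (MonoidAlgebra.single (Multiplicative.ofAdd (0 : A)) 1) = 1 := map_one c

/-- Powers of points of a diagonalisable group. -/
theorem pt_pow {B : Type u} [CommRing B] (j : Spec (CommRingCat.of B) ⟶ S) (c : CoordM.{u} A →+* B) (n : ℕ) :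
    pt j c ^ n = pt j (pull (n • AddMonoidHom.id A) c) := by
  induction n with
  | zero =>
    refine (_root_.pow_zero _).trans (DiagMaps.pt_eq_one j _ fun m => ?_).symm
    rw [pull_single]
    simp only [zero_smul]
    exact map_one c
  | succ n ih =>
    rw [pow_succ, ih]
    refine DSPtsLib.pt_mul j _ _ _ fun m => ?_
    rw [pull_single, pull_single]
    have h := single_mul c ((n • AddMonoidHom.id A) (Multiplicative.toAdd m)) (Multiplicative.toAdd m)
    simp only [succ_nsmul]
    exact h

variable {R : Type u} [CommRing R]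

/-- Elements of a base change to the residue field at a prime have denominators. -/
theorem exists_num {B V : Type u} [CommRing B] [CommRing V] [Algebra R B] [Algebra R V] (p : Ideal V) [p.IsPrime]
    (z : B ⊗[R] p.ResidueField) :
    ∃ d : V, d ∉ p ∧ ∃ f : B ⊗[R] V, ((1 : B) ⊗ₜ[R] algebraMap V p.ResidueField d) * z =
      Algebra.TensorProduct.map (AlgHom.id R B) (IsScalarTower.toAlgHom R V p.ResidueField) f := by
  induction z using TensorProduct.induction_on with
  | zero => exact ⟨1, fun h => ‹p.IsPrime›.ne_top (p.eq_top_iff_one.mpr h), 0, by simp⟩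
  | tmul b l =>
    obtain ⟨v, w, hw, hvw⟩ := IsFractionRing.div_surjective (V ⧸ p) l
    obtain ⟨v, rfl⟩ := Ideal.Quotient.mk_surjective v
    obtain ⟨w', rfl⟩ := Ideal.Quotient.mk_surjective w
    have hwp : w' ∉ p := fun h => nonZeroDivisors.ne_zero hw (Ideal.Quotient.eq_zero_iff_mem.mpr h)
    refine ⟨w', hwp, b ⊗ₜ v, ?_⟩
    rw [Algebra.TensorProduct.tmul_mul_tmul, _root_.one_mul, Algebra.TensorProduct.map_tmul, AlgHom.id_apply]
    congr 1
    have hw0 : algebraMap V p.ResidueField w' ≠ 0 := fun h => hwp (Ideal.algebraMap_residueField_eq_zero.mp h)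
    rw [← hvw]
    show algebraMap V p.ResidueField w' * (algebraMap (V ⧸ p) p.ResidueField (Ideal.Quotient.mk p v) /
      algebraMap (V ⧸ p) p.ResidueField (Ideal.Quotient.mk p w')) = algebraMap V p.ResidueField v
    rw [Ideal.algebraMap_quotient_residueField_mk, Ideal.algebraMap_quotient_residueField_mk, mul_div_cancel₀ _ hw0]
  | add z₁ z₂ h₁ h₂ =>
    obtain ⟨d₁, hd₁, f₁, e₁⟩ := h₁
    obtain ⟨d₂, hd₂, f₂, e₂⟩ := h₂
    refine ⟨d₁ * d₂, fun h => (‹p.IsPrime›.mem_or_mem h).elim hd₁ hd₂,
      ((1 : B) ⊗ₜ[R] d₂) * f₁ + ((1 : B) ⊗ₜ[R] d₁) * f₂, ?_⟩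
    simp only [map_add, map_mul, ← e₁, ← e₂, Algebra.TensorProduct.map_tmul, AlgHom.id_apply,
      IsScalarTower.coe_toAlgHom']
    have h : (1 : B) ⊗ₜ[R] (algebraMap V p.ResidueField d₁ * algebraMap V p.ResidueField d₂) =
        ((1 : B) ⊗ₜ[R] algebraMap V p.ResidueField d₁) * ((1 : B) ⊗ₜ[R] algebraMap V p.ResidueField d₂) := by
      rw [Algebra.TensorProduct.tmul_mul_tmul, _root_.one_mul]
    rw [h]
    ring

variable {V : Type u} [CommRing V] [IsDomain V] [ValuationRing V]

/-- The prime of the elements divisible by every power of a nonzero nonunit. -/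
def infPrime (t : V) : Ideal V := ⨅ n : ℕ, Ideal.span {t ^ n}

theorem mem_infPrime {t x : V} : x ∈ infPrime t ↔ ∀ n : ℕ, t ^ n ∣ x := by
  simp only [infPrime, Ideal.mem_iInf, Ideal.mem_span_singleton]

theorem isPrime_infPrime {t : V} (ht : ¬IsUnit t) (ht0 : t ≠ 0) : (infPrime t).IsPrime := by
  refine Ideal.isPrime_iff.mpr ⟨fun h => ?_, fun {x y} hxy => ?_⟩
  · have h1 := mem_infPrime.mp (h ▸ Submodule.mem_top : (1 : V) ∈ infPrime t) 1
    exact ht (isUnit_of_dvd_one (by simpa using h1))
  by_contra hn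
  rw [not_or, mem_infPrime, mem_infPrime] at hn
  push_neg at hn
  obtain ⟨⟨n, hn⟩, m, hm⟩ := hn
  have hxn : x ∣ t ^ n := (ValuationRing.dvd_total x (t ^ n)).resolve_right hn
  have hym : y ∣ t ^ m := (ValuationRing.dvd_total y (t ^ m)).resolve_right hm
  have h1 : t ^ (n + m + 1) ∣ t ^ (n + m) := by
    refine (mem_infPrime.mp hxy (n + m + 1)).trans ?_
    rw [pow_add]
    exact mul_dvd_mul hxn hym
  obtain ⟨c, hc⟩ := h1
  rw [pow_succ, _root_.mul_assoc] at hc
  have h2 : t * c = 1 := mul_left_cancel₀ (pow_ne_zero (n + m) ht0) (by rw [← hc, _root_.mul_one])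
  exact ht (IsUnit.of_mul_eq_one _ h2)

theorem notMem_infPrime {t : V} (ht : ¬IsUnit t) (ht0 : t ≠ 0) : t ∉ infPrime t := fun h => by
  obtain ⟨c, hc⟩ := mem_infPrime.mp h 2
  rw [pow_two, _root_.mul_assoc] at hc
  exact ht (IsUnit.of_mul_eq_one _ (mul_left_cancel₀ ht0 (by rw [← hc, _root_.mul_one])))

variable {K : Type u} [Field K] [Algebra V K] [IsFractionRing V K] [Algebra R V] [Algebra R K] [IsScalarTower R V K]

set_option maxHeartbeats 1000000 in
/-- **A point of a monomorphic diagonalisable subgroup which is integral in the group is integral.** -/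
theorem exists_integral [AddGroup.FG A] {G : Over (Spec (CommRingCat.of R))} [GrpObj G] [IsSeparated G.hom]
    [QuasiCompact G.hom] [LocallyOfFiniteType G.hom] (u : Red.DS (Spec (CommRingCat.of R)) A ⟶ G) [IsMonHom u]
    [Mono u] (c : CoordM.{u} A →+* K) (x : spU (Spec.map (CommRingCat.ofHom (algebraMap R V))) ⟶ G)
    (hx : Spec.map (CommRingCat.ofHom (algebraMap V K)) ≫ x.left =
      (pt (Spec.map (CommRingCat.ofHom (algebraMap R K))) c ≫ u).left) (b : A) :
    ∃ v : V, algebraMap V K v = c (MonoidAlgebra.single (Multiplicative.ofAdd b) 1) := by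
  classical
  let f : A → K := fun a => c (MonoidAlgebra.single (Multiplicative.ofAdd a) 1)
  have fadd : ∀ a b, f (a + b) = f a * f b := single_mul c
  have fzero : f 0 = 1 := single_zero c
  have fneg : ∀ a, f a * f (-a) = 1 := fun a => by rw [← fadd, add_neg_cancel, fzero]
  have finj := IsFractionRing.injective V K
  obtain ⟨s, hs⟩ := AddGroup.fg_def.mp (inferInstance : AddGroup.FG A)
  -- orient the generators
  have hor : ∀ g : A, ∃ e : A, (e = g ∨ e = -g) ∧ ∃ v : V, f e * algebraMap V K v = 1 := fun g => by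
    rcases ValuationRing.isInteger_or_isInteger V (f g) with ⟨v, hv⟩ | ⟨v, hv⟩
    · exact ⟨-g, Or.inr rfl, v, by rw [hv, _root_.mul_comm, fneg]⟩
    · exact ⟨g, Or.inl rfl, v, by rw [hv]; exact mul_inv_cancel₀ (left_ne_zero_of_mul_eq_one (fneg g))⟩
  choose e he w hw using hor
  let a : A := ∑ g ∈ s, e g
  let t : V := ∏ g ∈ s, w g
  have hat : f a * algebraMap V K t = 1 := by
    show f (∑ g ∈ s, e g) * algebraMap V K (∏ g ∈ s, w g) = 1
    clear_value f
    clear hs
    induction s using Finset.induction_on with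
    | empty => simp [fzero]
    | insert g s' hg ih =>
      rw [Finset.sum_insert hg, Finset.prod_insert hg, fadd, map_mul, _root_.mul_mul_mul_comm, hw, _root_.one_mul]
      exact ih
  have hwdvd : ∀ g ∈ s, w g ∣ t := fun g hg => Finset.dvd_prod_of_mem _ hg
  by_cases htu : IsUnit t
  · -- all values are units
    let W : AddSubgroup A :=
      { carrier := {b | ∃ v : Vˣ, algebraMap V K v = f b}
        add_mem' := fun {b₁ b₂} ⟨v₁, h₁⟩ ⟨v₂, h₂⟩ => ⟨v₁ * v₂, by rw [Units.val_mul, map_mul, h₁, h₂, fadd]⟩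
        zero_mem' := ⟨1, by rw [Units.val_one, map_one, fzero]⟩
        neg_mem' := fun {b} ⟨v, h⟩ => ⟨v⁻¹, by
          refine mul_left_cancel₀ (left_ne_zero_of_mul_eq_one (fneg b)) ?_
          rw [fneg, ← h, ← map_mul, Units.mul_inv, map_one]⟩ }
    have hsW : (s : Set A) ⊆ W := fun g hg => by
      obtain ⟨v, hv⟩ : IsUnit (w g) := isUnit_of_dvd_unit (hwdvd g hg) htu
      have hmem : e g ∈ W := ⟨v⁻¹, by
        refine mul_right_cancel₀ (right_ne_zero_of_mul_eq_one (hw g)) ?_
        rw [hw, ← hv, ← map_mul, Units.inv_mul, map_one]⟩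
      rcases he g with h | h
      · rwa [h] at hmem
      · rw [h] at hmem
        exact neg_mem_iff.mp hmem
    obtain ⟨v, hv⟩ := (hs ▸ (AddSubgroup.closure_le W).mpr hsW) (AddSubgroup.mem_top b)
    exact ⟨v, hv⟩
  exfalso
  have ht0 : t ≠ 0 := fun h => by rw [h, map_zero, MulZeroClass.mul_zero] at hat; exact zero_ne_one hat
  haveI hp : (infPrime t).IsPrime := isPrime_infPrime htu ht0
  set p := infPrime t
  have htp : t ∉ p := notMem_infPrime htu ht0
  -- the point is integral at the prime
  let Vp := Localization.AtPrime p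
  have hle : p.primeCompl ≤ nonZeroDivisors V := Ideal.primeCompl_le_nonZeroDivisors p
  haveI : IsDomain Vp := IsLocalization.isDomain_of_le_nonZeroDivisors Vp hle
  let ι₀ : Vp →+* K := IsLocalization.lift (M := p.primeCompl) (g := algebraMap V K) fun y =>
    isUnit_iff_ne_zero.mpr (fun h => nonZeroDivisors.ne_zero (hle y.2) (finj (h.trans (map_zero _).symm)))
  have hι₀ : ∀ v : V, ι₀ (algebraMap V Vp v) = algebraMap V K v := fun v => IsLocalization.lift_eq _ v
  have hι₀inj : Function.Injective ι₀ := (IsLocalization.lift_injective_iff _).mpr fun x y =>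
    ⟨fun h => congrArg _ (IsLocalization.injective Vp hle h), fun h => congrArg _ (finj h)⟩
  let W : AddSubgroup A :=
    { carrier := {b | ∃ z : Vpˣ, ι₀ z = f b}
      add_mem' := fun {b₁ b₂} ⟨v₁, h₁⟩ ⟨v₂, h₂⟩ => ⟨v₁ * v₂, by rw [Units.val_mul, map_mul, h₁, h₂, fadd]⟩
      zero_mem' := ⟨1, by rw [Units.val_one, map_one, fzero]⟩
      neg_mem' := fun {b} ⟨v, h⟩ => ⟨v⁻¹, by
        refine mul_left_cancel₀ (left_ne_zero_of_mul_eq_one (fneg b)) ?_
        rw [fneg, ← h, ← map_mul, Units.mul_inv, map_one]⟩ }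
  have hsW : (s : Set A) ⊆ W := fun g hg => by
    obtain ⟨v, hv⟩ : IsUnit (algebraMap V Vp (w g)) :=
      IsLocalization.map_units Vp (⟨w g, fun h => htp (by
        obtain ⟨r, hr⟩ := hwdvd g hg
        rw [hr]
        exact p.mul_mem_right _ h)⟩ : p.primeCompl)
    have hmem : e g ∈ W := ⟨v⁻¹, by
      refine mul_right_cancel₀ (right_ne_zero_of_mul_eq_one (hw g)) ?_
      rw [hw, ← hι₀, ← hv, ← map_mul, Units.inv_mul, map_one]⟩
    rcases he g with h | h
    · rwa [h] at hmem
    · rw [h] at hmem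
      exact neg_mem_iff.mp hmem
  have hW : ∀ b : A, ∃ z : Vpˣ, ι₀ z = f b := fun b => (hs ▸ (AddSubgroup.closure_le W).mpr hsW) (AddSubgroup.mem_top b)
  choose z hz using hW
  let χ : Multiplicative A →* Vp :=
    { toFun := fun m => z (Multiplicative.toAdd m)
      map_one' := hι₀inj ((hz _).trans (fzero.trans (map_one ι₀).symm))
      map_mul' := fun m₁ m₂ => hι₀inj ((hz _).trans ((fadd _ _).trans (by rw [map_mul, hz, hz]))) }
  letI : Algebra (ULift.{u} ℤ) Vp := ((algebraMap ℤ Vp).comp ULift.ringEquiv.toRingHom).toAlgebra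
  let cp : CoordM.{u} A →+* Vp := GrpSchLib.HomMonoLocus.charOf (R := ULift.{u} ℤ) χ
  have hcp : ι₀.comp cp = c := by
    refine MonoidAlgebra.ringHom_ext (fun r => ?_) fun m => ?_
    · exact RingHom.congr_fun (DSPtsLib.ulift_ringHom_ext ((ι₀.comp cp).comp MonoidAlgebra.singleOneRingHom)
        (c.comp MonoidAlgebra.singleOneRingHom)) r
    · rw [RingHom.comp_apply, GrpSchLib.HomMonoLocus.charOf_single]
      exact hz _
  let jp : Spec (CommRingCat.of Vp) ⟶ Spec (CommRingCat.of R) := Spec.map (CommRingCat.ofHom (algebraMap R Vp))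
  have hxp : Spec.map (CommRingCat.ofHom (algebraMap V Vp)) ≫ x.left = (pt jp cp ≫ u).left := by
    haveI : IsDominant (Spec.map (CommRingCat.ofHom ι₀)) := by
      letI := ι₀.toAlgebra
      exact AlgSpVal.isDominant_generic (A := Vp) (K := K) hι₀inj
    refine ext_of_isDominant_of_isSeparated G.hom ?_ (Spec.map (CommRingCat.ofHom ι₀)) ?_
    · rw [Category.assoc, Over.w x, Over.w (pt jp cp ≫ u)]
      exact (Spec.map_comp _ _).symm
    · have hj : Spec.map (CommRingCat.ofHom ι₀) ≫ jp = Spec.map (CommRingCat.ofHom (algebraMap R K)) := by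
        rw [← Spec.map_comp, ← CommRingCat.ofHom_comp]
        congr 2
        refine RingHom.ext fun r => ?_
        rw [RingHom.comp_apply, IsScalarTower.algebraMap_apply R V Vp]
        rw [hι₀, ← IsScalarTower.algebraMap_apply]
      rw [← Category.assoc, ← Spec.map_comp, ← CommRingCat.ofHom_comp,
        show ι₀.comp (algebraMap V Vp) = algebraMap V K from RingHom.ext hι₀, hx, ← hcp,
        ← DSPtsLib.pt_comp jp cp ι₀ _ hj, Category.assoc]
      rfl
  -- over the residue field
  let L := p.ResidueField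
  let κp : Vp →+* L := algebraMap Vp L
  let ιL : Spec (CommRingCat.of L) ⟶ Spec (CommRingCat.of R) := Spec.map (CommRingCat.ofHom (algebraMap R L))
  let cL : CoordM.{u} A →+* L := κp.comp cp
  have hκ : κp.comp (algebraMap V Vp) = algebraMap V L := (IsScalarTower.algebraMap_eq V Vp L).symm
  have hcLt : cL (MonoidAlgebra.single (Multiplicative.ofAdd a) 1) * algebraMap V L t = 1 := by
    have h1 : cp (MonoidAlgebra.single (Multiplicative.ofAdd a) 1) * algebraMap V Vp t = 1 := hι₀inj (by
      rw [map_mul, map_one, hι₀, ← RingHom.comp_apply ι₀ cp, hcp]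
      exact hat)
    rw [← hκ, RingHom.comp_apply, RingHom.comp_apply, ← map_mul, h1, map_one]
  let ρ : spU ιL ⟶ spU (Spec.map (CommRingCat.ofHom (algebraMap R V))) :=
    Over.homMk (Spec.map (CommRingCat.ofHom (algebraMap V L))) (by
      show Spec.map _ ≫ Spec.map _ = ιL
      rw [← Spec.map_comp, ← CommRingCat.ofHom_comp, ← IsScalarTower.algebraMap_eq])
  have hxL : ρ ≫ x = pt ιL cL ≫ u := by
    have hj : Spec.map (CommRingCat.ofHom κp) ≫ jp = ιL := by
      rw [← Spec.map_comp, ← CommRingCat.ofHom_comp, IsScalarTower.algebraMap_eq R V Vp, ← RingHom.comp_assoc, hκ,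
        ← IsScalarTower.algebraMap_eq]
    refine Over.OverMorphism.ext ?_
    show Spec.map (CommRingCat.ofHom (algebraMap V L)) ≫ x.left = _
    rw [← hκ, CommRingCat.ofHom_comp, Spec.map_comp, Category.assoc, hxp,
      ← DSPtsLib.pt_comp jp cp κp _ hj, Category.assoc]
    rfl
  have hpow : ∀ n : ℕ, ρ ≫ x ^ n = pt ιL (pull (n • AddMonoidHom.id A) cL) ≫ u := fun n => by
    induction n with
    | zero => rw [_root_.pow_zero, MonObj.comp_one, ← pt_pow, _root_.pow_zero, MonObj.one_comp]
    | succ n ih =>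
      rw [pow_succ, MonObj.comp_mul, ih, hxL, ← pt_pow, ← pt_pow, pow_succ _ n, MonObj.mul_comp]
  -- infinitely many powers reduce into one affine open
  haveI : CompactSpace G.left := QuasiCompact.compactSpace_of_compactSpace G.hom
  let z₀ : ℕ → G.left := fun n => (x ^ n).left (IsLocalRing.closedPoint V)
  let 𝒰 := G.left.affineCover
  obtain ⟨F, hF⟩ := isCompact_univ.elim_finite_subcover (fun i => ((𝒰.f i).opensRange : Set G.left))
    (fun i => (𝒰.f i).opensRange.2) fun y _ => Set.mem_iUnion.mpr ⟨_, 𝒰.covers y⟩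
  have hsel : ∀ n : ℕ, ∃ i : F, z₀ n ∈ (𝒰.f i.1).opensRange := fun n => by
    obtain ⟨i, hi, hn⟩ := Set.mem_iUnion₂.mp (hF (Set.mem_univ (z₀ n)))
    exact ⟨⟨i, hi⟩, hn⟩
  choose sel hsel using hsel
  obtain ⟨i, hi⟩ := Finite.exists_infinite_fiber sel
  let U : G.left.Opens := (𝒰.f i.1).opensRange
  have hU : IsAffineOpen U := isAffineOpen_opensRange _
  let B : Type u := Γ(G.left, U)
  let o₀ : Spec (CommRingCat.of B) ⟶ G.left := hU.fromSpec
  haveI : IsOpenImmersion o₀ := inferInstanceAs (IsOpenImmersion hU.fromSpec)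
  letI : Algebra R B := (Spec.preimage (o₀ ≫ G.hom)).hom.toAlgebra
  have hB : Spec.map (CommRingCat.ofHom (algebraMap R B)) = o₀ ≫ G.hom := Spec.map_preimage _
  -- the closed subscheme of the affine open over the residue field
  let uL := ((Over.pullback ιL).map u).left
  haveI := SplitQuot.isMultTypeFT_DS (Spec (CommRingCat.of R)) A
  haveI hDa : IsAffineHom (Red.DS (Spec (CommRingCat.of R)) A).hom :=
    Deform.isAffineHom (Deform.isMultType_of_ft (SplitQuot.isMultTypeFT_DS _ A))
  haveI : LocallyOfFiniteType (Red.DS (Spec (CommRingCat.of R)) A).hom :=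
    GrpSchLib.MultTypeLft.lft (SplitQuot.isMultTypeFT_DS _ A)
  haveI : LocallyOfFiniteType (Red.bc ιL (Red.DS (Spec (CommRingCat.of R)) A)).hom :=
    inferInstanceAs (LocallyOfFiniteType (pullback.snd _ ιL))
  haveI : LocallyOfFiniteType (Red.bc ιL G).hom := inferInstanceAs (LocallyOfFiniteType (pullback.snd _ ιL))
  haveI : IsSeparated (Red.bc ιL G).hom := inferInstanceAs (IsSeparated (pullback.snd _ ιL))
  haveI : QuasiCompact (Red.bc ιL (Red.DS (Spec (CommRingCat.of R)) A)).hom :=
    inferInstanceAs (QuasiCompact (pullback.snd _ ιL))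
  haveI : QuasiCompact uL := by
    haveI : QuasiCompact (((Over.pullback ιL).map u).left ≫ (Red.bc ιL G).hom) := by
      rw [Over.w ((Over.pullback ιL).map u)]; infer_instance
    exact QuasiCompact.of_comp uL (Red.bc ιL G).hom
  haveI : IsClosedImmersion uL := QuotField.isClosedImmersion_hom ((Over.pullback ιL).map u)
  let o : Spec (CommRingCat.of (B ⊗[R] L)) ⟶ pullback G.hom ιL :=
    (pullbackSpecIso R B L).inv ≫ pullback.map _ _ G.hom ιL o₀ (𝟙 _) (𝟙 _)
      (by rw [hB, Category.comp_id]) (by rw [Category.id_comp, Category.comp_id])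
  let h : pullback uL o ⟶ Spec (CommRingCat.of (B ⊗[R] L)) := pullback.snd uL o
  haveI : IsClosedImmersion h := inferInstanceAs (IsClosedImmersion (pullback.snd uL o))
  haveI : IsAffine (pullback uL o) := isAffine_of_isAffineHom h
  let π : pullback uL o ⟶ Spec (CommRingCat.of (CoordM.{u} A)) :=
    pullback.fst uL o ≫ pullback.fst _ ιL ≫ pullback.fst _ _
  let α := π.appTop ((Scheme.ΓSpecIso (CommRingCat.of (CoordM.{u} A))).inv
    (MonoidAlgebra.single (Multiplicative.ofAdd a) 1))
  obtain ⟨β', hβ'⟩ := (IsClosedImmersion.isAffine_surjective_of_isAffine h).2 α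
  obtain ⟨ζ, rfl⟩ := (ConcreteCategory.bijective_of_isIso
    (Scheme.ΓSpecIso (CommRingCat.of (B ⊗[R] L))).inv).2 β'
  obtain ⟨d, hd, num, hnum⟩ := exists_num (R := R) (B := B) p ζ
  refine hd (mem_infPrime.mpr fun m => ?_)
  obtain ⟨n, hn, hnm⟩ := (Set.infinite_coe_iff.mp hi).exists_gt m
  -- the n-th power as a point of the affine open
  have hzU : z₀ n ∈ U := by
    have : sel n = i := hn
    show z₀ n ∈ (𝒰.f i.1).opensRange
    rw [← this]
    exact hsel n
  have hrange : Set.range (x ^ n).left ⊆ Set.range o₀ := by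
    rintro _ ⟨y, rfl⟩
    show (x ^ n).left y ∈ Set.range hU.fromSpec
    rw [hU.range_fromSpec]
    exact ((IsLocalRing.specializes_closedPoint y).map (x ^ n).left.continuous).mem_open U.2 hzU
  let yS : Spec (CommRingCat.of V) ⟶ Spec (CommRingCat.of B) := IsOpenImmersion.lift o₀ (x ^ n).left hrange
  have hyS : yS ≫ o₀ = (x ^ n).left := IsOpenImmersion.lift_fac _ _ _
  let y : B →ₐ[R] V :=
    { (Spec.preimage yS).hom with
      commutes' := fun r => by
        have h1 : Spec.preimage (o₀ ≫ G.hom) ≫ Spec.preimage yS = CommRingCat.ofHom (algebraMap R V) := by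
          refine Spec.map_injective ?_
          rw [Spec.map_comp, Spec.map_preimage, Spec.map_preimage, reassoc_of% hyS]
          exact Over.w (x ^ n)
        exact congrArg (fun φ => φ.hom r) h1 }
  let ev : B ⊗[R] L →ₐ[R] L := Algebra.TensorProduct.lift ((IsScalarTower.toAlgHom R V L).comp y) (AlgHom.id R L)
    fun _ _ => Commute.all _ _
  let q : Spec (CommRingCat.of L) ⟶ Spec (CommRingCat.of (B ⊗[R] L)) := Spec.map (CommRingCat.ofHom ev.toRingHom)
  let cn := pull (n • AddMonoidHom.id A) cL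
  let P₀ : Spec (CommRingCat.of L) ⟶ (Red.bc ιL (Red.DS (Spec (CommRingCat.of R)) A)).left :=
    pullback.lift (pt ιL cn).left (𝟙 _) (by rw [Category.id_comp]; exact Over.w (pt ιL cn))
  have hq₁ : q ≫ (pullbackSpecIso R B L).inv ≫ pullback.fst _ _ =
      Spec.map (CommRingCat.ofHom (algebraMap V L)) ≫ yS := by
    rw [pullbackSpecIso_inv_fst, ← Spec.map_comp, ← Spec.map_preimage yS, ← Spec.map_comp]
    congr 1
    refine CommRingCat.hom_ext (RingHom.ext fun (b : B) => ?_)
    show ev (b ⊗ₜ[R] (1 : L)) = _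
    rw [Algebra.TensorProduct.lift_tmul, map_one, _root_.mul_one]
    rfl
  have hq₂ : q ≫ (pullbackSpecIso R B L).inv ≫ pullback.snd _ _ = 𝟙 _ := by
    rw [pullbackSpecIso_inv_snd, ← Spec.map_comp, ← Spec.map_id]
    congr 1
    refine CommRingCat.hom_ext (RingHom.ext fun (l : L) => ?_)
    show ev ((1 : B) ⊗ₜ[R] l) = l
    rw [Algebra.TensorProduct.lift_tmul, map_one, _root_.one_mul]
    rfl
  have hkey : P₀ ≫ uL = q ≫ o := by
    refine pullback.hom_ext ?_ ?_
    · simp only [o, Category.assoc, pullback.lift_fst]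
      rw [ActBC.pullback_map_left_fst ιL u, pullback.lift_fst_assoc, reassoc_of% hq₁, hyS]
      exact congrArg CommaMorphism.left (hpow n).symm
    · simp only [o, Category.assoc, pullback.lift_snd, Category.comp_id]
      rw [hq₂]
      exact (congrArg (P₀ ≫ ·) (Over.w ((Over.pullback ιL).map u))).trans (pullback.lift_snd _ _ _)
  let wP := pullback.lift P₀ q hkey
  have hwπ : wP ≫ π = Spec.map (CommRingCat.ofHom cn) := by
    simp only [π, wP, pullback.lift_fst_assoc, P₀]
    exact DSPtsLib.pt_fst ιL cn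
  have hwh : wP ≫ h = q := pullback.lift_snd _ _ _
  have hval : ev ζ = cn (MonoidAlgebra.single (Multiplicative.ofAdd a) 1) := by
    have h1 := congrArg wP.appTop hβ'
    simp only [α, ← ConcreteCategory.comp_apply, ← Scheme.Hom.comp_appTop, Category.assoc] at h1
    rw [hwh, hwπ, ← Scheme.ΓSpecIso_inv_naturality, ← Scheme.ΓSpecIso_inv_naturality] at h1
    exact (ConcreteCategory.bijective_of_isIso (Scheme.ΓSpecIso (CommRingCat.of L)).inv).1 h1
  have hcn : cn (MonoidAlgebra.single (Multiplicative.ofAdd a) 1) =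
      cL (MonoidAlgebra.single (Multiplicative.ofAdd a) 1) ^ n := by
    simp only [cn, pull_single]
    rw [← map_pow, MonoidAlgebra.single_pow, one_pow, ← ofAdd_nsmul]
    rfl
  let y' : B ⊗[R] V →ₐ[R] V := Algebra.TensorProduct.lift y (AlgHom.id R V) fun _ _ => Commute.all _ _
  have hy' : ev.comp (Algebra.TensorProduct.map (AlgHom.id R B) (IsScalarTower.toAlgHom R V L)) =
      (IsScalarTower.toAlgHom R V L).comp y' := by
    ext b
    · simp [ev, y']
    · simp [ev, y']
  have hfin : algebraMap V L d = algebraMap V L (y' num * t ^ n) := by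
    have h1 := congrArg ev hnum
    rw [map_mul, Algebra.TensorProduct.lift_tmul, map_one, _root_.one_mul, ← AlgHom.comp_apply, hy', hval, hcn] at h1
    rw [map_mul, map_pow, show algebraMap V L (y' num) = _ from h1.symm, _root_.mul_assoc, ← mul_pow, hcLt, one_pow,
      _root_.mul_one]
    rfl
  have hmem : d - y' num * t ^ n ∈ p := by
    rw [← Ideal.algebraMap_residueField_eq_zero, map_sub, hfin, sub_self]
  have hdvd : t ^ n ∣ d := by
    have h2 := mem_infPrime.mp hmem n
    simpa using h2.add (Dvd.intro_left (y' num) rfl)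
  exact (pow_dvd_pow t (le_of_lt hnm)).trans hdvd

end Groth.Agent.Deform.Luna.MonoClosed
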