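import Groth.Agent.Deform.Luna.Radical

/-!
# Groups of multiplicative type in solvable groups
-/

universe u

open CategoryTheory CategoryTheory.Limits MonoidalCategory CartesianMonoidalCategory MonObj GrpObj AlgebraicGeometry
open WithConv

attribute [local instance] CategoryTheory.Hom.monoid CategoryTheory.Hom.group
set_option linter.style.haveILetI false
set_option linter.unusedSectionVars false

namespace Groth.Agent.Deform.Luna

open Agent.GrpSchLib.AffineHopf (sp spIso spMap spMap_comp spMap_injective exists_hopf exists_bialgHom)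
open Chev (Pt pimg)

noncomputable section

variable {k : Type u} [Field k] [IsAlgClosed k]

set_option maxHeartbeats 1000000 in
/-- **Groups of multiplicative type meet the kernel of the projection onto the torus trivially.** -/
theorem exists_torus_proj (S : Over (Spec (CommRingCat.of k))) [GrpObj S] [IsAffine S.left] [Smooth S.hom]
    [ConnectedSpace S.left] [Group.IsSolvable (Pt S)] :
    ∃ (T : Over (Spec (CommRingCat.of k))) (_ : GrpObj T) (i : T ⟶ S) (ρ : S ⟶ T), Red.IsTorus T ∧ IsMonHom i ∧
      IsMonHom ρ ∧ i ≫ ρ = 𝟙 T ∧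
      ∀ (H : Over (Spec (CommRingCat.of k))) [GrpObj H], SGA3x.IsMultTypeFT H → ∀ (v : H ⟶ S) [IsMonHom v],
        v ≫ ρ = 1 → v = 1 := by
  haveI : IsAffineHom S.hom := isAffineHom_of_isAffine _
  obtain ⟨A, _, _, ⟨eS⟩⟩ := exists_hopf S
  let a : sp k A ≅ S := (Grp.forget _).mapIso eS
  haveI : IsMonHom a.hom := eS.hom.hom.isMonHom_hom
  haveI : IsMonHom a.inv := eS.inv.hom.isMonHom_hom
  haveI : IsIso a.hom.left := ((Over.forget _).mapIso a).isIso_hom
  haveI : Algebra.FiniteType k A := RingHom.finiteType_algebraMap.mp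
    ((HasRingHomProperty.Spec_iff (P := @LocallyOfFiniteType)).mp (by
      show LocallyOfFiniteType (sp k A).hom
      rw [← Over.w a.hom]; infer_instance))
  haveI : IsIntegral S.left := Agent.GrpSchLib.Kunneth.isIntegral_grp S
  haveI : IsIntegral (Spec (CommRingCat.of A)) := by
    haveI : Nonempty ↥(Spec (CommRingCat.of A)) := ⟨a.inv.left (Classical.arbitrary _)⟩
    haveI : IsOpenImmersion a.hom.left :=
      @IsOpenImmersion.of_isIso _ _ _ ((Over.forget _).mapIso a).isIso_hom
    exact @isIntegral_of_isOpenImmersion _ _ a.hom.left this _ ‹_›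
  haveI : IsDomain A := (affine_isIntegral_iff (CommRingCat.of A)).mp inferInstance
  let e1 : 𝟙_ (Over (Spec (CommRingCat.of k))) ≅ sp k k := Over.isoMk (Iso.refl _) (by
    show 𝟙 _ ≫ Spec.map (CommRingCat.ofHom (algebraMap k k)) = 𝟙 _
    rw [Category.id_comp, Algebra.algebraMap_self]
    exact Spec.map_id _)
  let Φ : WithConv (A →ₐ[k] k) →* Pt S :=
    { toFun := fun u => e1.hom ≫ spMap u.ofConv ≫ a.hom
      map_one' := by
        rw [show spMap (1 : WithConv (A →ₐ[k] k)).ofConv = (1 : sp k k ⟶ sp k A) from map_one Spec.mapMulEquiv,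
          MonObj.one_comp, MonObj.comp_one]
      map_mul' := fun u v => by
        rw [show spMap (u * v).ofConv = spMap u.ofConv * spMap v.ofConv from map_mul Spec.mapMulEquiv u v,
          MonObj.mul_comp, MonObj.comp_mul] }
  haveI : Group.IsSolvable (WithConv (A →ₐ[k] k)) :=
    Group.isSolvable_of_isSolvable_injective (f := Φ) (fun u v h => by
      have h' : spMap u.ofConv = spMap v.ofConv := by
        rw [← cancel_mono a.hom, ← cancel_epi e1.hom]; exact h
      exact WithConv.ext (spMap_injective h'))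
  have hT : HopfRep.IsTrigonalizable k A := S3266.result k A fun e he => by
    rcases IsIdempotentElem.iff_eq_zero_or_one.mp he with h | h
    · exact Or.inl h
    · exact Or.inr h
  obtain ⟨M, _, r, ψ, hrψ, -, hfg, hdom, ⟨J, hJi, hJψ, hJU⟩, -⟩ := Borel.exists_torus_hopf A hT
  haveI := hJi; haveI := hfg; haveI := hdom
  refine ⟨sp k (MonoidAlgebra k M), inferInstance, spMap (r : A →ₐ[k] MonoidAlgebra k M) ≫ a.hom,
    a.inv ≫ spMap (ψ : MonoidAlgebra k M →ₐ[k] A), Borel.isTorus_sp, inferInstance, inferInstance, ?_,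
    fun H _ hH v _ hv => ?_⟩
  · rw [Category.assoc, Iso.hom_inv_id_assoc, spMap_comp, show
      (r : A →ₐ[k] MonoidAlgebra k M).comp (ψ : MonoidAlgebra k M →ₐ[k] A) = AlgHom.id k _ from AlgHom.ext hrψ]
    exact Over.OverMorphism.ext (Spec.map_id _)
  · obtain ⟨M', _, -, ⟨eT⟩⟩ := Deform.exists_diag H hH
    let b : sp k (MonoidAlgebra k M') ≅ H := (Grp.forget _).mapIso eT
    haveI : IsMonHom b.hom := eT.hom.hom.isMonHom_hom
    obtain ⟨f, hf⟩ := exists_bialgHom (b.hom ≫ v ≫ a.inv)
    have h1 : spMap ((f : A →ₐ[k] MonoidAlgebra k M').comp (ψ : MonoidAlgebra k M →ₐ[k] A)) =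
        spMap ((1 : WithConv (MonoidAlgebra k M →ₐ[k] MonoidAlgebra k M')).ofConv) := by
      rw [← spMap_comp, ← hf, show spMap ((1 : WithConv (MonoidAlgebra k M →ₐ[k] MonoidAlgebra k M')).ofConv) = 1 from
        map_one Spec.mapMulEquiv]
      simp only [Category.assoc]
      rw [hv, MonObj.comp_one]
    have h2 := spMap_injective h1
    have hkill : ∀ x ∈ J, f x = 0 := by
      intro x hx
      rw [hJψ] at hx
      refine (Ideal.map_le_iff_le_comap.mpr fun y hy => ?_ :
        _ ≤ RingHom.ker ((f : A →ₐc[k] MonoidAlgebra k M') : A →+* MonoidAlgebra k M')) hx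
      show f (ψ y) = 0
      refine (DFunLike.congr_fun h2 y).trans ?_
      show algebraMap k _ (Coalgebra.counit (R := k) y) = 0
      rw [show Coalgebra.counit (R := k) y = 0 from hy, map_zero]
    obtain ⟨g, hg⟩ := UnipExt.exists_factor (Bialgebra.Quotient.mkBialgHom J : A →ₐc[k] A ⧸ J)
      Ideal.Quotient.mk_surjective f fun x hx => hkill x (Ideal.Quotient.eq_zero_iff_mem.mp hx)
    have h3 : (f : A →ₐ[k] MonoidAlgebra k M') = (1 : WithConv (A →ₐ[k] MonoidAlgebra k M')).ofConv :=
      AlgHom.ext fun x => by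
        show f x = algebraMap k _ (Coalgebra.counit (R := k) x)
        have h := UnipDiag.eq_counit hJU g ((Bialgebra.Quotient.mkBialgHom J : A →ₐc[k] A ⧸ J) x)
        rw [hg, CoalgHomClass.counit_comp_apply] at h
        exact h
    rw [h3, show spMap ((1 : WithConv (A →ₐ[k] MonoidAlgebra k M')).ofConv) = 1 from map_one Spec.mapMulEquiv] at hf
    rw [← cancel_epi b.hom, ← cancel_mono a.inv, Category.assoc, hf, MonObj.comp_one, MonObj.one_comp]

end

end Groth.Agent.Deform.Luna
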