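import Groth.Agent.Deform.Luna.CharRad
import Groth.Agent.Deform.Luna.Fixes
import Groth.Agent.S3938
import Groth.Agent.Deform.MultSubScheme
import Groth.Agent.Deform.Chev.SemiAbExt
import Groth.Agent.Deform.AffineKernel
import Groth.Agent.Deform.MultUnipAlmost

/-!
# Semisimple groups are perfect
-/

universe u

open CategoryTheory CategoryTheory.Limits MonoidalCategory CartesianMonoidalCategory MonObj GrpObj AlgebraicGeometry
open Matrix WithConv

attribute [local instance] CategoryTheory.Hom.monoid CategoryTheory.Hom.group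
set_option linter.style.haveILetI false
set_option linter.unusedSectionVars false

namespace Groth.Agent.Deform.Luna

open Chev (Pt pimg)
open Borel (HasCrd matPtOf conj comp_conj pt_conj)
open Agent.GrpSchLib.AffineHopf (sp spMap spMap_comp)
open Agent.GrpSchLib.Kunneth (Fn ev evPt evPt_comp ev_ev IsRepMatrix)

noncomputable section

variable {k : Type u} [Field k] [IsAlgClosed k]

set_option maxHeartbeats 1000000 in
/-- The points of a torus over an algebraically closed field form a divisible group. -/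
theorem exists_pow_eq {T : Over (Spec (CommRingCat.of k))} [GrpObj T] (hT : Red.IsTorus T) {N : ℕ} (hN : 0 < N)
    (t : Pt T) : ∃ s : Pt T, s ^ N = t := by
  classical
  obtain ⟨hTa, hTl, hTs, hTc⟩ := Deform.TorusBasic.props hT
  haveI := hTa; haveI := hTl; haveI := hTs; haveI := hTc
  obtain ⟨M, _, hfg, ⟨eT⟩⟩ := Deform.exists_diag T (Deform.isMultTypeFT_of_isTorus hT)
  haveI := hfg
  let b : sp k (MonoidAlgebra k M) ≅ T := (Grp.forget _).mapIso eT
  haveI : IsMonHom b.hom := eT.hom.hom.isMonHom_hom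
  haveI : IsMonHom b.inv := eT.inv.hom.isMonHom_hom
  haveI : IsIntegral T.left := Agent.GrpSchLib.Kunneth.isIntegral_grp T
  haveI : IsIntegral (Spec (CommRingCat.of (MonoidAlgebra k M))) := by
    haveI : Nonempty ↥(Spec (CommRingCat.of (MonoidAlgebra k M))) := ⟨b.inv.left (Classical.arbitrary _)⟩
    haveI : IsOpenImmersion b.hom.left :=
      @IsOpenImmersion.of_isIso _ _ _ ((Over.forget _).mapIso b).isIso_hom
    exact @isIntegral_of_isOpenImmersion _ _ b.hom.left this _ ‹_›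
  haveI : IsDomain (MonoidAlgebra k M) := (affine_isIntegral_iff (CommRingCat.of _)).mp inferInstance
  obtain ⟨r, ⟨c⟩⟩ := Borel.exists_sep_pt.exists_lattice (k := k) M
  let e1 : 𝟙_ (Over (Spec (CommRingCat.of k))) ≅ sp k k := Over.isoMk (Iso.refl _) (by
    show 𝟙 _ ≫ Spec.map (CommRingCat.ofHom (algebraMap k k)) = 𝟙 _
    rw [Category.id_comp, Algebra.algebraMap_self]
    exact Spec.map_id _)
  let Θ : WithConv (MonoidAlgebra k M →ₐ[k] k) →* Pt T :=
    { toFun := fun v => e1.hom ≫ spMap v.ofConv ≫ b.hom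
      map_one' := by
        rw [show spMap (1 : WithConv (MonoidAlgebra k M →ₐ[k] k)).ofConv =
          (1 : sp k k ⟶ sp k (MonoidAlgebra k M)) from map_one Spec.mapMulEquiv, MonObj.one_comp, MonObj.comp_one]
      map_mul' := fun u v => by
        rw [show spMap (u * v).ofConv = spMap u.ofConv * spMap v.ofConv from map_mul Spec.mapMulEquiv u v,
          MonObj.mul_comp, MonObj.comp_mul] }
  obtain ⟨f, hf⟩ := Agent.GrpSchLib.AffineHopf.exists_eq_spMap (e1.inv ≫ t ≫ b.inv)
  have ht : Θ (toConv f) = t := by show e1.hom ≫ spMap f ≫ b.hom = t; rw [← hf]; simp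
  have hu : ∀ m : M, IsUnit (f (MonoidAlgebra.single m 1)) := fun m => by
    refine IsUnit.map f (IsUnit.of_mul_eq_one (MonoidAlgebra.single m⁻¹ 1) ?_)
    rw [MonoidAlgebra.single_mul_single, mul_inv_cancel, _root_.mul_one, MonoidAlgebra.one_def]
  let e : Fin r → M := fun x => c.symm (Multiplicative.ofAdd (Pi.single x 1))
  have hroot : ∀ x, ∃ y : kˣ, (y : k) ^ N = f (MonoidAlgebra.single (e x) 1) := fun x => by
    obtain ⟨y, hy⟩ := IsAlgClosed.exists_pow_nat_eq (f (MonoidAlgebra.single (e x) 1)) hN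
    have : y ≠ 0 := fun h => (hu (e x)).ne_zero (by rw [← hy, h, zero_pow hN.ne'])
    exact ⟨Units.mk0 y this, hy⟩
  choose y hy using hroot
  let root : M →* k :=
    { toFun := fun m => ((∏ x, y x ^ (Multiplicative.toAdd (c m) x) : kˣ) : k)
      map_one' := by simp
      map_mul' := fun m m' => by
        rw [← Units.val_mul, ← Finset.prod_mul_distrib]
        congr 1
        exact Finset.prod_congr rfl fun x _ => by simp [_root_.zpow_add] }
  refine ⟨Θ (toConv (MonoidAlgebra.lift k k M root)), ?_⟩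
  rw [← map_pow, ← ht]
  refine congrArg Θ (WithConv.ext ?_)
  rw [MultUnip.pow_eq_powConv]
  refine MonoidAlgebra.algHom_ext (fun m => ?_) (Subsingleton.elim _ _)
  show MonoidAlgebra.lift k k M root (SGA3b.powConv k (MonoidAlgebra k M) N (MonoidAlgebra.single m 1)) = f _
  rw [GrpSchLib.powConv_isGroupLike (MonoidAlgebra.isGroupLikeElem_single_one m), map_pow,
    MonoidAlgebra.lift_single, one_smul]
  let F : M →* k := f.toRingHom.toMonoidHom.comp (MonoidAlgebra.of k M)
  let F' : Multiplicative (Fin r → ℤ) →* kˣ := (F.comp c.symm.toMonoidHom).toHomUnits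
  let R' : Multiplicative (Fin r → ℤ) →* kˣ :=
    { toFun := fun z => (∏ x, y x ^ (Multiplicative.toAdd z x)) ^ N
      map_one' := by simp
      map_mul' := fun z z' => by
        rw [← mul_pow, ← Finset.prod_mul_distrib]
        congr 1
        exact Finset.prod_congr rfl fun x _ => by simp [_root_.zpow_add] }
  have h : R' = F' := by
    refine MonoidHom.toAdditiveRight.injective (AddMonoidHom.functions_ext _ _ _ fun x z => ?_)
    have h1 : R' (Multiplicative.ofAdd (Pi.single x 1)) = F' (Multiplicative.ofAdd (Pi.single x 1)) := by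
      refine Units.ext ?_
      show ((∏ x', y x' ^ ((Pi.single x (1 : ℤ) : Fin r → ℤ) x')) ^ N : kˣ).val = _
      rw [Finset.prod_eq_single x (fun x' _ hne => by rw [Pi.single_eq_of_ne hne, zpow_zero])
        (fun h => absurd (Finset.mem_univ x) h), Pi.single_eq_same, zpow_one, Units.val_pow_eq_pow_val]
      exact hy x
    have e2 : (Pi.single x z : Fin r → ℤ) = z • Pi.single x 1 := by
      rw [← Pi.single_smul', smul_eq_mul, _root_.mul_one]
    rw [e2, map_zsmul, map_zsmul]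
    exact congrArg (fun u : kˣ => z • Additive.ofMul u) h1
  have h2 := congrArg (fun G : Multiplicative (Fin r → ℤ) →* kˣ => ((G (c m) : kˣ) : k)) h
  simp only [R', F', F, MonoidHom.coe_mk, OneHom.coe_mk, MonoidHom.coe_toHomUnits, MonoidHom.coe_comp,
    Function.comp_apply, MulEquiv.coe_toMonoidHom, c.symm_apply_apply, Units.val_pow_eq_pow_val] at h2
  exact h2

variable {G : Over (Spec (CommRingCat.of k))} [GrpObj G] [IsAffine G.left] [Smooth G.hom] [ConnectedSpace G.left]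

/-- A matrix representation whose lines remember a Borel subgroup. -/
theorem exists_lineRep {B : Over (Spec (CommRingCat.of k))} [GrpObj B] {iB : B ⟶ G} (hB : Red.IsBorelOver k iB) :
    ∃ (m : ℕ) (w : Fin (m + 1) → Fn G) (M : Matrix (Fin (m + 1)) (Fin (m + 1)) (Fn G)) (h₀ : Fin (m + 1) → Pt G),
      IsRepMatrix M ∧ (∀ i, zv w (h₀ i) = Pi.single i 1) ∧ (∀ g h, zv w (g * h) = matPtOf M g *ᵥ zv w h) ∧
      (∀ g, zv w g ≠ 0) ∧ (∀ (g g' : Pt G) (c : k), zv w g' = c • zv w g → ∃ b : Pt B, g⁻¹ * g' = b ≫ iB) ∧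
      ∀ (g : Pt G) (b : Pt B), ∃ c : k, c ≠ 0 ∧ zv w (g * (b ≫ iB)) = c • zv w g := by
  classical
  haveI : IsAffineHom G.hom := isAffineHom_of_isAffine _
  haveI : QuasiCompact G.hom := inferInstance
  obtain ⟨hbm, hbc, hBs, hBcn, hBsol, -⟩ := id hB
  haveI := hbm; haveI := hbc; haveI := hBs
  obtain ⟨n₀, z, α, hα, ⟨L, hL⟩, hline⟩ := Borel.exists_vecRep G B iB
  have hcr : ∀ g g' : Pt G, (∀ x q, zv z g x * zv z g' q = zv z g q * zv z g' x) ↔
      ∃ b : Pt B, g⁻¹ * g' = b ≫ iB := fun g g' => by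
    rw [← hline]
    simp only [zv, Borel.ev_pt_eq, ← map_mul]
    exact forall_congr' fun x => forall_congr' fun q =>
      ((Function.LeftInverse.injective (g := evPt (𝟙 (𝟙_ (Over (Spec (CommRingCat.of k)))))) Borel.evPt_algebraMap).eq_iff).symm
  have hz1 : ∀ g : Pt G, zv z g ≠ 0 := fun g h => by
    have h1 := congrArg (evPt g) hα
    simp only [map_sum, map_mul, map_one] at h1
    simp only [show ∀ l, evPt g (z l) = 0 from congrFun h, MulZeroClass.mul_zero, Finset.sum_const_zero] at h1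
    exact zero_ne_one h1
  obtain ⟨m, w, M, h₀, π, hM, hwb, hwm, hπ, hzw⟩ := exists_spanning z (hz1 1) fun g =>
    ⟨Matrix.of fun x s => evPt g (L x s), fun h => funext fun x => by
      show evPt (g * h) (z x) = _
      rw [Borel.evPt_eq, hL, map_sum]
      simp only [map_mul, ← Borel.evPt_eq]
      rfl⟩
  clear hL
  have hw1 : zv w (1 : Pt G) ≠ 0 := fun h => hz1 1 (by rw [hzw, h]; simp)
  have hwne : ∀ g, zv w g ≠ 0 := fun g h => by
    have := hwm g⁻¹ g
    rw [inv_mul_cancel, h, Matrix.mulVec_zero] at this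
    exact hw1 this
  refine ⟨m, w, M, h₀, hM, hwb, hwm, hwne, fun g g' c h => ?_, fun g b => ?_⟩
  · refine (hcr g g').mp fun x q => ?_
    have e : zv z g' = c • zv z g := by
      rw [hzw g', hzw g, Finset.smul_sum]
      exact Finset.sum_congr rfl fun l _ => by rw [h, Pi.smul_apply, smul_eq_mul, smul_smul]
    simp only [e, Pi.smul_apply, smul_eq_mul]
    ring
  · have h1 := (hcr g (g * (b ≫ iB))).mpr ⟨b, inv_mul_cancel_left g _⟩
    obtain ⟨l, hl : zv z g l ≠ 0⟩ := Function.ne_iff.mp (hz1 g)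
    have e : zv z (g * (b ≫ iB)) = (zv z (g * (b ≫ iB)) l / zv z g l) • zv z g := funext fun p => by
      rw [Pi.smul_apply, smul_eq_mul, div_mul_eq_mul_div, eq_div_iff hl, mul_comm, h1 l p, mul_comm]
    have e2 : zv w (g * (b ≫ iB)) = (zv z (g * (b ≫ iB)) l / zv z g l) • zv w g := by
      rw [← hπ, ← hπ g, e, map_smul]
      simp [hl]
    exact ⟨_, fun hc => hwne _ (by rw [e2, hc, zero_smul]), e2⟩

set_option maxHeartbeats 1000000 in
/-- **The extremal weight of a one-parameter subgroup occurs at a point fixed by the torus.** -/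
theorem exists_extremal {T J B : Over (Spec (CommRingCat.of k))} [GrpObj T] [GrpObj J] [GrpObj B] {i : T ⟶ G}
    (hi : AGF.IsMaxTorus i) {iB : B ⟶ G} (hB : Red.IsBorelOver k iB) (j : J ⟶ T) {m : ℕ} {w : Fin (m + 1) → Fn G}
    {M : Matrix (Fin (m + 1)) (Fin (m + 1)) (Fn G)} {h₀ : Fin (m + 1) → Pt G} (hM : IsRepMatrix M)
    (hwb : ∀ i, zv w (h₀ i) = Pi.single i 1) (hwm : ∀ g h, zv w (g * h) = matPtOf M g *ᵥ zv w h)
    (hwne : ∀ g, zv w g ≠ 0) (hwB : ∀ (g : Pt G) (b : Pt B), ∃ c : k, c ≠ 0 ∧ zv w (g * (b ≫ iB)) = c • zv w g)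
    (D : Finset ℤ) (P : ℤ → Matrix (Fin (m + 1)) (Fin (m + 1)) k) (χ : ℤ → Pt J → k) (l : kˣ → Pt J)
    (hAs : ∀ s : kˣ, matPtOf M ((l s ≫ j) ≫ i) = ∑ d ∈ D, ((s : k) ^ d) • P d)
    (hAP : ∀ d ∈ D, ∀ y, matPtOf M ((y ≫ j) ≫ i) * P d = χ d y • P d)
    (ν : ℤ) (hνD : ν ∈ D) (hPν : P ν ≠ 0) (hνle : ∀ d ∈ D, P d ≠ 0 → ν ≤ d) :
    ∃ g : Pt G, (∀ y : Pt T, ∃ b : Pt B, b ≫ iB = g⁻¹ * (y ≫ i) * g) ∧
      ∀ y : Pt J, matPtOf M ((y ≫ j) ≫ i) *ᵥ zv w g = χ ν y • zv w g := by
  classical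
  haveI : IsAffineHom G.hom := isAffineHom_of_isAffine _
  haveI : QuasiCompact G.hom := inferInstance
  haveI := hi.1
  obtain ⟨hbm, hbc, hBs, hBcn, hBsol, -⟩ := id hB
  haveI := hBs
  obtain ⟨hTa, hTl, hTs, hTc⟩ := Deform.TorusBasic.props hi.2.2.1
  haveI := hTa; haveI := hTs; haveI := hTc
  haveI : Group.IsSolvable (Pt T) := Borel.isSolvable_pts_of_torus hi.2.2.1
  have hBimg := Borel.closedImg_of_isBorelOver iB hB
  have hMB : ∀ b : Pt B, ∃ c : k, matPtOf M (b ≫ iB) *ᵥ zv w (1 : Pt G) = c • zv w (1 : Pt G) := fun b => by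
    obtain ⟨c, -, hc⟩ := hwB 1 b
    exact ⟨c, by rw [← hwm, _root_.mul_one, ← hc, _root_.one_mul]⟩
  let D' := D.filter fun d => P d ≠ 0
  obtain ⟨h₂, hh₂⟩ : ∃ h : Pt G, P ν *ᵥ zv w h ≠ 0 := by
    by_contra hne
    push_neg at hne
    refine hPν (Matrix.ext fun x y => ?_)
    have := congrFun (hne (h₀ y)) x
    rwa [hwb, Matrix.mulVec_single_one] at this
  obtain ⟨p, hp0, hps⟩ := exists_curve_poly D' ν (Finset.mem_filter.mpr ⟨hνD, hPν⟩)
    (fun d hd => hνle d (Finset.mem_filter.mp hd).1 (Finset.mem_filter.mp hd).2) fun d => P d *ᵥ zv w h₂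
  obtain ⟨h₁, c₁, hc₁, he₁⟩ := degen hBimg hM (hwne 1) hMB p (by rw [hp0]; exact hh₂) fun s hs =>
    ⟨((l (Units.mk0 s hs) ≫ j) ≫ i) * h₂, ((s : k) ^ ν)⁻¹, by
      have := hps (Units.mk0 s hs)
      rw [Units.val_mk0] at this
      rw [this, ← hwm, _root_.mul_one, hwm, hAs, Units.val_mk0, Matrix.sum_mulVec]
      congr 1
      simp only [Matrix.smul_mulVec]
      exact Finset.sum_subset (Finset.filter_subset _ _) fun d hd hd' => by
        have h : P d = 0 := by simpa [D', hd] using hd'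
        rw [h, Matrix.zero_mulVec, smul_zero]⟩
  rw [← hwm, _root_.mul_one, hp0] at he₁
  have hh₁ : ∀ y : Pt J, matPtOf M ((y ≫ j) ≫ i) *ᵥ zv w h₁ = χ ν y • zv w h₁ := fun y => by
    rw [he₁, Matrix.mulVec_smul, Matrix.mulVec_mulVec, hAP ν hνD y, Matrix.smul_mulVec, smul_comm]
  obtain ⟨S₀, hS₀, hS₀'⟩ := exists_zero_set fun p : Pt J × Fin (m + 1) =>
    (∑ s, matPtOf M ((p.1 ≫ j) ≫ i) p.2 s • w s) - χ ν p.1 • w p.2
  have hS₀iff : ∀ g : Pt G, pimg g ∈ S₀ ↔ ∀ y : Pt J, matPtOf M ((y ≫ j) ≫ i) *ᵥ zv w g = χ ν y • zv w g := fun g => by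
    rw [hS₀']
    simp only [map_sub, map_sum, map_smul, smul_eq_mul, sub_eq_zero, Prod.forall]
    exact forall_congr' fun y => ⟨fun h => funext fun l => h l, fun h l => congrFun h l⟩
  obtain ⟨g, hgS, hg⟩ := exists_fixed_mem hB i hS₀ (fun g b hg => by
      obtain ⟨c, -, hc⟩ := hwB g b
      refine (hS₀iff _).mpr fun y => ?_
      rw [hc, Matrix.mulVec_smul, (hS₀iff g).mp hg y, smul_comm])
    (fun t g hg => (hS₀iff _).mpr fun y => by
      rw [hwm, Matrix.mulVec_mulVec, ← Borel.matPtOf_mul hM, ← MonObj.mul_comp,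
        Agent.GrpSchLib.MultTypeComm.points_comm (Deform.isMultTypeFT_of_isTorus hi.2.2.1) (y ≫ j) t,
        MonObj.mul_comp, Borel.matPtOf_mul hM, ← Matrix.mulVec_mulVec, (hS₀iff g).mp hg y, Matrix.mulVec_smul])
    h₁ ((hS₀iff h₁).mpr hh₁)
  exact ⟨g, hg, (hS₀iff g).mp hgS⟩

set_option maxHeartbeats 4000000 in
/-- **A homomorphism of a semisimple group into a commutative group kills the maximal tori.** -/
theorem torus_killed (hG : Red.IsSemisimpleOver k G) {T H : Over (Spec (CommRingCat.of k))} [GrpObj T] [GrpObj H]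
    [IsSeparated H.hom] (hH : ∀ a b : Pt H, a * b = b * a) {i : T ⟶ G}
    (hi : AGF.IsMaxTorus i) (f : G ⟶ H) [IsMonHom f] (t : Pt T) : (t ≫ i) ≫ f = 1 := by
  classical
  haveI : IsAffineHom G.hom := isAffineHom_of_isAffine _
  haveI : QuasiCompact G.hom := inferInstance
  haveI := Agent.GrpSchLib.AntiAffine.isSeparated_grp G
  haveI := hi.1; haveI := hi.2.1
  have hT := hi.2.2.1
  obtain ⟨hTa, hTl, hTs, hTc⟩ := Deform.TorusBasic.props hT
  haveI := hTa; haveI := hTl; haveI := hTs; haveI := hTc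
  haveI : IsAffineHom T.hom := isAffineHom_of_isAffine _
  haveI : QuasiCompact T.hom := inferInstance
  haveI : IsReduced T.left := GrpSchLib.isReduced_of_smooth_field T.hom
  haveI := Agent.GrpSchLib.AntiAffine.isSeparated_grp T
  have hcT : ∀ a b : Pt T, a * b = b * a := fun a b =>
    Agent.GrpSchLib.MultTypeComm.points_comm (Deform.isMultTypeFT_of_isTorus hT) a b
  obtain ⟨B, gB, iB, tB, hB, htB⟩ := exists_borel_torus hT i
  obtain ⟨m, w, M, h₀, hM, hwb, hwm, hwne, hwcross, hwB⟩ := exists_lineRep hB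
  haveI := hB.1; haveI := hB.2.1
  -- fixed cosets and their weights
  let Fx : Pt G → Prop := fun g => ∀ y : Pt T, ∃ b : Pt B, b ≫ iB = g⁻¹ * (y ≫ i) * g
  have h1F : Fx 1 := fun y => ⟨y ≫ tB, by
    rw [Category.assoc, htB, inv_one, _root_.one_mul, _root_.mul_one]⟩
  let coord : Pt G → Fin (m + 1) := fun g => (Function.ne_iff.mp (hwne g)).choose
  have hcoord : ∀ g, zv w g (coord g) ≠ 0 := fun g => (Function.ne_iff.mp (hwne g)).choose_spec
  let ψ : Pt G → Pt T → k := fun g t => (matPtOf M (t ≫ i) *ᵥ zv w g) (coord g) / zv w g (coord g)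
  have hψu : ∀ g t c, matPtOf M (t ≫ i) *ᵥ zv w g = c • zv w g → ψ g t = c := fun g t c h => by
    show _ / _ = c
    rw [h, Pi.smul_apply, smul_eq_mul, mul_div_assoc, div_self (hcoord g), _root_.mul_one]
  have hψ : ∀ g, Fx g → ∀ t, matPtOf M (t ≫ i) *ᵥ zv w g = ψ g t • zv w g := fun g hg t => by
    obtain ⟨b, hb⟩ := hg t
    obtain ⟨c, -, hc⟩ := hwB g b
    have e : matPtOf M (t ≫ i) *ᵥ zv w g = c • zv w g := by
      rw [← hwm, ← hc, hb]
      congr 1
      group
    rw [hψu g t c e, e]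
  have hψmul : ∀ g, Fx g → ∀ t t', ψ g (t * t') = ψ g t * ψ g t' := fun g hg t t' => hψu g _ _ (by
    rw [MonObj.mul_comp, Borel.matPtOf_mul hM, ← Matrix.mulVec_mulVec, hψ g hg t', Matrix.mulVec_smul, hψ g hg t,
      smul_smul, mul_comm])
  -- the finite set of weights
  obtain ⟨DT, PT, χT, -, hAT, -, hAPT, -⟩ := exists_weights hT i hM
  let Ψ : Set (Pt T → k) := {φ | ∃ g, Fx g ∧ φ = ψ g}
  have hΨfin : Ψ.Finite := (DT.image χT).finite_toSet.subset fun φ ⟨g, hg, hφ⟩ => by
    obtain ⟨d, hd, hdne⟩ : ∃ d ∈ DT, PT d *ᵥ zv w g ≠ 0 := by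
      by_contra hne
      push_neg at hne
      apply hwne g
      have h := hAT 1
      rw [MonObj.one_comp, Borel.matPtOf_one hM] at h
      rw [← Matrix.one_mulVec (zv w g), h, Matrix.sum_mulVec]
      exact Finset.sum_eq_zero fun d hd => by rw [Matrix.smul_mulVec, hne d hd, smul_zero]
    refine Finset.mem_image.mpr ⟨d, hd, funext fun t => ?_⟩
    have h1 := congrArg (PT d *ᵥ ·) (hψ g hg t)
    simp only [Matrix.mulVec_mulVec, (hAPT d hd t).2, Matrix.smul_mulVec, Matrix.mulVec_smul] at h1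
    rw [hφ]
    exact smul_left_injective k hdne h1
  let E := {φ : Pt T → k // φ ∈ Ψ}
  haveI : Finite E := hΨfin.to_subtype
  haveI : Fintype E := Fintype.ofFinite E
  -- the action of the normaliser
  let Nr : Pt G → Prop := fun n => (∀ y : Pt T, ∃ y' : Pt T, y' ≫ i = n * (y ≫ i) * n⁻¹) ∧
    ∀ y : Pt T, ∃ y' : Pt T, y' ≫ i = n⁻¹ * (y ≫ i) * n
  have hNmul : ∀ a b, Nr a → Nr b → Nr (a * b) := fun a b ha hb => ⟨fun y => by
      obtain ⟨y₁, h₁⟩ := hb.1 y
      obtain ⟨y₂, h₂⟩ := ha.1 y₁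
      exact ⟨y₂, by rw [h₂, h₁]; group⟩, fun y => by
      obtain ⟨y₁, h₁⟩ := ha.2 y
      obtain ⟨y₂, h₂⟩ := hb.2 y₁
      exact ⟨y₂, by rw [h₂, h₁]; group⟩⟩
  let cc : Pt G → Pt T → Pt T := fun n y =>
    if h : ∃ y' : Pt T, y' ≫ i = n⁻¹ * (y ≫ i) * n then h.choose else 1
  have hcc : ∀ n, Nr n → ∀ y, cc n y ≫ i = n⁻¹ * (y ≫ i) * n := fun n hn y => by
    simp only [cc, dif_pos (hn.2 y)]
    exact (hn.2 y).choose_spec
  have hshift : ∀ n g, Nr n → Fx g → Fx (n * g) ∧ ψ (n * g) = fun y => ψ g (cc n y) := by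
    intro n g hn hg
    refine ⟨fun y => ?_, funext fun y => hψu _ _ _ ?_⟩
    · obtain ⟨b, hb⟩ := hg (cc n y)
      exact ⟨b, by rw [hb, hcc n hn]; group⟩
    · have h2 := congrArg (matPtOf M n *ᵥ ·) (hψ g hg (cc n y))
      simp only [Matrix.mulVec_mulVec, ← Borel.matPtOf_mul hM, hcc n hn, Matrix.mulVec_smul] at h2
      rw [show n * (n⁻¹ * (y ≫ i) * n) = (y ≫ i) * n by group, Borel.matPtOf_mul hM, ← Matrix.mulVec_mulVec,
        ← hwm] at h2
      exact h2
  let π : {n // Nr n} → (E → E) := fun n φ => ⟨fun y => φ.1 (cc n.1 y), by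
    obtain ⟨g, hg, hφ⟩ := φ.2
    exact ⟨_, (hshift n.1 g n.2 hg).1, by rw [(hshift n.1 g n.2 hg).2, hφ]⟩⟩
  have hcci : ∀ n, Nr n → ∀ n', Nr n' → ∀ y, cc (n * n') y = cc n' (cc n y) := fun n hn n' hn' y =>
    (cancel_mono i).mp (by rw [hcc _ (hNmul n n' hn hn'), hcc n' hn', hcc n hn]; group)
  have hπmul : ∀ n n' : {n // Nr n}, π ⟨n.1 * n'.1, hNmul _ _ n.2 n'.2⟩ = π n ∘ π n' := fun n n' =>
    funext fun φ => Subtype.ext (funext fun y => congrArg φ.1 (hcci _ n.2 _ n'.2 y))
  have hN1 : Nr 1 := ⟨fun y => ⟨y, by group⟩, fun y => ⟨y, by group⟩⟩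
  have hπinj : ∀ n, Function.Injective (π n) := fun n φ φ' h => Subtype.ext (funext fun y => by
    obtain ⟨y', hy'⟩ := n.2.1 y
    have h1 := congrFun (congrArg Subtype.val h) y'
    have e : cc n.1 y' = y := (cancel_mono i).mp (by rw [hcc _ n.2, hy']; group)
    simpa only [π, e] using h1)
  let R := Set.range π
  haveI : Fintype ↥R := Fintype.ofFinite _
  let rep : R → {n // Nr n} := fun r => r.2.choose
  have hrep : ∀ r : R, π (rep r) = r.1 := fun r => r.2.choose_spec
  let u : Pt T → Pt T := fun y => (Finset.univ : Finset R).noncommProd (fun r => cc (rep r).1 y)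
    fun a _ b _ _ => hcT _ _
  have hu : ∀ (φ : Pt T →* k) y, φ (u y) = ∏ r : R, φ (cc (rep r).1 y) := fun φ y => by
    rw [Finset.map_noncommProd, Finset.noncommProd_eq_prod]
  let ψh : ∀ g, Fx g → (Pt T →* k) := fun g hg =>
    { toFun := ψ g
      map_one' := hψu g 1 1 (by rw [MonObj.one_comp, Borel.matPtOf_one hM, Matrix.one_mulVec, one_smul])
      map_mul' := hψmul g hg }
  -- averaged points have all weights equal
  have huS : ∀ y g, Fx g → ψ g (u y) = ψ 1 (u y) := by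
    intro y g hg
    obtain ⟨n, b, hgn, hn₁, hn₂⟩ := exists_normalizing' hi hB tB htB g hg
    let n' : {n // Nr n} := ⟨n, hn₁, hn₂⟩
    have hFn : Fx n := by
      have := (hshift n 1 n'.2 h1F).1
      rwa [_root_.mul_one] at this
    have e1 : ψ g = ψ n := funext fun z => hψu _ _ _ (by
      obtain ⟨c, -, hc⟩ := hwB n b
      rw [hgn, hc, Matrix.mulVec_smul, hψ n hFn, smul_comm])
    have e2 : ψ n = fun z => ψ 1 (cc n z) := by
      have := (hshift n 1 n'.2 h1F).2
      rwa [_root_.mul_one] at this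
    let φ₁ : E := ⟨ψ 1, 1, h1F, rfl⟩
    show (ψh g hg) (u y) = (ψh 1 h1F) (u y)
    rw [hu, hu]
    let τ : R → R := fun r => ⟨π ⟨(rep r).1 * n, hNmul _ _ (rep r).2 n'.2⟩, Set.mem_range_self _⟩
    have hτ : Function.Bijective τ := Finite.injective_iff_bijective.mp fun r r' h => Subtype.ext (by
      have h1 : π (rep r) ∘ π n' = π (rep r') ∘ π n' := by
        rw [← hπmul, ← hπmul]; exact congrArg Subtype.val h
      rw [← hrep r, ← hrep r']
      exact (Finite.injective_iff_surjective.mp (hπinj n')).injective_comp_right h1)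
    rw [← (Equiv.ofBijective τ hτ).prod_comp (fun r => ψh 1 h1F (cc (rep r).1 y))]
    refine Finset.prod_congr rfl fun r _ => ?_
    show ψ g (cc (rep r).1 y) = ψ 1 (cc (rep (τ r)).1 y)
    rw [e1, e2]
    have h2 := congrFun (congrArg Subtype.val (congrFun (hrep (τ r)) φ₁)) y
    show ψ 1 (cc n (cc (rep r).1 y)) = _
    rw [← hcci _ (rep r).2 _ n'.2]
    exact h2.symm
  -- the weights are equal on finitely many points only
  obtain ⟨C, hC, hC'⟩ := exists_zero_set (Y := T) fun p : {g // Fx g} =>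
    (zv w p.1 (coord p.1))⁻¹ • (∑ s, zv w p.1 s • ev i (M (coord p.1) s)) -
      (zv w 1 (coord 1))⁻¹ • (∑ s, zv w 1 s • ev i (M (coord 1) s))
  have hev : ∀ g (y : Pt T), evPt y ((zv w g (coord g))⁻¹ • ∑ s, zv w g s • ev i (M (coord g) s)) = ψ g y :=
    fun g y => by
      simp only [map_smul, map_sum, smul_eq_mul, evPt_comp]
      rw [inv_mul_eq_div]
      show _ = (∑ s, matPtOf M (y ≫ i) (coord g) s * zv w g s) / _
      congr 1
      exact Finset.sum_congr rfl fun s _ => mul_comm _ _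
  let S : Subgroup (Pt T) :=
    { carrier := {y | ∀ g, Fx g → ψ g y = ψ 1 y}
      one_mem' := fun g hg => (ψh g hg).map_one.trans (ψh 1 h1F).map_one.symm
      mul_mem' := fun {a b} ha hb g hg => by
        rw [hψmul g hg, hψmul 1 h1F, ha g hg, hb g hg]
      inv_mem' := fun {a} ha g hg => by
        have h1 := (ψh g hg).map_one
        have h2 := (ψh 1 h1F).map_one
        rw [← mul_inv_cancel a, (ψh g hg).map_mul] at h1
        rw [← mul_inv_cancel a, (ψh 1 h1F).map_mul] at h2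
        change ψ g a * ψ g a⁻¹ = 1 at h1
        change ψ 1 a * ψ 1 a⁻¹ = 1 at h2
        rw [ha g hg] at h1
        exact mul_left_cancel₀ (left_ne_zero_of_mul_eq_one h2) (h1.trans h2.symm) }
  have hCS : ∀ y : Pt T, pimg y ∈ C ↔ y ∈ S := fun y => by
    rw [hC', Subtype.forall]
    simp only [map_sub, hev, sub_eq_zero]
    rfl
  obtain ⟨J, gJ, j, hj, hjc, hJs, hJq, hJc, hJS, ⟨fs, hfs⟩, -⟩ := Borel.exists_neutral_fin S hC hCS
  haveI := hj; haveI := hjc; haveI := hJs; haveI := hJc; haveI := hJq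
  haveI : Mono j := (Over.forget _).mono_of_mono_map (inferInstanceAs (Mono j.left))
  haveI : IsAffine J.left := isAffine_of_isAffineHom j.left
  haveI : LocallyOfFiniteType J.hom := inferInstance
  haveI : Flat J.hom := Deform.AffineKernel.flat_over_field J.hom
  haveI : LocallyOfFinitePresentation J.hom := inferInstance
  have hJt : Red.IsTorus J := Chev.SemiAbExt.isTorus_of_multType
    (Deform.MultSubScheme.isMultTypeFT_of_closed (Deform.isMultTypeFT_of_isTorus hT) j)
  have hJ1 : ∀ y : Pt J, y = 1 := by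
    obtain ⟨D, P, χ, l, hA, hAs, hAP, hPP⟩ := exists_weights hJt (j ≫ i) hM
    have hA' : ∀ y : Pt J, matPtOf M ((y ≫ j) ≫ i) = ∑ d ∈ D, χ d y • P d := fun y => by
      rw [Category.assoc]; exact hA y
    have hAs' : ∀ s : kˣ, matPtOf M ((l s ≫ j) ≫ i) = ∑ d ∈ D, ((s : k) ^ d) • P d := fun s => by
      rw [Category.assoc]; exact hAs s
    have hAP' : ∀ d ∈ D, ∀ y, matPtOf M ((y ≫ j) ≫ i) * P d = χ d y • P d := fun d hd y => by
      rw [Category.assoc]; exact (hAP d hd y).1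
    let D' := D.filter fun d => P d ≠ 0
    have hsum : ∀ c : ℤ → k, ∑ d ∈ D, c d • P d = ∑ d ∈ D', c d • P d := fun c =>
      (Finset.sum_subset (Finset.filter_subset _ _) fun d hd hd' => by
        have h : P d = 0 := by simpa [D', hd] using hd'
        rw [h, smul_zero]).symm
    have hDne : D'.Nonempty := by
      by_contra h
      rw [Finset.not_nonempty_iff_eq_empty] at h
      have h1 := hA' 1
      rw [MonObj.one_comp, MonObj.one_comp, Borel.matPtOf_one hM, hsum, h, Finset.sum_empty] at h1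
      exact one_ne_zero h1
    have hext : ∀ (ν : ℤ) (l' : kˣ → Pt J) (D₁ : Finset ℤ) (P₁ : ℤ → Matrix (Fin (m + 1)) (Fin (m + 1)) k)
        (χ₁ : ℤ → Pt J → k), (∀ s : kˣ, matPtOf M ((l' s ≫ j) ≫ i) = ∑ d ∈ D₁, ((s : k) ^ d) • P₁ d) →
        (∀ d ∈ D₁, ∀ y, matPtOf M ((y ≫ j) ≫ i) * P₁ d = χ₁ d y • P₁ d) → ν ∈ D₁ → P₁ ν ≠ 0 →
        (∀ d ∈ D₁, P₁ d ≠ 0 → ν ≤ d) → ∀ y, χ₁ ν y = ψ 1 (y ≫ j) := by
      intro ν l' D₁ P₁ χ₁ h1 h2 h3 h4 h5 y
      obtain ⟨g, hg, hgy⟩ := exists_extremal hi hB j hM hwb hwm hwne hwB D₁ P₁ χ₁ l' h1 h2 ν h3 h4 h5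
      rw [← hψu g (y ≫ j) _ (hgy y)]
      exact hJS y g hg
    obtain ⟨hνD, hPν⟩ := Finset.mem_filter.mp (D'.min'_mem hDne)
    obtain ⟨hμD, hPμ⟩ := Finset.mem_filter.mp (D'.max'_mem hDne)
    have e1 := hext (D'.min' hDne) l D P χ hAs' hAP' hνD hPν fun d hd hd' =>
      D'.min'_le d (Finset.mem_filter.mpr ⟨hd, hd'⟩)
    have e2 := hext (-(D'.max' hDne)) (fun s => l s⁻¹) (D.image fun d => -d) (fun d => P (-d)) (fun d => χ (-d))
      (fun s => by
        rw [hAs' s⁻¹, Finset.sum_image fun a _ b _ h => neg_inj.mp h]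
        simp only [neg_neg, Units.val_inv_eq_inv_val, _root_.inv_zpow, _root_.zpow_neg])
      (fun d hd y => by
        obtain ⟨d', hd', rfl⟩ := Finset.mem_image.mp hd
        simp only [neg_neg]
        exact hAP' d' hd' y)
      (Finset.mem_image.mpr ⟨_, hμD, rfl⟩) (by simpa using hPμ) (fun d hd hd' => by
        obtain ⟨d', hd₁, rfl⟩ := Finset.mem_image.mp hd
        simp only [neg_neg] at hd'
        exact neg_le_neg (D'.le_max' d' (Finset.mem_filter.mpr ⟨hd₁, hd'⟩)))
    simp only [neg_neg] at e2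
    have hidem : ∀ d ∈ D, P d ≠ 0 → P d * P d = P d := fun d hd hne => by
      have h0 := hAP' d hd 1
      have h1 := hA' 1
      rw [MonObj.one_comp, MonObj.one_comp, Borel.matPtOf_one hM] at h0 h1
      have hc : χ d 1 = 1 := smul_left_injective k hne (by
        show χ d 1 • P d = (1 : k) • P d
        rw [← h0, Matrix.one_mul, one_smul])
      have h2 := congrArg (· * P d) h1
      simp only [Matrix.one_mul, Finset.sum_mul, Matrix.smul_mul] at h2
      rw [Finset.sum_eq_single d (fun c hc' hne => by rw [hPP c hc' d hd hne, smul_zero]) (fun h => absurd hd h), hc,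
        one_smul] at h2
      exact h2.symm
    have hχl : ∀ d ∈ D', ∀ s : kˣ, χ d (l s) = (s : k) ^ d := fun d hd s => by
      obtain ⟨hdD, hPd⟩ := Finset.mem_filter.mp hd
      refine smul_left_injective k hPd ?_
      show χ d (l s) • P d = ((s : k) ^ d) • P d
      rw [← hAP' d hdD (l s), hAs', Finset.sum_mul, Finset.sum_eq_single d (fun c hc hne => by
        rw [Matrix.smul_mul, hPP c hc d hdD hne, smul_zero]) (fun h => absurd hdD h), Matrix.smul_mul,
        hidem d hdD hPd]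
    have hmm : D'.min' hDne = D'.max' hDne := by
      by_contra hne
      have := coeff_eq_zero (D := {D'.min' hDne, D'.max' hDne}) (a := fun d => if d = D'.min' hDne then (1 : k) else -1)
        (fun s => by
          rw [Finset.sum_pair hne, if_pos rfl, if_neg (Ne.symm hne), ← hχl _ (D'.min'_mem hDne) s,
            ← hχl _ (D'.max'_mem hDne) s, e1, e2]
          ring) (D'.min' hDne) (Finset.mem_insert_self _ _)
      rw [if_pos rfl] at this
      exact one_ne_zero this
    have hone : ∀ c : ℤ → k, ∑ d ∈ D, c d • P d = c (D'.min' hDne) • P (D'.min' hDne) := fun c => by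
      rw [hsum, Finset.sum_eq_single (D'.min' hDne)
        (fun d hd hne => absurd (le_antisymm (hmm ▸ D'.le_max' d hd) (D'.min'_le d hd)) hne)
        (fun h => absurd (D'.min'_mem hDne) h)]
    have hscal : ∀ y : Pt J, ∃ c : k, matPtOf M ((y ≫ j) ≫ i) = c • (1 : Matrix _ _ k) := fun y => by
      have h1 := hA' 1
      rw [MonObj.one_comp, MonObj.one_comp, Borel.matPtOf_one hM, hone] at h1
      refine ⟨χ (D'.min' hDne) y / χ (D'.min' hDne) 1, ?_⟩
      rw [hA', hone, h1, smul_smul, div_mul_cancel₀]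
      intro h0
      rw [h0, zero_smul] at h1
      exact one_ne_zero h1
    obtain ⟨Jr, gJr, jr, hjr, hjrc, hJrs, hJrc, hJrsol, hJrn, hlift⟩ := exists_inter_borels hB
    haveI := hjr; haveI := hjrc; haveI := hJrs; haveI := hJrc; haveI := hJrsol
    haveI : Mono jr := (Over.forget _).mono_of_mono_map (inferInstanceAs (Mono jr.left))
    obtain ⟨f', -, hf'⟩ := hlift J (j ≫ i) fun y g => by
      obtain ⟨c, hc⟩ := hscal y
      obtain ⟨b, hb⟩ := hwcross g (((y ≫ j) ≫ i) * g) c (by rw [hwm, hc, Matrix.smul_mulVec, Matrix.one_mulVec])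
      exact ⟨b, by rw [← hb, ← Category.assoc, _root_.mul_assoc]⟩
    have hJrn' : AlgGrp.IsNormalHom jr := isNormalHom_of_pts jr hJrn
    have hJr1 := hG.2 Jr jr hjrc hJrn' (solvable_normal_torus hG.1 jr hJrn').1
    intro y
    refine (cancel_mono (j ≫ i)).mp ?_
    rw [← hf', ← Category.assoc, Borel.pts_eq_one_of_isTrivialGrp hJr1 (y ≫ f'), MonObj.one_comp, hf',
      MonObj.one_comp]
  have hSfin : ∀ y ∈ S, y ∈ fs := fun y hy => by
    obtain ⟨r, hr, x, rfl⟩ := hfs y hy
    rwa [hJ1 x, MonObj.one_comp, _root_.one_mul]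
  -- the homomorphism has finite image on the torus
  let N := Fintype.card ↥R
  have hN : 0 < N := by
    haveI : Nonempty ↥R := ⟨⟨π ⟨1, hN1⟩, Set.mem_range_self _⟩⟩
    exact Fintype.card_pos
  have hfu : ∀ y, (u y ≫ i) ≫ f = ((y ≫ i) ≫ f) ^ N := fun y => by
    let F : Pt T →* Pt H := (Borel.ptsMap f).comp (Borel.ptsMap i)
    show F (u y) = _
    rw [Finset.map_noncommProd, Finset.noncommProd_eq_pow_card _ _ _ ((y ≫ i) ≫ f) fun r _ => ?_]
    · rfl
    show (cc (rep r).1 y ≫ i) ≫ f = _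
    rw [hcc _ (rep r).2, MonObj.mul_comp, MonObj.mul_comp, GrpObj.inv_comp, _root_.mul_assoc,
      hH ((y ≫ i) ≫ f), inv_mul_cancel_left]
  let p : T ⟶ H := (i ≫ f) ^ N
  have hp : ∀ y : Pt T, y ≫ p = ((y ≫ i) ≫ f) ^ N := fun y => by
    show y ≫ ((i ≫ f) ^ N) = _
    rw [MonObj.comp_pow, Category.assoc]
  let vals := fs.image fun r => (r ≫ i) ≫ f
  have hval : ∀ y : Pt T, y ≫ p ∈ vals := fun y => Finset.mem_image.mpr
    ⟨u y, hSfin _ (fun g hg => huS y g hg), by rw [hp, hfu]⟩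
  haveI : IsIntegral T.left := Agent.GrpSchLib.Kunneth.isIntegral_grp T
  have hcl : ∀ h : Pt H, IsClosedImmersion h.left := fun h => by
    haveI : IsClosedImmersion (h.left ≫ H.hom) := by rw [Over.w h]; exact inferInstanceAs (IsClosedImmersion (𝟙 _))
    exact IsClosedImmersion.of_comp h.left H.hom
  let Z : Pt H → Set T.left := fun h => p.left ⁻¹' Set.range h.left
  have hZ : ∀ h, IsClosed (Z h) := fun h => by
    haveI := hcl h
    exact h.left.isClosedEmbedding.isClosed_range.preimage p.left.continuous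
  obtain ⟨_, hmem, hall⟩ := isIrreducible_iff_sUnion_isClosed.mp (IrreducibleSpace.isIrreducible_univ T.left)
    (vals.image Z) (fun s hs => by obtain ⟨h, -, rfl⟩ := Finset.mem_image.mp hs; exact hZ h) fun z _ => by
      refine Chev.mem_of_pts (𝟙 T) ?_ (fun y => ?_) ⟨z, rfl⟩
      · rw [Set.sUnion_eq_biUnion]
        exact (vals.image Z).finite_toSet.isClosed_biUnion fun s hs => by
          obtain ⟨h, -, rfl⟩ := Finset.mem_image.mp hs; exact hZ h
      · refine ⟨Z (y ≫ p), Finset.mem_image_of_mem _ (hval y), ?_⟩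
        show p.left (pimg (y ≫ 𝟙 T)) ∈ Set.range (y ≫ p).left
        rw [Category.comp_id, ← Chev.pimg_comp]
        exact ⟨_, rfl⟩
  obtain ⟨h, -, rfl⟩ := Finset.mem_image.mp hmem
  have hconst : ∀ y : Pt T, y ≫ p = h := fun y => by
    haveI := hcl h
    haveI : IsReduced (𝟙_ (Over (Spec (CommRingCat.of k)))).left := inferInstanceAs (IsReduced (Spec (CommRingCat.of k)))
    obtain ⟨z, hz⟩ := Chev.exists_lift_range h (y ≫ p) (by
      rintro _ ⟨x, rfl⟩
      rw [Subsingleton.elim (α := PrimeSpectrum k) x (IsLocalRing.closedPoint k)]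
      have := hall (Set.mem_univ (pimg y))
      exact this)
    rw [← hz, toUnit_unique z (𝟙 _), Category.id_comp]
  have hh : h = 1 := by rw [← hconst 1, hp, MonObj.one_comp, MonObj.one_comp, one_pow]
  obtain ⟨s, rfl⟩ := exists_pow_eq hT hN t
  show ((s ^ N) ≫ i) ≫ f = 1
  rw [show (s ^ N) ≫ i = (s ≫ i) ^ N from map_pow (Borel.ptsMap i) s N,
    show ((s ≫ i) ^ N) ≫ f = ((s ≫ i) ≫ f) ^ N from map_pow (Borel.ptsMap f) (s ≫ i) N, ← hp, hconst, hh]

set_option maxHeartbeats 1000000 in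
/-- **A semisimple group is perfect**: its homomorphisms into commutative groups are trivial. -/
theorem hom_comm_trivial (hG : Red.IsSemisimpleOver k G) {H : Over (Spec (CommRingCat.of k))} [GrpObj H]
    (hH : ∀ a b : Pt H, a * b = b * a) (f : G ⟶ H) [IsMonHom f] : f = 1 := by
  haveI : IsAffineHom G.hom := isAffineHom_of_isAffine _
  haveI : QuasiCompact G.hom := inferInstance
  haveI := Agent.GrpSchLib.AntiAffine.isSeparated_grp G
  haveI := Agent.GrpSchLib.AntiAffine.isSeparated_grp H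
  haveI : IsIntegral G.left := Agent.GrpSchLib.Kunneth.isIntegral_grp G
  obtain ⟨T, gT, i, hu⟩ := Borel.exists_univTorus G
  obtain ⟨him, hic, hT, -⟩ := id hu
  haveI := him; haveI := hic
  haveI : Mono i := (Over.forget _).mono_of_mono_map (inferInstanceAs (Mono i.left))
  have hi : AGF.IsMaxTorus i := ⟨him, inferInstance, hT, fun T' _ j _ _ φ h1 h2 => hu.maximal T' j φ h1 h2⟩
  obtain ⟨U, hU, hconj⟩ := S3938.result k G T i hi T i (isCentralizerOf_self hG.1 hi)
  haveI : IsClosedImmersion η[H].left := by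
    haveI : IsClosedImmersion (η[H].left ≫ H.hom) := by rw [Over.w η[H]]; exact inferInstanceAs (IsClosedImmersion (𝟙 _))
    exact IsClosedImmersion.of_comp η[H].left H.hom
  let Z : Set G.left := f.left ⁻¹' Set.range η[H].left
  have hZ : IsClosed Z := η[H].left.isClosedEmbedding.isClosed_range.preimage f.left.continuous
  have hUZ : (U : Set G.left) ⊆ Z := by
    intro z hz
    by_contra hzZ
    haveI : JacobsonSpace G.left := LocallyOfFiniteType.jacobsonSpace G.hom
    obtain ⟨x, hxU, hxc⟩ := nonempty_inter_closedPoints (Z := (U : Set G.left) ∩ Zᶜ) ⟨z, hz, hzZ⟩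
      (U.2.inter hZ.isOpen_compl).isLocallyClosed |> fun ⟨x, hx, hc⟩ => (⟨x, hx, hc⟩ : ∃ x, x ∈ (U : Set G.left) ∩ Zᶜ ∧ x ∈ closedPoints G.left)
    obtain ⟨q, rfl⟩ := Chev.exists_pimg_eq hxc
    obtain ⟨a, y, hay⟩ := hconj q hxU.1
    refine hxU.2 ⟨pimg (𝟙 _), ?_⟩
    have e : q ≫ f = η[H] := by
      rw [← hay, MonObj.mul_comp, MonObj.mul_comp, GrpObj.inv_comp, torus_killed hG hH hi f y, _root_.mul_one,
        mul_inv_cancel, Hom.one_def, toUnit_unique (toUnit _) (𝟙 _), Category.id_comp]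
    show _ = f.left (pimg q)
    rw [← Chev.pimg_comp q f, e, ← Chev.pimg_comp, Category.id_comp]
  have hall : Z = Set.univ := Set.eq_univ_of_univ_subset <| by
    rw [← (U.2.dense hU).closure_eq]
    exact closure_minimal hUZ hZ
  refine Borel.comp_inj_pt _ _ fun q => ?_
  rw [MonObj.comp_one]
  haveI : IsReduced (𝟙_ (Over (Spec (CommRingCat.of k)))).left := inferInstanceAs (IsReduced (Spec (CommRingCat.of k)))
  obtain ⟨z, hz⟩ := Chev.exists_lift_range η[H] (q ≫ f) (by
    rintro _ ⟨x, rfl⟩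
    exact (Set.eq_univ_iff_forall.mp hall) (q.left x))
  rw [← hz, toUnit_unique z (𝟙 _), Category.id_comp, Hom.one_def, toUnit_unique (toUnit _) (𝟙 _), Category.id_comp]

end

end Groth.Agent.Deform.Luna
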