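import Groth.Agent.Deform.Luna.Radical

/-!
# Unipotent radicals and surjective homomorphisms
-/

universe u

open CategoryTheory CategoryTheory.Limits MonoidalCategory CartesianMonoidalCategory MonObj GrpObj AlgebraicGeometry

attribute [local instance] CategoryTheory.Hom.monoid CategoryTheory.Hom.group
set_option linter.style.haveILetI false
set_option linter.unusedSectionVars false

namespace Groth.Agent.Deform.Luna

open Chev (Pt pimg)
open Borel (conj comp_conj pt_conj)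

noncomputable section

variable {k : Type u} [Field k] [IsAlgClosed k]

/-- A morphism out of a trivial group into a group is trivial if it is so on the unit. -/
theorem eq_one_of_isTrivialGrp {T G X : Over (Spec (CommRingCat.of k))} [GrpObj T] [GrpObj G]
    (hT : Red.IsTrivialGrp T) (t : T ⟶ G) [IsMonHom t] (x : X ⟶ T) : x ≫ t = 1 := by
  haveI : IsIso T.hom := hT
  have h : x = 1 := Over.OverMorphism.ext ((cancel_mono T.hom).mp ((Over.w x).trans (Over.w (1 : X ⟶ T)).symm))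
  rw [h, MonObj.one_comp]

set_option maxHeartbeats 2000000 in
/-- **A surjection onto a group without subtori is surjective on the unipotent radical.** -/
theorem exists_Ru_surj {N U' : Over (Spec (CommRingCat.of k))} [GrpObj N] [GrpObj U'] [IsAffine N.left]
    [Smooth N.hom] [ConnectedSpace N.left] [Smooth U'.hom] [QuasiCompact U'.hom] [ConnectedSpace U'.left]
    (hU' : Red.HasNoSubtorus k U') (v : N ⟶ U') [IsMonHom v] [Surjective v.left] :
    ∃ (W : Over (Spec (CommRingCat.of k))) (_ : GrpObj W) (w : W ⟶ N), IsMonHom w ∧ IsClosedImmersion w.left ∧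
      Smooth W.hom ∧ ConnectedSpace W.left ∧ Red.HasNoSubtorus k W ∧
      (∀ (σ : N ⟶ N) [IsIso σ] [IsMonHom σ] (x : Pt W), ∃ x' : Pt W, x' ≫ w = (x ≫ w) ≫ σ) ∧
      ∀ y : Pt U', ∃ x : Pt W, (x ≫ w) ≫ v = y := by
  haveI : IsAffineHom N.hom := isAffineHom_of_isAffine _
  haveI : QuasiCompact N.hom := inferInstance
  haveI := Agent.GrpSchLib.AntiAffine.isSeparated_grp N
  haveI := Agent.GrpSchLib.AntiAffine.isSeparated_grp U'
  obtain ⟨T, gT, t, hu⟩ := Borel.exists_univTorus N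
  obtain ⟨htm, htc, hT, -⟩ := id hu
  haveI := htm; haveI := htc
  haveI : Mono t := (Over.forget _).mono_of_mono_map (inferInstanceAs (Mono t.left))
  have hi : AGF.IsMaxTorus t := ⟨htm, inferInstance, hT, fun T' _ j _ _ f h1 h2 => hu.maximal T' j f h1 h2⟩
  obtain ⟨hTa, hTl, hTs, hTc⟩ := Deform.TorusBasic.props hT
  haveI := hTs
  obtain ⟨B, gB, iB, -, hB, -⟩ := exists_borel_torus hT t
  obtain ⟨W, gW, w, hwm, hwc, hWs, hWc, hWn, hW, huniv⟩ := exists_Ru hB
  haveI := hwm; haveI := hwc; haveI := hWs; haveI := hWc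
  haveI : IsAffine W.left := isAffine_of_isAffineHom w.left
  haveI := Borel.isNilpotent_pts_of_noSubtorus W hW
  haveI : Group.IsSolvable (Pt W) := inferInstance
  refine ⟨W, gW, w, hwm, hwc, hWs, hWc, hW, fun σ _ _ x => ?_, fun y => ?_⟩
  · -- the unipotent radical is characteristic
    obtain ⟨f, hf⟩ := huniv W (w ≫ σ) hW (normal_mem_borels hB (w ≫ σ) fun g z => by
      obtain ⟨z', hz'⟩ := hWn _ (g ≫ inv σ) z
      refine ⟨z', ?_⟩
      have h : (z' ≫ w) ≫ σ = ((g ≫ inv σ) * (z ≫ w) * (g ≫ inv σ)⁻¹) ≫ σ := congrArg (· ≫ σ) hz'.symm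
      simpa only [MonObj.mul_comp, GrpObj.inv_comp, Category.assoc, IsIso.inv_hom_id, Category.comp_id] using h)
    exact ⟨x ≫ f, by rw [Category.assoc, hf, Category.assoc]⟩
  -- the Cartan subgroup surjects
  obtain ⟨C, gC, c, hc, hcc, hCs⟩ :=
    Deform.exists_centralizer (Deform.isMultType_of_ft (Deform.isMultTypeFT_of_isTorus hT)) t
  haveI := hcc; haveI := hCs; haveI := hc.1; haveI := hc.2.1
  haveI := Borel.centralizer_connected N hT hc
  haveI : IsAffine C.left := isAffine_of_isAffineHom c.left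
  obtain ⟨T₁, gT₁, t₁, p, ht₁, hp, -, -, -, hpt, hZ⟩ := Borel.exists_image_cartan v hi hc
  haveI := ht₁.1; haveI := ht₁.2.1
  have hT₁ := hU' T₁ t₁ ht₁.2.2.1
  obtain ⟨Z, gZ, ζ, hζ, -, -⟩ :=
    Deform.exists_centralizer (Deform.isMultType_of_ft (Deform.isMultTypeFT_of_isTorus ht₁.2.2.1)) t₁
  haveI := hζ.1; haveI := hζ.2.1
  obtain ⟨r, hrm, hr, -, hrs, -⟩ := hZ Z ζ hζ
  haveI := hrs
  obtain ⟨sec, hsec⟩ := (hζ.2.2 U' (𝟙 U')).mpr fun X x h => by
    rw [eq_one_of_isTrivialGrp hT₁ t₁ h, _root_.mul_one, _root_.one_mul]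
  haveI : LocallyOfFiniteType C.hom := inferInstance
  haveI := Agent.GrpSchLib.AntiAffine.isSeparated_grp C
  haveI : LocallyOfFiniteType Z.hom := (Borel.centralizer_smooth ht₁.2.2.1 hζ).2 |> fun h => by
    haveI := h; infer_instance
  obtain ⟨z, hz⟩ := Borel.exists_pt_over r (y ≫ sec)
  have hy : (z ≫ c) ≫ v = y := by
    rw [Category.assoc, ← hr, ← Category.assoc, hz, Category.assoc, hsec, Category.comp_id]
  -- decomposition of the Cartan subgroup
  obtain ⟨t₀, ht₀⟩ := (hc.2.2 T t).mpr fun X x h => by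
    rw [← MonObj.mul_comp, ← MonObj.mul_comp,
      Agent.GrpSchLib.MultTypeComm.points_comm (Deform.isMultTypeFT_of_isTorus hT) x h]
  haveI : IsMonHom t₀ := Deform.isMonHom_of_comp t₀ c (i := t) ht₀
  haveI : Mono (t₀ ≫ c) := by rw [ht₀]; infer_instance
  haveI : Mono t₀ := mono_of_mono t₀ c
  have hmax₀ : AGF.IsMaxTorus t₀ := ⟨inferInstance, inferInstance, hT, fun T' _ j _ _ f hT' hf =>
    hi.2.2.2 T' (j ≫ c) f hT' (by rw [← Category.assoc, hf, ht₀])⟩
  haveI : Group.IsNilpotent (Pt C) := (Borel.nilpotent_of_central_maxTorus C t₀ hmax₀ fun x s => by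
    rw [← cancel_mono c, MonObj.mul_comp, MonObj.mul_comp, Category.assoc, ht₀]
    exact Borel.centralizer_comm hc x s).1
  haveI : Group.IsSolvable (Pt C) := inferInstance
  obtain ⟨T₂, gT₂, i₂, ρ, K, gK, κ, hT₂, hρ, hi₂, hiρ, hκ, hκc, hKs, hKc, hker, hK⟩ := Borel.exists_rad C
  haveI := hρ; haveI := hi₂; haveI := hκ; haveI := hκc; haveI := hKs; haveI := hKc
  haveI : IsSplitMono i₂ := IsSplitMono.mk' ⟨ρ, hiρ⟩
  haveI : IsAffine K.left := isAffine_of_isAffineHom κ.left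
  haveI : Mono (i₂ ≫ c) := mono_comp i₂ c
  obtain ⟨hTa₂, hTl₂, hTs₂, hTc₂⟩ := Deform.TorusBasic.props hT₂
  obtain ⟨n₀, s₁, -, hs₁⟩ := hu.2.2.2 T₂ (i₂ ≫ c) hT₂
  have htv : ∀ s : Pt T, (s ≫ t) ≫ v = 1 := fun s => by
    rw [Category.assoc, ← hpt, ← Category.assoc]; exact eq_one_of_isTrivialGrp hT₁ t₁ _
  have htor : ∀ q : Pt T₂, ((q ≫ i₂) ≫ c) ≫ v = 1 := fun q => by
    have h := htv (q ≫ s₁)
    rw [Category.assoc q, hs₁, ← comp_conj, ← Category.assoc, pt_conj] at h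
    simp only [MonObj.mul_comp, GrpObj.inv_comp, Category.assoc] at h ⊢
    rw [← mul_left_cancel_iff (a := n₀ ≫ v), ← mul_right_cancel_iff (a := (n₀ ≫ v)⁻¹), h, _root_.mul_one,
      mul_inv_cancel]
  obtain ⟨x, hx⟩ := (hker (z * (((z ≫ ρ) ≫ i₂))⁻¹)).mpr (by
    rw [MonObj.mul_comp, GrpObj.inv_comp, Category.assoc (z ≫ ρ), hiρ, Category.comp_id, mul_inv_cancel])
  obtain ⟨f, hf⟩ := huniv K (κ ≫ c) hK (centralizing_mem_borels hi hB hK (κ ≫ c) fun a s => by
    rw [← Category.assoc]; exact Borel.centralizer_comm hc (a ≫ κ) s)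
  refine ⟨x ≫ f, ?_⟩
  rw [Category.assoc x, hf, ← Category.assoc, hx, MonObj.mul_comp, MonObj.mul_comp, GrpObj.inv_comp,
    GrpObj.inv_comp, hy, htor, inv_one, _root_.mul_one]

variable {G : Over (Spec (CommRingCat.of k))} [GrpObj G] [IsAffine G.left] [Smooth G.hom] [ConnectedSpace G.left]

set_option maxHeartbeats 1000000 in
/-- **The identity component of the preimage of a normal subgroup.** -/
theorem exists_preimage {G' U' : Over (Spec (CommRingCat.of k))} [GrpObj G'] [GrpObj U']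
    [LocallyOfFiniteType G'.hom] (π : G ⟶ G') [IsMonHom π] [Surjective π.left] (u' : U' ⟶ G') [IsMonHom u']
    [IsClosedImmersion u'.left] [Smooth U'.hom] [QuasiCompact U'.hom] [ConnectedSpace U'.left]
    (hn : AlgGrp.IsNormalHom u') :
    ∃ (J : Over (Spec (CommRingCat.of k))) (_ : GrpObj J) (j : J ⟶ G) (v : J ⟶ U'), IsMonHom j ∧
      IsClosedImmersion j.left ∧ Smooth J.hom ∧ ConnectedSpace J.left ∧ IsMonHom v ∧ v ≫ u' = j ≫ π ∧
      Surjective v.left ∧ AlgGrp.IsNormalHom j ∧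
      ∀ g : Pt G, ∃ σ : J ⟶ J, IsMonHom σ ∧ σ ≫ j = j ≫ conj g := by
  classical
  haveI : IsAffineHom G.hom := isAffineHom_of_isAffine _
  haveI : QuasiCompact G.hom := inferInstance
  haveI : Mono u' := (Over.forget _).mono_of_mono_map (inferInstanceAs (Mono u'.left))
  let H : Subgroup (Pt G) := (Borel.ptsMap u').range.comap (Borel.ptsMap π)
  have hH : ∀ g : Pt G, g ∈ H ↔ ∃ y : Pt U', y ≫ u' = g ≫ π := fun g => Iff.rfl
  obtain ⟨J, gJ, j, hj, hjc, hJs, hJq, hJc, hJH, ⟨s, hs⟩, hlift⟩ :=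
    Borel.exists_neutral_fin H (C := π.left ⁻¹' Set.range u'.left)
      (u'.left.isClosedEmbedding.isClosed_range.preimage π.left.continuous) fun g =>
      ⟨fun h => Borel.exists_lift_pt u' (p := g ≫ π) (by rw [Chev.pimg_comp]; exact h),
        fun ⟨y, hy⟩ => ⟨pimg y, by rw [← Chev.pimg_comp, show y ≫ u' = g ≫ π from hy, Chev.pimg_comp]⟩⟩
  haveI := hj; haveI := hjc; haveI := hJs; haveI := hJq; haveI := hJc
  haveI : IsAffine J.left := isAffine_of_isAffineHom j.left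
  haveI : IsReduced J.left := GrpSchLib.isReduced_of_smooth_field J.hom
  haveI : Mono j := (Over.forget _).mono_of_mono_map (inferInstanceAs (Mono j.left))
  obtain ⟨v, hv⟩ := Chev.exists_lift_range u' (j ≫ π)
    (Chev.mem_of_pts _ u'.left.isClosedEmbedding.isClosed_range fun x => by
      obtain ⟨y, hy⟩ := hJH x
      exact ⟨pimg y, by rw [← Chev.pimg_comp, ← Category.assoc]; exact congrArg pimg hy⟩)
  haveI : IsMonHom v := Deform.isMonHom_of_comp v u' (i := j ≫ π) hv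
  let sel : Pt G → Pt U' := fun r => if h : ∃ y : Pt U', y ≫ u' = r ≫ π then h.choose⁻¹ else 1
  haveI : Surjective v.left := Borel.surjective_of_cosets v (s.image sel) fun y => by
    obtain ⟨g, hg⟩ := Borel.exists_pt_over π (y⁻¹ ≫ u')
    obtain ⟨r, hr, x, hx⟩ := hs g ((hH g).mpr ⟨y⁻¹, hg.symm⟩)
    have hr' : ∃ y' : Pt U', y' ≫ u' = r ≫ π := (hH r).mp (by
      rw [show r = (x ≫ j)⁻¹ * g by rw [← hx, inv_mul_cancel_left]]
      exact mul_mem (inv_mem (hJH x)) ((hH g).mpr ⟨y⁻¹, hg.symm⟩))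
    refine ⟨sel r, Finset.mem_image_of_mem _ hr, x⁻¹, (cancel_mono u').mp ?_⟩
    have h1 : (r ≫ π)⁻¹ * ((x ≫ j) ≫ π)⁻¹ = y ≫ u' := by
      rw [← _root_.mul_inv_rev, ← MonObj.mul_comp, hx, hg, GrpObj.inv_comp, _root_.inv_inv]
    rw [← h1, MonObj.mul_comp, show sel r = hr'.choose⁻¹ from dif_pos hr', GrpObj.inv_comp, hr'.choose_spec,
      Category.assoc, hv, GrpObj.inv_comp, Category.assoc]
  have hc : ∀ g : Pt G, ∃ σ : J ⟶ J, IsMonHom σ ∧ σ ≫ j = j ≫ conj g := fun g =>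
    hlift J (j ≫ conj g) fun z => (hH _).mpr (by
      obtain ⟨y, hy⟩ := hJH z
      obtain ⟨y', hy'⟩ := hn _ (g ≫ π) y
      refine ⟨y', ?_⟩
      have hy2 : y ≫ u' = (z ≫ j) ≫ π := hy
      rw [← hy', hy2, ← Category.assoc z, pt_conj, MonObj.mul_comp, MonObj.mul_comp, GrpObj.inv_comp])
  refine ⟨J, gJ, j, v, hj, hjc, hJs, hJc, inferInstance, hv, inferInstance, isNormalHom_of_pts j fun g x => ?_, hc⟩
  obtain ⟨σ, -, hσ⟩ := hc g
  exact ⟨x ≫ σ, by rw [Category.assoc, hσ, ← Category.assoc, pt_conj]⟩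

set_option maxHeartbeats 1000000 in
/-- **Normal subgroups without subtori of a quotient come from such subgroups.** -/
theorem exists_noSubtorus_over {G' U' : Over (Spec (CommRingCat.of k))} [GrpObj G'] [GrpObj U']
    [LocallyOfFiniteType G'.hom] (π : G ⟶ G') [IsMonHom π] [Surjective π.left] (u' : U' ⟶ G') [IsMonHom u']
    [IsClosedImmersion u'.left] [Smooth U'.hom] [QuasiCompact U'.hom] [ConnectedSpace U'.left]
    (hn : AlgGrp.IsNormalHom u') (hU' : Red.HasNoSubtorus k U') :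
    ∃ (W : Over (Spec (CommRingCat.of k))) (_ : GrpObj W) (w : W ⟶ G), IsMonHom w ∧ IsClosedImmersion w.left ∧
      Smooth W.hom ∧ ConnectedSpace W.left ∧ AlgGrp.IsNormalHom w ∧ Red.HasNoSubtorus k W ∧
      ∀ y : Pt U', ∃ x : Pt W, (x ≫ w) ≫ π = y ≫ u' := by
  obtain ⟨J, gJ, j, v, hj, hjc, hJs, hJc, hvm, hv, hvs, -, hc⟩ := exists_preimage π u' hn
  haveI := hj; haveI := hjc; haveI := hJs; haveI := hJc; haveI := hvm; haveI := hvs
  haveI : IsAffine J.left := isAffine_of_isAffineHom j.left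
  haveI : Mono j := (Over.forget _).mono_of_mono_map (inferInstanceAs (Mono j.left))
  obtain ⟨W, gW, w, hwm, hwc, hWs, hWc, hW, hchar, hsurj⟩ := exists_Ru_surj hU' v
  haveI := hwm; haveI := hwc; haveI := hWs
  haveI : IsClosedImmersion (w ≫ j).left := inferInstanceAs (IsClosedImmersion (w.left ≫ j.left))
  refine ⟨W, gW, w ≫ j, inferInstance, inferInstance, hWs, hWc, isNormalHom_of_pts _ fun g x => ?_, hW,
    fun y => ?_⟩
  · obtain ⟨σ, hσm, hσ⟩ := hc g
    obtain ⟨τ, -, hτ⟩ := hc g⁻¹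
    haveI := hσm
    haveI : IsIso σ := ⟨τ, (cancel_mono j).mp (by
        rw [Category.assoc, hτ, reassoc_of% hσ, Borel.conj_right_inv, Category.comp_id, Category.id_comp]),
      (cancel_mono j).mp (by
        rw [Category.assoc, hσ, reassoc_of% hτ, Borel.conj_left_inv, Category.comp_id, Category.id_comp])⟩
    obtain ⟨x', hx'⟩ := hchar σ x
    exact ⟨x', by rw [reassoc_of% hx', hσ, ← Category.assoc, ← Category.assoc, pt_conj, Category.assoc]⟩
  · obtain ⟨x, hx⟩ := hsurj y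
    exact ⟨x, by rw [← hx]; simp only [Category.assoc, hv]⟩

/-- The image of a group without subtori has none. -/
theorem hasNoSubtorus_image {U I : Over (Spec (CommRingCat.of k))} [GrpObj U] [GrpObj I] [IsAffine U.left]
    [Smooth U.hom] [ConnectedSpace U.left] [Smooth I.hom] [QuasiCompact I.hom] [ConnectedSpace I.left]
    (hU : Red.HasNoSubtorus k U) (v : U ⟶ I) [IsMonHom v] [Surjective v.left] : Red.HasNoSubtorus k I := by
  intro T' _ j _ _ hT'
  haveI : IsAffineHom U.hom := isAffineHom_of_isAffine _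
  haveI : QuasiCompact U.hom := inferInstance
  haveI := Agent.GrpSchLib.AntiAffine.isSeparated_grp U
  haveI := Agent.GrpSchLib.AntiAffine.isSeparated_grp I
  obtain ⟨T, gT, t, hu⟩ := Borel.exists_univTorus U
  obtain ⟨htm, htc, hT, -⟩ := id hu
  haveI := htm; haveI := htc
  haveI : Mono t := (Over.forget _).mono_of_mono_map (inferInstanceAs (Mono t.left))
  have hi : AGF.IsMaxTorus t := ⟨htm, inferInstance, hT, fun T' _ j _ _ f h1 h2 => hu.maximal T' j f h1 h2⟩
  obtain ⟨C, gC, c, hc, -, -⟩ :=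
    Deform.exists_centralizer (Deform.isMultType_of_ft (Deform.isMultTypeFT_of_isTorus hT)) t
  obtain ⟨T₁, gT₁, t₁, p, ht₁, hp, -, hps, -, hpt, -⟩ := Borel.exists_image_cartan v hi hc
  haveI := hp; haveI := hps; haveI := ht₁.1
  obtain ⟨hTa, hTl, hTs, hTc⟩ := Deform.TorusBasic.props hT
  obtain ⟨hTa₁, hTl₁, hTs₁, hTc₁⟩ := Deform.TorusBasic.props ht₁.2.2.1
  haveI := hTs; haveI := hTs₁
  have hpts : ∀ y : Pt T₁, y = 1 := fun y => by
    obtain ⟨x, rfl⟩ := Borel.exists_pt_over p y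
    rw [Borel.pts_eq_one_of_isTrivialGrp (hU T t hT) x, MonObj.one_comp]
  haveI := ht₁.2.2.2 T' j 1 hT' (Borel.comp_inj_pt _ _ fun y => by
    rw [MonObj.one_comp, MonObj.comp_one, hpts y, MonObj.one_comp])
  haveI : IsSeparated T₁.hom := Agent.GrpSchLib.AntiAffine.isSeparated_grp T₁
  haveI : IsReduced T₁.left := GrpSchLib.isReduced_of_smooth_field T₁.hom
  haveI : IsIso T₁.hom := Borel.isTrivialGrp_of_pts hpts
  show IsIso T'.hom
  haveI : IsIso ((1 : T₁ ⟶ T').left ≫ T'.hom) := by rw [Over.w]; infer_instance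
  haveI : IsIso (1 : T₁ ⟶ T').left := ((Over.forget _).mapIso (asIso (1 : T₁ ⟶ T'))).isIso_hom
  exact IsIso.of_isIso_comp_left (1 : T₁ ⟶ T').left T'.hom

end

end Groth.Agent.Deform.Luna
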