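import Groth.Agent.Deform.Luna.Perfect
import Groth.Agent.GrpSchLib.HomFlat
import Groth.Agent.EtFound.Descent
import Groth.Agent.S14762

/-!
# Quotients of semisimple groups
-/

universe u

open CategoryTheory CategoryTheory.Limits MonoidalCategory CartesianMonoidalCategory MonObj GrpObj AlgebraicGeometry

attribute [local instance] CategoryTheory.Hom.monoid CategoryTheory.Hom.group
set_option linter.style.haveILetI false

namespace Groth.Agent.Deform.Luna

open Chev (Pt pimg)

noncomputable section

/-- Affineness descends along an extension of fields. -/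
theorem isAffineHom_of_bc {k K : Type u} [Field k] [Field K] (y : Spec (CommRingCat.of K) ⟶ Spec (CommRingCat.of k))
    (G : Over (Spec (CommRingCat.of k))) [IsAffine (Red.bc y G).left] : IsAffineHom G.hom := by
  haveI : Surjective y := ⟨fun x => ⟨IsLocalRing.closedPoint K, Subsingleton.elim (α := PrimeSpectrum k) _ _⟩⟩
  haveI : Flat y := by
    obtain ⟨φ, rfl⟩ := Spec.map_surjective y
    rw [HasRingHomProperty.Spec_iff (P := @Flat)]
    algebraize [φ.hom]
    exact (inferInstance : Module.Flat k K)
  haveI := EtFound.fpqc_isAffineHom.{u}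
  haveI : IsAffine (pullback G.hom y) := ‹IsAffine (Red.bc y G).left›
  exact MorphismProperty.of_pullback_snd_of_descendsAlong (P := @IsAffineHom)
    (Q := @Surjective ⊓ @Flat ⊓ @QuasiCompact) ⟨⟨inferInstance, inferInstance⟩, inferInstance⟩
    (isAffineHom_of_isAffine (pullback.snd G.hom y))

variable {k : Type u} [Field k] [IsAlgClosed k]

/-- **A smooth quotient of a semisimple group is semisimple.** -/
theorem isSemisimpleOver_quot {G G' : Over (Spec (CommRingCat.of k))} [GrpObj G] [GrpObj G']
    (hG : Red.IsSemisimpleOver k G) [Smooth G'.hom] (q : G ⟶ G') [IsMonHom q] [Surjective q.left] :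
    Red.IsSemisimpleOver k G' := by
  haveI := hG.1.1; haveI := hG.1.2.1; haveI := hG.1.2.2.1
  haveI : IsAffineHom G.hom := isAffineHom_of_isAffine _
  haveI : QuasiCompact G.hom := inferInstance
  haveI : CompactSpace G.left := inferInstance
  haveI : CompactSpace G'.left := ⟨by
    rw [← q.left.surjective.range_eq]; exact isCompact_range q.left.continuous⟩
  haveI : QuasiCompact G'.hom := (quasiCompact_iff_compactSpace G'.hom).mpr inferInstance
  haveI := Agent.GrpSchLib.AntiAffine.isSeparated_grp G'
  haveI : QuasiCompact q.left := by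
    haveI : QuasiCompact (q.left ≫ G'.hom) := by rw [Over.w q]; infer_instance
    exact QuasiCompact.of_comp q.left G'.hom
  haveI : IsReduced G'.left := GrpSchLib.isReduced_of_smooth_field G'.hom
  haveI : Flat q.left := GrpSchLib.flat_of_surjective_hom q
  have hred := S14762.result k G G' hG.1 q
  refine ⟨hred, fun T _ t _ htc htn hT => ?_⟩
  obtain ⟨hTa, hTl, hTs, hTc⟩ := Deform.TorusBasic.props hT
  haveI := hTs; haveI := hTc; haveI := htc
  haveI : IsAffineHom T.hom := isAffineHom_of_isAffine _
  haveI : QuasiCompact T.hom := inferInstance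
  haveI : Mono t := (Over.forget _).mono_of_mono_map (inferInstanceAs (Mono t.left))
  obtain ⟨J, gJ, j, v, hj, hjc, hJs, hJc, hvm, hv, hvs, hjn, -⟩ := exists_preimage q t htn
  haveI := hj; haveI := hjc; haveI := hJs; haveI := hJc; haveI := hvm; haveI := hvs
  haveI : IsAffine J.left := isAffine_of_isAffineHom j.left
  have hv1 : v = 1 := hom_comm_trivial (isSemisimpleOver_of_normal hG j hjn)
    (Agent.GrpSchLib.MultTypeComm.points_comm (Deform.isMultTypeFT_of_isTorus hT)) v
  have hpts : ∀ y : Pt T, y = 1 := fun y => by
    haveI : IsAffineHom J.hom := isAffineHom_of_isAffine _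
    haveI : QuasiCompact J.hom := inferInstance
    obtain ⟨x, rfl⟩ := Borel.exists_pt_over v y
    rw [hv1, MonObj.comp_one]
  haveI : IsSeparated T.hom := Agent.GrpSchLib.AntiAffine.isSeparated_grp T
  haveI : IsReduced T.left := GrpSchLib.isReduced_of_smooth_field T.hom
  exact Borel.isTrivialGrp_of_pts hpts

end

end Groth.Agent.Deform.Luna
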