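import Groth.Agent.Deform.Luna.Reductive
import Groth.Agent.Deform.Borel.CentBorel

/-!
# Unipotent radicals of centralisers of tori and of intersections of Borel subgroups
-/

universe u

open CategoryTheory CategoryTheory.Limits MonoidalCategory CartesianMonoidalCategory MonObj GrpObj AlgebraicGeometry

attribute [local instance] CategoryTheory.Hom.monoid CategoryTheory.Hom.group
set_option linter.style.haveILetI false
set_option linter.unusedSectionVars false

namespace Groth.Agent.Deform.Luna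

open Chev (Pt pimg)
open Borel (conj comp_conj pt_conj)

noncomputable section

variable {k : Type u} [Field k] [IsAlgClosed k] {G : Over (Spec (CommRingCat.of k))} [GrpObj G]

/-- Absence of subtori passes to subgroups. -/
theorem hasNoSubtorus_of_mono {H V : Over (Spec (CommRingCat.of k))} [GrpObj H] [GrpObj V] (f : H ⟶ V) [IsMonHom f]
    [Mono f] (hV : Red.HasNoSubtorus k V) : Red.HasNoSubtorus k H := fun T _ j _ _ hT => hV T (j ≫ f) hT

/-- The unipotent radical receives the normal subgroups without subtori. -/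
theorem le_unipotentRadical {U W : Over (Spec (CommRingCat.of k))} [GrpObj U] [GrpObj W] [IsAffine G.left]
    {u : U ⟶ G} (hU : Par.IsUnipotentRadical u) (w : W ⟶ G) [IsMonHom w] [IsClosedImmersion w.left] [Smooth W.hom]
    [ConnectedSpace W.left] (hn : AlgGrp.IsNormalHom w) (hW : Red.HasNoSubtorus k W) :
    ∃ f : W ⟶ U, f ≫ u = w := by
  haveI : IsAffineHom G.hom := isAffineHom_of_isAffine _
  haveI : QuasiCompact W.hom := by rw [← Over.w w]; infer_instance
  exact hU.2.2.2.2.2.2 W w inferInstance hn inferInstance inferInstance fun s => by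
    haveI := Borel.isIso_geomPt s
    exact ⟨Borel.connectedSpace_bc (Red.geomPt s) W, Borel.hasNoSubtorus_geom hW s⟩

/-- The properties of a unipotent radical over an algebraically closed field. -/
theorem unipotentRadical_props {U : Over (Spec (CommRingCat.of k))} [GrpObj U] [IsAffine G.left]
    {u : U ⟶ G} (hU : Par.IsUnipotentRadical u) :
    IsMonHom u ∧ IsClosedImmersion u.left ∧ IsAffine U.left ∧ Smooth U.hom ∧ ConnectedSpace U.left ∧
      Red.HasNoSubtorus k U := by
  obtain ⟨hm, hc, -, hs, -, hgeo, -⟩ := hU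
  haveI := hc
  let s : ↥(Spec (CommRingCat.of k)) := IsLocalRing.closedPoint k
  obtain ⟨hcn, hno⟩ := hgeo s
  refine ⟨hm, hc, isAffine_of_isAffineHom u.left, hs, ?_, Borel.hasNoSubtorus_of_geom s hno⟩
  haveI := Borel.isIso_geomPt s
  haveI : ConnectedSpace ↥(pullback U.hom (Red.geomPt s)) := hcn
  exact Function.Surjective.connectedSpace (f := (pullback.fst U.hom (Red.geomPt s)))
    Surjective.surj (pullback.fst U.hom _).continuous

variable [IsAffine G.left] [Smooth G.hom] [ConnectedSpace G.left]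

/-- **A subgroup inside the unipotent radicals of all Borel subgroups containing a maximal torus lies in all Borel
subgroups.** -/
theorem mem_borels_of_radicals {T H : Over (Spec (CommRingCat.of k))} [GrpObj T] [GrpObj H] {i : T ⟶ G}
    (hi : AGF.IsMaxTorus i) (j : H ⟶ G) [IsMonHom j] [IsClosedImmersion j.left] [Smooth H.hom] [ConnectedSpace H.left]
    (hH : ∀ (B : Over (Spec (CommRingCat.of k))) [GrpObj B] (iB : B ⟶ G) (t : T ⟶ B), Red.IsBorelOver k iB →
      t ≫ iB = i → ∀ (V : Over (Spec (CommRingCat.of k))) [GrpObj V] (v : V ⟶ B), Par.IsUnipotentRadical v →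
        ∃ f : H ⟶ V, f ≫ v ≫ iB = j) :
    ∃ (B : Over (Spec (CommRingCat.of k))) (_ : GrpObj B) (iB : B ⟶ G), Red.IsBorelOver k iB ∧
      Red.HasNoSubtorus k H ∧ ∀ (x : Pt H) (g : Pt G), ∃ b : Pt B, b ≫ iB = g⁻¹ * (x ≫ j) * g := by
  haveI := hi.1
  haveI : IsAffine H.left := isAffine_of_isAffineHom j.left
  haveI : Mono j := (Over.forget _).mono_of_mono_map (inferInstanceAs (Mono j.left))
  obtain ⟨hTa, hTl, hTs, hTc⟩ := Deform.TorusBasic.props hi.2.2.1
  haveI := hTs
  haveI : IsReduced T.left := GrpSchLib.isReduced_of_smooth_field T.hom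
  obtain ⟨B, gB, iB, t, hB, ht⟩ := exists_borel_torus hi.2.2.1 i
  have hrad : ∀ (B' : Over (Spec (CommRingCat.of k))) [GrpObj B'] (iB' : B' ⟶ G) (t' : T ⟶ B'),
      Red.IsBorelOver k iB' → t' ≫ iB' = i →
      ∃ (V : Over (Spec (CommRingCat.of k))) (_ : GrpObj V) (v : V ⟶ B') (f : H ⟶ V), IsMonHom v ∧
        IsClosedImmersion v.left ∧ Red.HasNoSubtorus k V ∧ f ≫ v ≫ iB' = j := by
    intro B' _ iB' t' hB' ht'
    obtain ⟨hbm, hbc, hBs, hBcn, hBsol, -⟩ := id hB'
    haveI := hbm; haveI := hbc; haveI := hBs; haveI := hBcn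
    haveI : IsAffine B'.left := isAffine_of_isAffineHom iB'.left
    haveI : Group.IsSolvable (Pt B') := Borel.isSolvable_pts_of_grp hBsol
    obtain ⟨T', gT', i', ρ, V, gV, v, hT', hρ, -, -, hv, hvc, hVs, hVc, hker, hV⟩ := Borel.exists_rad B'
    haveI := hρ; haveI := hv; haveI := hvc; haveI := hVs; haveI := hVc
    obtain ⟨f, hf⟩ := hH B' iB' t' hB' ht' V v (Borel.isUnipotentRadical_of_ker hT' ρ v hV hker)
    exact ⟨V, gV, v, f, hv, hvc, hV, hf⟩
  obtain ⟨V, gV, v, f, hv, hvc, hV, hf⟩ := hrad B iB t hB ht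
  haveI := hB.1; haveI := hB.2.1; haveI := hv; haveI := hvc
  haveI : IsClosedImmersion (v ≫ iB).left := inferInstanceAs (IsClosedImmersion (v.left ≫ iB.left))
  haveI : Mono (v ≫ iB) := (Over.forget _).mono_of_mono_map (inferInstanceAs (Mono (v ≫ iB).left))
  haveI : IsMonHom f := Deform.isMonHom_of_comp f (v ≫ iB) (i := j) hf
  haveI : Mono (f ≫ v ≫ iB) := by rw [hf]; infer_instance
  haveI : Mono f := mono_of_mono f (v ≫ iB)
  have hHno := hasNoSubtorus_of_mono f hV
  refine ⟨B, gB, iB, hB, hHno, fun x g => mem_all_borels hi hB t ht hHno j (fun g' hg' x' => ?_) g x⟩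
  obtain ⟨t', ht'⟩ := Chev.exists_lift_range iB (i ≫ conj g'⁻¹)
    (Chev.mem_of_pts _ iB.left.isClosedEmbedding.isClosed_range fun w => by
      obtain ⟨b, hb⟩ := hg' w
      exact ⟨pimg b, by rw [← Chev.pimg_comp, hb, ← Category.assoc, pt_conj, _root_.inv_inv]⟩)
  obtain ⟨V', gV', v', f', -, -, -, hf'⟩ := hrad B (iB ≫ conj g') t' (Borel.isBorelOver_conj iB hB g')
    (by rw [← Category.assoc, ht', Category.assoc, Borel.conj_left_inv, Category.comp_id])
  refine ⟨(x' ≫ f') ≫ v', ?_⟩
  rw [← hf']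
  simp only [← Category.assoc, pt_conj]
  group

set_option maxHeartbeats 1000000 in
/-- **The unipotent radical of the centraliser of a torus lies in all Borel subgroups.** -/
theorem centralizer_radical_mem_borels {S C W : Over (Spec (CommRingCat.of k))} [GrpObj S] [GrpObj C] [GrpObj W]
    (hS : Red.IsTorus S) {iS : S ⟶ G} [IsMonHom iS] [Mono iS] {c : C ⟶ G} (hc : Red.IsCentralizerOf iS c)
    (w : W ⟶ C) [IsMonHom w] [IsAffine W.left] [Smooth W.hom] [ConnectedSpace W.left]
    (hn : ∀ (g : Pt C) (x : Pt W), ∃ x' : Pt W, x' ≫ w = g * (x ≫ w) * g⁻¹) (hW : Red.HasNoSubtorus k W) :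
    ∃ (B : Over (Spec (CommRingCat.of k))) (_ : GrpObj B) (iB : B ⟶ G), Red.IsBorelOver k iB ∧
      ∀ (x : Pt W) (g : Pt G), ∃ b : Pt B, b ≫ iB = g⁻¹ * (x ≫ w ≫ c) * g := by
  haveI : IsAffineHom G.hom := isAffineHom_of_isAffine _
  haveI := Agent.GrpSchLib.AntiAffine.isSeparated_grp G
  obtain ⟨hcc, hCs⟩ := Borel.centralizer_smooth hS hc
  haveI := hcc; haveI := hCs
  haveI := Borel.centralizer_connected G hS hc
  haveI := hc.1; haveI := hc.2.1
  haveI : IsAffine C.left := isAffine_of_isAffineHom c.left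
  haveI := Borel.isNilpotent_pts_of_noSubtorus W hW
  haveI : Group.IsSolvable (Pt W) := inferInstance
  obtain ⟨hSa, hSl, hSs, hSc⟩ := Deform.TorusBasic.props hS
  haveI := hSs
  obtain ⟨T, gT, t, hu⟩ := Borel.exists_univTorus C
  obtain ⟨htm, htc, hT, -⟩ := id hu
  haveI := htm; haveI := htc
  haveI : Mono t := (Over.forget _).mono_of_mono_map (inferInstanceAs (Mono t.left))
  obtain ⟨hTa, hTl, hTs, hTc⟩ := Deform.TorusBasic.props hT
  haveI := hTs
  haveI : IsReduced T.left := GrpSchLib.isReduced_of_smooth_field T.hom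
  haveI : IsReduced S.left := GrpSchLib.isReduced_of_smooth_field S.hom
  -- the torus is contained in the maximal torus of its centraliser
  obtain ⟨s₀, hs₀⟩ := (hc.2.2 S iS).mpr fun X x h => by
    rw [← MonObj.mul_comp, ← MonObj.mul_comp,
      Agent.GrpSchLib.MultTypeComm.points_comm (Deform.isMultTypeFT_of_isTorus hS) x h]
  haveI : IsMonHom s₀ := Deform.isMonHom_of_comp s₀ c (i := iS) hs₀
  haveI : Mono (s₀ ≫ c) := by rw [hs₀]; infer_instance
  haveI : Mono s₀ := mono_of_mono s₀ c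
  obtain ⟨g₀, s₁, -, hs₁⟩ := hu.2.2.2 S s₀ hS
  have hsT : s₁ ≫ t = s₀ := by
    rw [hs₁, ← comp_conj]
    refine Borel.comp_inj_pt _ _ fun x => ?_
    rw [← Category.assoc, pt_conj]
    have h : g₀ * (x ≫ s₀) = (x ≫ s₀) * g₀ := (cancel_mono c).mp (by
      rw [MonObj.mul_comp, MonObj.mul_comp, Category.assoc, hs₀]
      exact Borel.centralizer_comm hc g₀ x)
    rw [h, mul_inv_cancel_right]
  have hi : AGF.IsMaxTorus (t ≫ c) := ⟨inferInstance, mono_comp t c, hT, fun T' _ j _ _ f hT' hf => by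
    obtain ⟨z, hz⟩ := (hc.2.2 T' j).mpr fun X x h => by
      rw [show iS = (s₁ ≫ f) ≫ j by rw [Category.assoc, hf, reassoc_of% hsT, hs₀], ← Category.assoc h,
        ← MonObj.mul_comp, ← MonObj.mul_comp,
        Agent.GrpSchLib.MultTypeComm.points_comm (Deform.isMultTypeFT_of_isTorus hT') x (h ≫ s₁ ≫ f)]
    haveI : IsMonHom z := Deform.isMonHom_of_comp z c (i := j) hz
    haveI : Mono (z ≫ c) := by rw [hz]; infer_instance
    haveI : Mono z := mono_of_mono z c
    exact hu.maximal T' z f hT' ((cancel_mono c).mp (by rw [Category.assoc, hz, hf]))⟩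
  obtain ⟨B, gB, iB, tB, hB, htB⟩ := exists_borel_torus hT (t ≫ c)
  refine ⟨B, gB, iB, hB, fun x g => mem_all_borels hi hB tB htB hW (w ≫ c) (fun g' hg' x' => ?_) g x⟩
  haveI := hB.2.1
  obtain ⟨t', ht'⟩ := Chev.exists_lift_range iB ((t ≫ c) ≫ conj g'⁻¹)
    (Chev.mem_of_pts _ iB.left.isClosedEmbedding.isClosed_range fun v => by
      obtain ⟨b, hb⟩ := hg' v
      exact ⟨pimg b, by rw [← Chev.pimg_comp, hb, ← Category.assoc v (t ≫ c), pt_conj, _root_.inv_inv]; try simp only [Category.assoc]⟩)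
  obtain ⟨D, gD, d, dB, hD, -, -, hd, -⟩ := Borel.exists_cent_borel G hS iS (iB ≫ conj g')
    (Borel.isBorelOver_conj iB hB g') (s₁ ≫ t') (by
      rw [Category.assoc, ← Category.assoc t', ht', Category.assoc, Borel.conj_left_inv, Category.comp_id,
        reassoc_of% hsT, hs₀]) c (fun y => Borel.pts_centralizer hc y)
  obtain ⟨b, hb⟩ := normal_mem_borels hD w hn x' 1
  rw [inv_one, _root_.one_mul, _root_.mul_one] at hb
  refine ⟨b ≫ dB, ?_⟩
  have h1 := congrArg (· ≫ c) hb
  simp only [Category.assoc, hd] at h1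
  simp only [← Category.assoc, pt_conj] at h1
  simp only [← Category.assoc]
  rw [← h1]
  group

/-- **The centraliser of a torus in a reductive group is reductive.** -/
theorem isReductiveOver_centralizer (hG : Red.IsReductiveOver k G) {S C : Over (Spec (CommRingCat.of k))} [GrpObj S]
    [GrpObj C] (hS : Red.IsTorus S) {iS : S ⟶ G} [IsMonHom iS] [Mono iS] {c : C ⟶ G}
    (hc : Red.IsCentralizerOf iS c) : Red.IsReductiveOver k C := by
  haveI : IsAffineHom G.hom := isAffineHom_of_isAffine _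
  haveI := Agent.GrpSchLib.AntiAffine.isSeparated_grp G
  obtain ⟨hcc, hCs⟩ := Borel.centralizer_smooth hS hc
  haveI := hcc; haveI := hCs; haveI := hc.1; haveI := hc.2.1
  haveI : IsAffine C.left := isAffine_of_isAffineHom c.left
  refine ⟨inferInstance, inferInstance, Borel.centralizer_connected G hS hc,
    fun W _ w _ hwc hWs hWc hWn hW => ?_⟩
  haveI := hwc; haveI := hWs; haveI := hWc
  haveI : IsAffine W.left := isAffine_of_isAffineHom w.left
  obtain ⟨B, gB, iB, hB, hmem⟩ := centralizer_radical_mem_borels hS hc w (fun g x => by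
    obtain ⟨x', hx'⟩ := hWn (𝟙_ _) g x
    exact ⟨x', hx'.symm⟩) hW
  obtain ⟨W', gW', w', hwm', hwc', hWs', hWc', hWn', hW', hu⟩ := exists_Ru hB
  haveI := hwm'; haveI := hwc'
  have ht : Red.IsTrivialGrp W' := hG.2.2.2 W' w' hwc' hWs' hWc' hWn' hW'
  obtain ⟨f, hf⟩ := hu W (w ≫ c) hW hmem
  haveI : IsAffineHom W.hom := isAffineHom_of_isAffine _
  haveI : IsReduced W.left := GrpSchLib.isReduced_of_smooth_field W.hom
  haveI : Mono w := (Over.forget _).mono_of_mono_map (inferInstanceAs (Mono w.left))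
  refine Borel.isTrivialGrp_of_pts fun x => (cancel_mono (w ≫ c)).mp ?_
  rw [MonObj.one_comp, ← hf, ← Category.assoc, Borel.pts_eq_one_of_isTrivialGrp ht (x ≫ f), MonObj.one_comp]

end

end Groth.Agent.Deform.Luna
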