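import Groth.Agent.Deform.Borel.QuotFixed
import Groth.Agent.Deform.Borel.UnipRad
import Mathlib.LinearAlgebra.Dimension.Finite

/-!
# Vectors of functions moved linearly by a group
-/

universe u

open CategoryTheory CategoryTheory.Limits MonoidalCategory CartesianMonoidalCategory MonObj GrpObj AlgebraicGeometry
open Matrix

attribute [local instance] CategoryTheory.Hom.monoid CategoryTheory.Hom.group
set_option linter.style.haveILetI false
set_option linter.unusedSectionVars false

namespace Groth.Agent.Deform.Luna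

open Chev (Pt pimg pimg_comp)
open Borel (HasCrd matPtOf)
open Agent.GrpSchLib.Kunneth (Fn ev evPt evPt_comp ev_ev IsRepMatrix)

noncomputable section

variable {k : Type u} [Field k] [IsAlgClosed k]

/-- The values of a vector of functions at a rational point. -/
def zv {Y : Over (Spec (CommRingCat.of k))} {J : Type*} (z : J → Fn Y) (y : Pt Y) : J → k := fun l => evPt y (z l)

theorem isClosed_zero {Y : Over (Spec (CommRingCat.of k))} (f : Fn Y) :
    IsClosed ((Y.left.basicOpen f : Set Y.left)ᶜ) := (Y.left.basicOpen f).2.isClosed_compl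

/-- The rational points where some functions vanish are the points of a closed set. -/
theorem exists_zero_set {Y : Over (Spec (CommRingCat.of k))} {J : Type*} (f : J → Fn Y) :
    ∃ S : Set Y.left, IsClosed S ∧ ∀ y : Pt Y, pimg y ∈ S ↔ ∀ i, evPt y (f i) = 0 :=
  ⟨⋂ i, ((Y.left.basicOpen (f i) : Set Y.left)ᶜ), isClosed_iInter fun i => isClosed_zero (f i), fun y => by
    simp only [Set.mem_iInter, Set.mem_compl_iff, SetLike.mem_coe, Borel.evPt_eq_zero_iff]⟩

/-- Matrices multiplicative on rational points are multiplicative. -/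
theorem isRepMatrix_of_pts {G : Over (Spec (CommRingCat.of k))} [GrpObj G] [Smooth G.hom] {n : ℕ}
    {M : Matrix (Fin n) (Fin n) (Fn G)}
    (hmul : ∀ g g' : Pt G, M.map (evPt (g * g')) = M.map (evPt g) * M.map (evPt g'))
    (hone : M.map (evPt (1 : Pt G)) = 1) : IsRepMatrix M := by
  haveI : Smooth (G ⊗ G).hom := inferInstanceAs (Smooth (pullback.fst G.hom G.hom ≫ G.hom))
  haveI : IsReduced (G ⊗ G).left := GrpSchLib.isReduced_of_smooth_field (G ⊗ G).hom
  have huniv : M.map (ev (fst G G * snd G G)) = M.map (ev (fst G G)) * M.map (ev (snd G G)) := by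
    ext a b
    refine sub_eq_zero.mp (Agent.GrpSchLib.Kunneth.eq_zero_of_forall_evPt _ fun y => ?_)
    rw [map_sub, sub_eq_zero]
    have h := congrFun (congrFun (hmul (y ≫ fst G G) (y ≫ snd G G)) a) b
    simp only [Matrix.map_apply, Matrix.mul_apply, map_sum, map_mul, evPt_comp, MonObj.comp_mul] at h ⊢
    exact h
  refine ⟨fun T g g' => ?_, fun T => ?_⟩
  · ext a b
    have h := congrArg (ev (lift g g')) (congrFun (congrFun huniv a) b)
    simp only [Matrix.map_apply, Matrix.mul_apply, map_sum, map_mul, ev_ev, MonObj.comp_mul, lift_fst, lift_snd] at h ⊢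
    exact h
  · ext a b
    have h := congrFun (congrFun hone a) b
    have h1 : ev (1 : Pt G) (M a b) = algebraMap k _ ((1 : Matrix (Fin n) (Fin n) k) a b) := by
      rw [Borel.ev_pt_eq, ← h]; rfl
    have h2 := congrArg (ev (toUnit T)) h1
    rw [ev_ev, MonObj.comp_one, AlgHom.commutes] at h2
    rw [Matrix.map_apply, h2, Matrix.one_apply, Matrix.one_apply]
    split_ifs <;> simp

/-- A representation restricted along a homomorphism. -/
theorem isRepMatrix_comp {G H : Over (Spec (CommRingCat.of k))} [GrpObj G] [GrpObj H] (f : H ⟶ G) [IsMonHom f]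
    {n : ℕ} {M : Matrix (Fin n) (Fin n) (Fn G)} (h : IsRepMatrix M) : IsRepMatrix (M.map (ev f)) := by
  refine ⟨fun T g g' => ?_, fun T => ?_⟩
  · rw [Matrix.map_map, Matrix.map_map, Matrix.map_map]
    have e : ∀ x : T ⟶ H, ⇑(ev x) ∘ ⇑(ev f) = ⇑(ev (x ≫ f)) := fun x => funext fun a => ev_ev _ _ _
    rw [e, e, e, MonObj.mul_comp]
    exact h.mul T _ _
  · rw [Matrix.map_map]
    have e : ⇑(ev (1 : T ⟶ H)) ∘ ⇑(ev f) = ⇑(ev (1 : T ⟶ G)) := funext fun a => by
      rw [Function.comp_apply, ev_ev, MonObj.one_comp]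
    rw [e]
    exact h.one T

theorem matPtOf_comp {G H : Over (Spec (CommRingCat.of k))} [GrpObj G] [GrpObj H] (f : H ⟶ G) {n : ℕ}
    (M : Matrix (Fin (n + 1)) (Fin (n + 1)) (Fn G)) (u : Pt H) : matPtOf (M.map (ev f)) u = matPtOf M (u ≫ f) := by
  ext a b
  exact evPt_comp _ _ _

/-- The contragredient representation. -/
theorem exists_dual {G : Over (Spec (CommRingCat.of k))} [GrpObj G] [Smooth G.hom] {n : ℕ}
    {M : Matrix (Fin (n + 1)) (Fin (n + 1)) (Fn G)} (h : IsRepMatrix M) :
    ∃ N : Matrix (Fin (n + 1)) (Fin (n + 1)) (Fn G), IsRepMatrix N ∧ ∀ g, matPtOf N g = (matPtOf M g⁻¹)ᵀ := by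
  have e : ∀ g : Pt G, ((M.map (ev (𝟙 G)⁻¹))ᵀ).map (evPt g) = (matPtOf M g⁻¹)ᵀ := fun g => by
    ext a b
    show evPt g (ev (𝟙 G)⁻¹ (M b a)) = evPt g⁻¹ (M b a)
    rw [evPt_comp, GrpObj.comp_inv, Category.comp_id]
  refine ⟨(M.map (ev (𝟙 G)⁻¹))ᵀ, isRepMatrix_of_pts (fun g g' => ?_) ?_, e⟩
  · rw [e, e, e, _root_.mul_inv_rev, Borel.matPtOf_mul h, Matrix.transpose_mul]
  · rw [e, inv_one, Borel.matPtOf_one h, Matrix.transpose_one]

/-- A vector of functions moved linearly may be taken to span: it becomes the orbit of a matrix representation. -/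
theorem exists_spanning {G : Over (Spec (CommRingCat.of k))} [GrpObj G] [Smooth G.hom] {n : ℕ} (z : Fin (n + 1) → Fn G)
    (hne : zv z (1 : Pt G) ≠ 0)
    (hmove : ∀ g : Pt G, ∃ A : Matrix (Fin (n + 1)) (Fin (n + 1)) k, ∀ h : Pt G, zv z (g * h) = A *ᵥ zv z h) :
    ∃ (m : ℕ) (w : Fin (m + 1) → Fn G) (M : Matrix (Fin (m + 1)) (Fin (m + 1)) (Fn G)) (h₀ : Fin (m + 1) → Pt G)
      (π : (Fin (n + 1) → k) →ₗ[k] Fin (m + 1) → k),
      IsRepMatrix M ∧ (∀ i, zv w (h₀ i) = Pi.single i 1) ∧
      (∀ g h, zv w (g * h) = matPtOf M g *ᵥ zv w h) ∧ (∀ h, π (zv z h) = zv w h) ∧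
      ∀ h, zv z h = ∑ i, zv w h i • zv z (h₀ i) := by
  classical
  obtain ⟨b, hb, hspan, hli⟩ := exists_linearIndependent k (Set.range fun h : Pt G => zv z h)
  haveI : Fintype b := hli.setFinite.fintype
  have hbne : Nonempty b := by
    by_contra he
    rw [not_nonempty_iff] at he
    have hb0 : b = ∅ := Set.isEmpty_coe_sort.mp he
    have h1 : zv z (1 : Pt G) ∈ Submodule.span k b := hspan ▸ Submodule.subset_span ⟨1, rfl⟩
    rw [hb0, Submodule.span_empty, Submodule.mem_bot] at h1
    exact hne h1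
  obtain ⟨m, hm⟩ := Nat.exists_eq_succ_of_ne_zero (Fintype.card_ne_zero (α := b))
  let e : Fin (m + 1) ≃ b := (Fintype.equivFinOfCardEq hm).symm
  choose h₀ hh₀ using fun i => hb (e i).2
  replace hh₀ : ∀ i, zv z (h₀ i) = ((e i : b) : Fin (n + 1) → k) := hh₀
  let E : (Fin (m + 1) → k) →ₗ[k] Fin (n + 1) → k := Fintype.linearCombination k fun i => zv z (h₀ i)
  have hliE : LinearIndependent k fun i => zv z (h₀ i) := by
    rw [funext hh₀]
    exact hli.comp e e.injective
  obtain ⟨π, hπ⟩ := E.exists_leftInverse_of_injective (LinearMap.ker_eq_bot.mpr hliE.fintypeLinearCombination_injective)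
  have hπ' : ∀ c, π (E c) = c := fun c => LinearMap.congr_fun hπ c
  have hmem : ∀ h : Pt G, ∃ c, E c = zv z h := fun h => by
    have h1 : zv z h ∈ Submodule.span k b := hspan ▸ Submodule.subset_span ⟨h, rfl⟩
    rw [show b = Set.range fun i => zv z (h₀ i) from by
      rw [funext hh₀]
      exact (Subtype.range_coe).symm.trans (e.surjective.range_comp (Subtype.val : b → _)).symm,
      Submodule.mem_span_range_iff_exists_fun] at h1
    obtain ⟨c, hc⟩ := h1
    exact ⟨c, hc⟩
  let w : Fin (m + 1) → Fn G := fun i => ∑ l, π (Pi.single l 1) i • z l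
  have hw : ∀ h, π (zv z h) = zv w h := fun h => by
    ext i
    show _ = evPt h (∑ l, π (Pi.single l 1) i • z l)
    conv_lhs => rw [pi_eq_sum_univ' (zv z h)]
    simp only [map_sum, map_smul, Finset.sum_apply, Pi.smul_apply, smul_eq_mul]
    exact Finset.sum_congr rfl fun l _ => mul_comm _ _
  have hz : ∀ h, zv z h = ∑ i, zv w h i • zv z (h₀ i) := fun h => by
    obtain ⟨c, hc⟩ := hmem h
    conv_lhs => rw [← hc]
    rw [← hw, ← hc, hπ']
    rfl
  have hwb : ∀ i, zv w (h₀ i) = Pi.single i 1 := fun i => by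
    rw [← hw]
    have e1 : E (Pi.single i 1) = zv z (h₀ i) := by
      simp [E, Fintype.linearCombination_apply_single]
    rw [← e1, hπ']
  let M : Matrix (Fin (m + 1)) (Fin (m + 1)) (Fn G) := Matrix.of fun l i => ev (𝟙 G * (toUnit G ≫ h₀ i)) (w l)
  have hM : ∀ (g : Pt G) l i, matPtOf M g l i = zv w (g * h₀ i) l := fun g l i => by
    show evPt g (ev (𝟙 G * (toUnit G ≫ h₀ i)) (w l)) = evPt (g * h₀ i) (w l)
    rw [evPt_comp, MonObj.comp_mul, Category.comp_id, ← Category.assoc, toUnit_unique (g ≫ toUnit G) (𝟙 _),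
      Category.id_comp]
  have hwm : ∀ g h, zv w (g * h) = matPtOf M g *ᵥ zv w h := fun g h => by
    obtain ⟨A, hA⟩ := hmove g
    have h1 : zv z (g * h) = ∑ i, zv w h i • zv z (g * h₀ i) := by
      rw [hA]
      conv_lhs => rw [hz h]
      rw [Matrix.mulVec_sum]
      exact Finset.sum_congr rfl fun i _ => by rw [Matrix.mulVec_smul, hA]
    rw [← hw, h1, map_sum]
    ext l
    simp only [map_smul, hw, Finset.sum_apply, Pi.smul_apply, smul_eq_mul, Matrix.mulVec, dotProduct, hM]
    exact Finset.sum_congr rfl fun i _ => mul_comm _ _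
  refine ⟨m, w, M, h₀, π, isRepMatrix_of_pts (fun g g' => ?_) ?_, hwb, hwm, hw, hz⟩
  · ext l i
    show matPtOf M (g * g') l i = (matPtOf M g * matPtOf M g') l i
    rw [hM, _root_.mul_assoc, hwm, Matrix.mul_apply]
    simp only [hM g', Matrix.mulVec, dotProduct]
  · ext l i
    show matPtOf M (1 : Pt G) l i = _
    rw [hM, _root_.one_mul, hwb, Matrix.one_apply, Pi.single_apply]

/-- Proportional coordinates of a point. -/
theorem crd_smul {n : ℕ} {x : Pt (Agent.GrpSchLib.ProjLine.Pn k n)} {v w : Fin (n + 1) → k} (hv : HasCrd x v)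
    (hw : HasCrd x w) : ∃ c : k, c ≠ 0 ∧ w = c • v := by
  obtain ⟨i, hi⟩ := Function.ne_iff.mp hv.ne_zero
  have h := (hv.eq_iff hw).mp rfl
  have e : w = (w i / v i) • v := funext fun p => by
    rw [Pi.smul_apply, smul_eq_mul, div_mul_eq_mul_div, eq_div_iff hi, mul_comm (w p), h i p, mul_comm]
  refine ⟨w i / v i, fun hc => hw.ne_zero ?_, e⟩
  rw [e, hc, zero_smul]

/-- Multiplicative functions on a connected group without subtori are trivial. -/
theorem char_trivial {U : Over (Spec (CommRingCat.of k))} [GrpObj U] [IsAffine U.left] [Smooth U.hom]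
    [ConnectedSpace U.left] (hU : Red.HasNoSubtorus k U) (f : Fn U)
    (hmul : ∀ x y : Pt U, evPt (x * y) f = evPt x f * evPt y f) (hone : evPt (1 : Pt U) f = 1) (x : Pt U) :
    evPt x f = 1 := by
  haveI := Borel.isNilpotent_pts_of_noSubtorus U hU
  haveI : Group.IsSolvable (Pt U) := inferInstance
  obtain ⟨T₁, gT₁, i₁, hu, π, hπ, -, hchar, -⟩ := Borel.exists_levi U
  obtain ⟨him, hic, hT₁, -⟩ := id hu
  haveI := him; haveI := hic
  haveI : Mono i₁ := (Over.forget _).mono_of_mono_map (inferInstanceAs (Mono i₁.left))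
  exact hchar f (fun a b => hmul a b) hone x (Borel.pts_eq_one_of_isTrivialGrp (hU T₁ i₁ hT₁) _)

/-- Eigenvectors of connected groups without subtori are fixed. -/
theorem eigen_fixed {U : Over (Spec (CommRingCat.of k))} [GrpObj U] [IsAffine U.left] [Smooth U.hom]
    [ConnectedSpace U.left] (hU : Red.HasNoSubtorus k U) {n : ℕ} {N : Matrix (Fin (n + 1)) (Fin (n + 1)) (Fn U)}
    (hN : IsRepMatrix N) {v : Fin (n + 1) → k} (hv : v ≠ 0) (heig : ∀ u, ∃ c : k, matPtOf N u *ᵥ v = c • v)
    (u : Pt U) : matPtOf N u *ᵥ v = v := by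
  obtain ⟨i, hi : v i ≠ 0⟩ := Function.ne_iff.mp hv
  choose c hc using heig
  let f : Fn U := (v i)⁻¹ • ∑ s, v s • N i s
  have hf : ∀ u, evPt u f = c u := fun u => by
    simp only [f, map_smul, map_sum, smul_eq_mul]
    rw [inv_mul_eq_iff_eq_mul₀ hi, mul_comm]
    have h := congrFun (hc u) i
    simp only [Matrix.mulVec, dotProduct, Pi.smul_apply, smul_eq_mul] at h
    rw [← h]
    exact Finset.sum_congr rfl fun s _ => mul_comm _ _
  have hcm : ∀ a b, c (a * b) = c a * c b := fun a b => by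
    have h : c (a * b) • v = (c a * c b) • v := by
      rw [← hc, Borel.matPtOf_mul hN, ← Matrix.mulVec_mulVec, hc, Matrix.mulVec_smul, hc, smul_smul, mul_comm]
    exact mul_right_cancel₀ hi (congrFun h i)
  have h1 : c 1 = 1 := by
    have h : c 1 • v = (1 : k) • v := by rw [← hc, Borel.matPtOf_one hN, Matrix.one_mulVec, one_smul]
    exact mul_right_cancel₀ hi (congrFun h i)
  rw [hc, ← hf, char_trivial hU f (fun a b => by rw [hf, hf, hf, hcm]) (by rw [hf, h1]) u, one_smul]

end

end Groth.Agent.Deform.Luna
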