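import Groth.Agent.Deform.Luna.SolvLocus
import Groth.Agent.AlgSpDec.ConstrDescent
import Groth.Agent.ConsPropLib.Loci
import Groth.Agent.S12442

/-!
# The loci of solvable and nilpotent geometric fibres are locally constructible
-/

set_option autoImplicit false

universe u

open CategoryTheory CategoryTheory.Limits MonoidalCategory CartesianMonoidalCategory MonObj GrpObj AlgebraicGeometry
  Topology

attribute [local instance] CategoryTheory.Hom.monoid CategoryTheory.Hom.group
set_option linter.style.haveILetI false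

namespace Groth.Agent.Deform.Luna.SolvConstr

noncomputable section

open Chev SolvWords SolvLocus

variable {S : Scheme.{u}} {G W : Over S} [GrpObj G]

/-- The unit section of a base change has the full preimage as range. -/
theorem range_one_bc {T : Scheme.{u}} (t : T ⟶ S) :
    Set.range η[Red.bc t G].left = pullback.fst G.hom t ⁻¹' Set.range η[G].left := by
  have e1 : η[Red.bc t G].left ≫ pullback.fst G.hom t = t ≫ η[G].left := by
    have h1 : ((Over.pullback t).map η[G]).left ≫ pullback.fst G.hom t =
        pullback.fst (𝟙_ (Over S)).hom t ≫ η[G].left := pullback.lift_fst _ _ _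
    have h2 : pullback.fst (𝟙_ (Over S)).hom t = pullback.snd (𝟙_ (Over S)).hom t ≫ t := by
      rw [← pullback.condition]
      exact (Category.comp_id _).symm
    have h3 := Over.w (Functor.LaxMonoidal.ε (Over.pullback t))
    show (Functor.LaxMonoidal.ε (Over.pullback t) ≫ (Over.pullback t).map η[G]).left ≫ pullback.fst G.hom t = _
    rw [Over.comp_left, Category.assoc, h1, h2]
    have h4 : (Functor.LaxMonoidal.ε (Over.pullback t)).left ≫ pullback.snd (𝟙_ (Over S)).hom t = 𝟙 T := h3
    rw [← Category.assoc, ← Category.assoc]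
    exact (congrArg (fun z => (z ≫ t) ≫ η[G].left) h4).trans (congrArg (· ≫ η[G].left) (Category.id_comp t))
  have e2 : η[Red.bc t G].left ≫ pullback.snd G.hom t = 𝟙 T := Over.w η[Red.bc t G]
  have e3 : η[G].left ≫ G.hom = 𝟙 S := Over.w η[G]
  refine Set.Subset.antisymm ?_ ?_
  · rintro _ ⟨z, rfl⟩
    refine ⟨t z, ?_⟩
    exact (congrArg (fun φ : T ⟶ G.left => φ z) e1).symm
  · intro p hp
    rw [← Scheme.Pullback.range_fst] at hp
    obtain ⟨z, rfl⟩ := hp
    let m : pullback (pullback.fst G.hom t) η[G].left ⟶ T :=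
      pullback.fst (pullback.fst G.hom t) η[G].left ≫ pullback.snd G.hom t
    have hm : pullback.fst (pullback.fst G.hom t) η[G].left = m ≫ η[Red.bc t G].left := by
      have hmt : m ≫ t = pullback.snd (pullback.fst G.hom t) η[G].left := by
        rw [Category.assoc, ← pullback.condition, pullback.condition_assoc]
        exact (congrArg (pullback.snd (pullback.fst G.hom t) η[G].left ≫ ·) e3).trans (Category.comp_id _)
      apply pullback.hom_ext
      · refine Eq.trans ?_ ((congrArg (m ≫ ·) e1).symm.trans (Category.assoc _ _ _).symm)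
        rw [← Category.assoc, hmt]
        exact pullback.condition
      · exact ((congrArg (m ≫ ·) e2).trans (Category.comp_id _)).symm.trans (Category.assoc _ _ _).symm
    exact ⟨m z, (congrArg (fun φ : _ ⟶ pullback G.hom t => φ z) hm).symm⟩

/-- Triviality of a word over a point is seen on points over an algebraically closed field. -/
theorem mem_trivLocus_iff' [LocallyOfFiniteType W.hom] [LocallyOfFiniteType G.hom] (w : W ⟶ G) {k : Type u} [Field k]
    [IsAlgClosed k] (t : Spec (CommRingCat.of k) ⟶ S) :
    t (IsLocalRing.closedPoint k) ∈ trivLocus w ↔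
      ∀ x : (Over.map t).obj (𝟙_ (Over (Spec (CommRingCat.of k)))) ⟶ W, x ≫ w = 1 := by
  let F : Over (Spec (CommRingCat.of k)) := Red.bc t W
  let wF : F ⟶ Red.bc t G := (Over.pullback t).map w
  haveI : LocallyOfFiniteType F.hom := MorphismProperty.pullback_snd W.hom t inferInstance
  haveI : LocallyOfFiniteType (Red.bc t G).hom := MorphismProperty.pullback_snd G.hom t inferInstance
  haveI := GrpSchLib.AntiAffine.isSeparated_grp (Red.bc t G)
  haveI := SolvLocus.isClosedImmersion_one (Red.bc t G)
  have hwF : ∀ p : F.left, wF.left p ∈ Set.range η[Red.bc t G].left ↔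
      w.left (pullback.fst W.hom t p) ∈ Set.range η[G].left := fun p => by
    rw [range_one_bc, Set.mem_preimage]
    have e : wF.left ≫ pullback.fst G.hom t = pullback.fst W.hom t ≫ w.left := pullback.lift_fst _ _ _
    exact iff_of_eq (congrArg (· ∈ Set.range η[G].left) (congrArg (fun φ : F.left ⟶ G.left => φ p) e))
  have hpt : ∀ x : (Over.map t).obj (𝟙_ (Over (Spec (CommRingCat.of k)))) ⟶ W,
      ptsEquiv t _ (x ≫ w) = (Over.mapPullbackAdj t).homEquiv _ W x ≫ wF := fun x =>
    (Over.mapPullbackAdj t).homEquiv_naturality_right x w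
  constructor
  · intro h x
    apply (ptsEquiv (G := G) t _).injective
    rw [map_one, hpt]
    obtain ⟨z, hz⟩ := (hwF (pimg (G := F) ((Over.mapPullbackAdj t).homEquiv _ W x))).mpr (h _ (by
      rw [← Scheme.Hom.comp_apply, pullback.condition, Scheme.Hom.comp_apply]
      exact congrArg t (Subsingleton.elim (α := Spec (CommRingCat.of k)) _ _)))
    refine pimg_injective (G := Red.bc t G) ?_
    rw [← MonObj.one_eq_one]
    exact hz.symm.trans (congrArg _ (Subsingleton.elim (α := Spec (CommRingCat.of k)) _ _))
  · intro h p hp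
    by_contra hn
    obtain ⟨q, hq, -⟩ := Scheme.Pullback.exists_preimage_pullback (f := W.hom) (g := t) p (IsLocalRing.closedPoint k) hp
    have hA : IsClosed (wF.left ⁻¹' Set.range η[Red.bc t G].left) :=
      η[Red.bc t G].left.isClosedEmbedding.isClosed_range.preimage wF.left.continuous
    obtain ⟨g, hg⟩ := exists_pt (G := F) (S := (wF.left ⁻¹' Set.range η[Red.bc t G].left)ᶜ)
      ⟨q, fun hqA => hn (hq ▸ (hwF q).mp hqA)⟩ hA.isOpen_compl.isLocallyClosed
    obtain ⟨x, rfl⟩ := ((Over.mapPullbackAdj t).homEquiv _ W).surjective g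
    refine hg ⟨IsLocalRing.closedPoint k, ?_⟩
    have h2 := hpt x
    rw [h x, map_one, ← MonObj.one_eq_one] at h2
    exact congrArg pimg h2

theorem isLocallyConstructible_trivLocus [LocallyOfFinitePresentation W.hom] [QuasiCompact W.hom]
    [LocallyOfFiniteType G.hom] [QuasiSeparated G.hom] (w : W ⟶ G) : IsLocallyConstructible (trivLocus w) := by
  have hS : η[G].left ≫ G.hom = 𝟙 S := Over.w η[G]
  haveI : LocallyOfFinitePresentation (η[G].left ≫ G.hom) := by rw [hS]; exact inferInstanceAs (LocallyOfFinitePresentation (𝟙 S))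
  haveI : QuasiCompact (η[G].left ≫ G.hom) := by rw [hS]; exact inferInstanceAs (QuasiCompact (𝟙 S))
  haveI : LocallyOfFinitePresentation η[G].left := S12442.locallyOfFinitePresentation_of_comp η[G].left G.hom
  haveI : QuasiCompact η[G].left := QuasiCompact.of_comp η[G].left G.hom
  have hcompl : ∀ {Z : Scheme.{u}} {E : Set Z}, IsLocallyConstructible E → IsLocallyConstructible Eᶜ := fun {Z E} hE =>
    ConsPropLib.lc_of_affine fun V hV => by
      haveI : IsAffine (V : Scheme.{u}) := hV
      rw [Set.preimage_compl]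
      exact (hE.preimage_of_isOpenEmbedding V.ι.isOpenEmbedding).isConstructible.compl
  have h : (trivLocus w)ᶜ = W.hom '' (w.left ⁻¹' Set.range η[G].left)ᶜ := by
    ext s
    simp only [trivLocus, Set.mem_compl_iff, Set.mem_setOf_eq, not_forall, Set.mem_image, Set.mem_preimage, exists_prop]
    constructor
    · rintro ⟨p, hp, hn⟩; exact ⟨p, hn, hp⟩
    · rintro ⟨p, hn, hp⟩; exact ⟨p, hp, hn⟩
  rw [← compl_compl (trivLocus w), h, ← Set.image_univ]
  exact hcompl (W.hom.isLocallyConstructible_image (hcompl (AlgSpDec.isLocallyConstructible_preimage_hom w.left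
    (η[G].left.isLocallyConstructible_image IsConstructible.univ.isLocallyConstructible))))

theorem fp_dObj [LocallyOfFinitePresentation G.hom] [QuasiCompact G.hom] :
    ∀ n, LocallyOfFinitePresentation (dObj G n).hom ∧ QuasiCompact (dObj G n).hom
  | 0 => ⟨‹_›, ‹_›⟩
  | n + 1 => by
    obtain ⟨_, _⟩ := fp_dObj n
    change LocallyOfFinitePresentation (dObj G n ⊗ dObj G n).hom ∧ QuasiCompact (dObj G n ⊗ dObj G n).hom
    rw [Over.tensorObj_hom]
    exact ⟨inferInstance, inferInstance⟩

theorem fp_cObj [LocallyOfFinitePresentation G.hom] [QuasiCompact G.hom] :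
    ∀ n, LocallyOfFinitePresentation (cObj G n).hom ∧ QuasiCompact (cObj G n).hom
  | 0 => ⟨‹_›, ‹_›⟩
  | n + 1 => by
    obtain ⟨_, _⟩ := fp_cObj n
    change LocallyOfFinitePresentation (cObj G n ⊗ G).hom ∧ QuasiCompact (cObj G n ⊗ G).hom
    rw [Over.tensorObj_hom]
    exact ⟨inferInstance, inferInstance⟩

theorem smooth_geomFibre (s : S) (hs : Smooth (G.hom.fiberToSpecResidueField s)) :
    Smooth (Red.geomFibre s G).hom := by
  let b : Spec (CommRingCat.of (AlgebraicClosure (S.residueField s))) ⟶ Spec (S.residueField s) :=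
    Spec.map (CommRingCat.ofHom (algebraMap (S.residueField s) (AlgebraicClosure (S.residueField s))))
  haveI : Smooth (pullback.snd (G.hom.fiberToSpecResidueField s) b) := MorphismProperty.pullback_snd _ _ hs
  let e := ((IsPullback.of_hasPullback (G.hom.fiberToSpecResidueField s) b).paste_horiz
    (IsPullback.of_hasPullback G.hom (S.fromSpecResidueField s))).isoPullback
  have he : e.hom ≫ (Red.geomFibre s G).hom = pullback.snd (G.hom.fiberToSpecResidueField s) b :=
    IsPullback.isoPullback_hom_snd _
  rw [show (Red.geomFibre s G).hom = e.inv ≫ pullback.snd (G.hom.fiberToSpecResidueField s) b by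
    rw [← he, Iso.inv_hom_id_assoc]]
  exact (MorphismProperty.cancel_left_of_respectsIso @Smooth e.inv _).mpr inferInstance

/-- The class of the geometric fibres is bounded over an affine open, with smoothness only on the fibres. -/
theorem exists_class' (G : Over S) [GrpObj G] [LocallyOfFinitePresentation G.hom] [QuasiCompact G.hom]
    [QuasiSeparated G.hom] (hsm : ∀ s : S, Smooth (G.hom.fiberToSpecResidueField s)) {U : S.Opens}
    (hU : IsAffineOpen U) : ∃ N : ℕ, ∀ s ∈ U,
      (Red.IsSolvableGrp (Red.geomFibre s G) ↔ s ∈ trivLocus (dWord G N)) ∧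
        (AGF.IsNilpotentGrp (Red.geomFibre s G) ↔ s ∈ trivLocus (cWord G N)) := by
  obtain ⟨d, hd⟩ := SolvDim.exists_chainBound G.hom hU
  obtain ⟨m, hm⟩ := SolvDim.exists_card_le G.hom hU
  refine ⟨m + (d + 1), fun s hs => ?_⟩
  obtain ⟨_, _⟩ := fp_dObj (G := G) (m + (d + 1))
  obtain ⟨_, _⟩ := fp_cObj (G := G) (m + (d + 1))
  have hs' : Red.geomPt s (IsLocalRing.closedPoint (AlgebraicClosure (S.residueField s))) ∈ U := by
    rw [geomPt_apply]; exact hs
  have key : ∀ (k : Type u) [Field k] [IsAlgClosed k] (t : Spec (CommRingCat.of k) ⟶ S),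
      t (IsLocalRing.closedPoint k) ∈ U → Smooth (Red.bc t G).hom →
      (Red.IsSolvableGrp (Red.bc t G) ↔ t (IsLocalRing.closedPoint k) ∈ trivLocus (dWord G (m + (d + 1)))) ∧
        (AGF.IsNilpotentGrp (Red.bc t G) ↔ t (IsLocalRing.closedPoint k) ∈ trivLocus (cWord G (m + (d + 1)))) := by
    intro k _ _ t ht hsmooth
    haveI := hsmooth
    haveI : QuasiCompact (Red.bc t G).hom := MorphismProperty.pullback_snd G.hom t inferInstance
    haveI := GrpSchLib.AntiAffine.isSeparated_grp (Red.bc t G)
    constructor
    · rw [SolvPts.isSolvableGrp_iff (hd k t ht) (hm k t ht), ← derivedSeries_congr (ptsEquiv t _),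
        SolvWords.derivedSeries_eq_bot_iff, mem_trivLocus_iff']
    · rw [SolvPts.isNilpotentGrp_iff (hd k t ht) (hm k t ht), ← lowerCentralSeries_congr (ptsEquiv t _),
        SolvWords.lowerCentralSeries_eq_bot_iff, mem_trivLocus_iff']
  have h := key _ (Red.geomPt s) hs' (smooth_geomFibre s (hsm s))
  rw [geomPt_apply] at h
  exact h

/-- **The solvable and the nilpotent loci are locally constructible.** -/
theorem isLocallyConstructible_loci (G : Over S) [GrpObj G] [LocallyOfFinitePresentation G.hom] [QuasiCompact G.hom]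
    [QuasiSeparated G.hom] (hsm : ∀ s : S, Smooth (G.hom.fiberToSpecResidueField s)) :
    IsLocallyConstructible {s : S | Red.IsSolvableGrp (Red.geomFibre s G)} ∧
      IsLocallyConstructible {s : S | AGF.IsNilpotentGrp (Red.geomFibre s G)} := by
  constructor <;> refine ConsPropLib.lc_of_affine fun V hV => ?_
  all_goals haveI : IsAffine (V : Scheme.{u}) := hV
  all_goals obtain ⟨N, hN⟩ := exists_class' G hsm hV
  · obtain ⟨_, _⟩ := fp_dObj (G := G) N
    rw [show V.ι ⁻¹' {s : S | Red.IsSolvableGrp (Red.geomFibre s G)} = V.ι ⁻¹' trivLocus (dWord G N) from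
      Set.ext fun v => (hN _ v.2).1]
    exact ((isLocallyConstructible_trivLocus _).preimage_of_isOpenEmbedding V.ι.isOpenEmbedding).isConstructible
  · obtain ⟨_, _⟩ := fp_cObj (G := G) N
    rw [show V.ι ⁻¹' {s : S | AGF.IsNilpotentGrp (Red.geomFibre s G)} = V.ι ⁻¹' trivLocus (cWord G N) from
      Set.ext fun v => (hN _ v.2).2]
    exact ((isLocallyConstructible_trivLocus _).preimage_of_isOpenEmbedding V.ι.isOpenEmbedding).isConstructible

end

end Groth.Agent.Deform.Luna.SolvConstr
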