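import Groth.Agent.Deform.Borel.ImageTorus
import Groth.Agent.Deform.Borel.ImageCartan
import Groth.Agent.Deform.Borel.NonAffine
import Groth.Agent.Deform.Borel.Cartan
import Groth.Agent.Deform.Luna.TorusImage

/-!
# Images of maximal tori under surjective homomorphisms of smooth groups
-/

universe u

open CategoryTheory CategoryTheory.Limits MonoidalCategory CartesianMonoidalCategory MonObj GrpObj AlgebraicGeometry

attribute [local instance] CategoryTheory.Hom.monoid CategoryTheory.Hom.group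
set_option linter.style.haveILetI false

namespace Groth.Agent.Deform.Luna

open Chev (Pt pimg)

noncomputable section

variable {k : Type u} [Field k] [IsAlgClosed k] {G Q : Over (Spec (CommRingCat.of k))} [GrpObj G] [GrpObj Q]
  [Smooth G.hom] [QuasiCompact G.hom]

set_option maxHeartbeats 1000000 in
/-- The identity component of the preimage of a closed connected subgroup surjects onto it. -/
theorem exists_preimage_conn (q : G ⟶ Q) [IsMonHom q] [Surjective q.left] [LocallyOfFiniteType Q.hom]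
    {R : Over (Spec (CommRingCat.of k))} [GrpObj R] (j : R ⟶ Q) [IsMonHom j] [IsClosedImmersion j.left]
    [Smooth R.hom] [QuasiCompact R.hom] [ConnectedSpace R.left] :
    ∃ (J : Over (Spec (CommRingCat.of k))) (_ : GrpObj J) (c : J ⟶ G) (v : J ⟶ R), IsMonHom c ∧
      IsClosedImmersion c.left ∧ Smooth J.hom ∧ QuasiCompact J.hom ∧ ConnectedSpace J.left ∧ IsMonHom v ∧
      v ≫ j = c ≫ q ∧ Surjective v.left ∧
      ∀ (T : Over (Spec (CommRingCat.of k))) [GrpObj T] [Smooth T.hom] [ConnectedSpace T.left] (f : T ⟶ G)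
        [IsMonHom f], (∃ r : T ⟶ R, r ≫ j = f ≫ q) → ∃ f' : T ⟶ J, IsMonHom f' ∧ f' ≫ c = f := by
  classical
  haveI : Mono j := (Over.forget _).mono_of_mono_map (inferInstanceAs (Mono j.left))
  let H : Subgroup (Pt G) := (Borel.ptsMap j).range.comap (Borel.ptsMap q)
  have hH : ∀ g : Pt G, g ∈ H ↔ ∃ y : Pt R, y ≫ j = g ≫ q := fun g => Iff.rfl
  obtain ⟨J, gJ, c, hc, hcc, hJs, hJq, hJc, hJH, ⟨s, hs⟩, hlift⟩ :=
    Borel.exists_neutral_fin H (C := q.left ⁻¹' Set.range j.left)
      (j.left.isClosedEmbedding.isClosed_range.preimage q.left.continuous) fun g =>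
      ⟨fun h => Borel.exists_lift_pt j (p := g ≫ q) (by rw [Chev.pimg_comp]; exact h),
        fun ⟨y, hy⟩ => ⟨pimg y, by rw [← Chev.pimg_comp, show y ≫ j = g ≫ q from hy, Chev.pimg_comp]⟩⟩
  haveI := hc; haveI := hcc; haveI := hJs; haveI := hJq; haveI := hJc
  haveI : IsReduced J.left := GrpSchLib.isReduced_of_smooth_field J.hom
  obtain ⟨v, hv⟩ := Chev.exists_lift_range j (c ≫ q)
    (Chev.mem_of_pts _ j.left.isClosedEmbedding.isClosed_range fun x => by
      obtain ⟨y, hy⟩ := hJH x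
      exact ⟨pimg y, by rw [← Chev.pimg_comp, ← Category.assoc]; exact congrArg pimg hy⟩)
  haveI : IsMonHom v := Deform.isMonHom_of_comp v j (i := c ≫ q) hv
  let sel : Pt G → Pt R := fun r => if h : ∃ y : Pt R, y ≫ j = r ≫ q then h.choose⁻¹ else 1
  haveI : Surjective v.left := Borel.surjective_of_cosets v (s.image sel) fun y => by
    obtain ⟨g, hg⟩ := Borel.exists_pt_over q (y⁻¹ ≫ j)
    obtain ⟨r, hr, x, hx⟩ := hs g ((hH g).mpr ⟨y⁻¹, hg.symm⟩)
    have hr' : ∃ y' : Pt R, y' ≫ j = r ≫ q := (hH r).mp (by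
      rw [show r = (x ≫ c)⁻¹ * g by rw [← hx, inv_mul_cancel_left]]
      exact mul_mem (inv_mem (hJH x)) ((hH g).mpr ⟨y⁻¹, hg.symm⟩))
    refine ⟨sel r, Finset.mem_image_of_mem _ hr, x⁻¹, (cancel_mono j).mp ?_⟩
    have h1 : (r ≫ q)⁻¹ * ((x ≫ c) ≫ q)⁻¹ = y ≫ j := by
      rw [← _root_.mul_inv_rev, ← MonObj.mul_comp, hx, hg, GrpObj.inv_comp, _root_.inv_inv]
    rw [← h1, MonObj.mul_comp, show sel r = hr'.choose⁻¹ from dif_pos hr', GrpObj.inv_comp, hr'.choose_spec,
      Category.assoc, hv, GrpObj.inv_comp, Category.assoc]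
  refine ⟨J, gJ, c, v, hc, hcc, hJs, hJq, hJc, inferInstance, hv, inferInstance, fun T _ _ _ f _ ⟨r, hr⟩ =>
    hlift T f fun t => (hH _).mpr ⟨t ≫ r, ?_⟩⟩
  rw [Category.assoc, hr, Category.assoc]

set_option maxHeartbeats 1000000 in
/-- **The image of a maximal torus under a surjection of smooth groups is a maximal torus.** -/
theorem isMaxTorus_image_gen [Smooth Q.hom] [QuasiCompact Q.hom] (q : G ⟶ Q) [IsMonHom q] [Surjective q.left]
    {T T' : Over (Spec (CommRingCat.of k))} [GrpObj T] [GrpObj T'] {i : T ⟶ G} (hi : AGF.IsMaxTorus i)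
    (i' : T' ⟶ Q) [IsMonHom i'] [IsClosedImmersion i'.left] (hT' : Red.IsTorus T') (p : T ⟶ T') [Surjective p.left]
    (hp : p ≫ i' = i ≫ q) : AGF.IsMaxTorus i' := by
  haveI : Mono i' := (Over.forget _).mono_of_mono_map (inferInstanceAs (Mono i'.left))
  refine ⟨inferInstance, inferInstance, hT', fun R _ j _ _ f hR hf => ?_⟩
  obtain ⟨him, himo, hT, himax⟩ := id hi
  haveI := him; haveI := himo
  obtain ⟨hTa, hTl, hTs, hTc⟩ := Deform.TorusBasic.props hT
  haveI := hTs; haveI := hTc; haveI := hTa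
  obtain ⟨hRa, hRl, hRs, hRc⟩ := Deform.TorusBasic.props hR
  haveI := hRs; haveI := hRc; haveI := hRa
  obtain ⟨hT'a, hT'l, hT's, hT'c⟩ := Deform.TorusBasic.props hT'
  haveI := hT's; haveI := hT'a
  haveI : IsAffineHom R.hom := isAffineHom_of_isAffine _
  haveI : IsAffineHom T'.hom := isAffineHom_of_isAffine _
  haveI : IsClosedImmersion j.left := Borel.isClosedImmersion_of_mono j
  haveI : IsMonHom f := Deform.isMonHom_of_comp f j (i := i') hf
  haveI : Mono (f ≫ j) := by rw [hf]; infer_instance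
  haveI : Mono f := mono_of_mono f j
  haveI : IsClosedImmersion f.left := Borel.isClosedImmersion_of_mono f
  haveI : IsReduced T'.left := GrpSchLib.isReduced_of_smooth_field T'.hom
  obtain ⟨J, gJ, c, v, hc, hcc, hJs, hJq, hJc, hv, hvj, hvs, hlift⟩ := exists_preimage_conn q j
  haveI := hc; haveI := hcc; haveI := hJs; haveI := hJq; haveI := hJc; haveI := hv; haveI := hvs
  haveI : Mono c := (Over.forget _).mono_of_mono_map (inferInstanceAs (Mono c.left))
  obtain ⟨N, gN, ν, A, gA, qd, hν, hνc, hNs, hNq, hNc, hNa, -, hqd, hqdf, hqds, hk, hA, hAs, hAc⟩ :=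
    Chev.exists_decomp (G := J)
  haveI := hν; haveI := hνc; haveI := hNs; haveI := hNq; haveI := hNc; haveI := hNa; haveI := hqd; haveI := hqds
  haveI := hA; haveI := hAc
  obtain ⟨K, gK, κ, hκ, hκc, hKl, hKq, hKb, I, gI, pI, hpI, hI, hIl, hpIf, hpIs, hkp⟩ := AntiAffineParts.exists_ant J
  haveI := hκ; haveI := hκc; haveI := hKl; haveI := hKq; haveI := hpI; haveI := hI; haveI := hIl; haveI := hpIf
  haveI := hpIs
  haveI := AntiAffineParts.surjective_proper hKb κ pI hkp qd
  haveI := AntiAffineParts.surjective_mul ν qd hk κ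
  haveI : LocallyOfFiniteType (N ⊗ K).hom :=
    inferInstanceAs (LocallyOfFiniteType (pullback.fst N.hom K.hom ≫ N.hom))
  -- the affine part surjects onto the torus
  have hKv : κ ≫ v = 1 := AntiAffineParts.eq_one_of_isAffine hKb (κ ≫ v) (IsMonHom.one_hom (κ ≫ v) |>.trans
    (MonObj.one_eq_one R).symm)
  haveI : Surjective (ν ≫ v).left := Borel.surjective_of_cosets (ν ≫ v) {1} fun w => by
    obtain ⟨x, hx⟩ := Borel.exists_pt_over v w
    obtain ⟨y, hy⟩ := Borel.exists_pt_over ((ν ⊗ₘ κ) ≫ μ[J]) x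
    refine ⟨1, Finset.mem_singleton_self _, y ≫ fst N K, ?_⟩
    have h1 : (y ≫ fst N K ≫ ν) * (y ≫ snd N K ≫ κ) = x := by
      rw [← hy, ← MonObj.comp_mul, Hom.mul_def]
      congr 2
    rw [← hx, ← h1, MonObj.mul_comp, Category.assoc y (snd N K ≫ κ), Category.assoc (snd N K), hKv]
    simp only [MonObj.comp_one, _root_.mul_one, _root_.one_mul, Category.assoc]
  -- the torus lifts to the affine part
  obtain ⟨t, ht, htc⟩ := hlift T i ⟨p ≫ f, by rw [Category.assoc, hf, hp]⟩
  haveI := ht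
  obtain ⟨tN, htN⟩ := Chev.exists_lift_kernel ν qd hk t (AVFactor.eq_one_of_affine (t ≫ qd))
  haveI : Mono ν := (Over.forget _).mono_of_mono_map (inferInstanceAs (Mono ν.left))
  haveI : IsMonHom tN := Deform.isMonHom_of_comp tN ν (i := t) htN
  haveI : Mono (tN ≫ ν ≫ c) := by rw [reassoc_of% htN, htc]; infer_instance
  haveI : Mono tN := mono_of_mono tN (ν ≫ c)
  have hmaxN : AGF.IsMaxTorus tN := ⟨inferInstance, inferInstance, hT, fun T₀ _ j₀ _ _ d hT₀ hd =>
    himax T₀ (j₀ ≫ ν ≫ c) d hT₀ (by rw [reassoc_of% hd, reassoc_of% htN, htc])⟩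
  have hfmax := Borel.isMaxTorus_image (ν ≫ v) hmaxN f p (by
    rw [← cancel_mono j, Category.assoc, hf, hp, reassoc_of% htN, Category.assoc, hvj, reassoc_of% htc])
  exact hfmax.2.2.2 R (𝟙 R) f hR (Category.comp_id f)

end

end Groth.Agent.Deform.Luna
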